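import Cfsg.Agent.LargeExtraspecial.Decomposition
import Cfsg.Agent.Components.FStar
import Cfsg.Prelude.Def_CaseTheorems

/-!
# Large extraspecial subgroups in sections `H / N`
-/

set_option autoImplicit false
set_option linter.style.haveILetI false

open scoped commutatorElement

namespace CfsgLib.LargeExtraspecial

/-- Recognition of an extraspecial 2-subgroup by commutators, squares and centre. -/
theorem isExtraspecial_of_props {K : Type*} [Group K] [Finite K] {T : Subgroup K} {z : K}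
    (hT : IsPGroup 2 T) (hz : orderOf z = 2) (hzT : z ∈ T) (hzc : ∀ x ∈ T, x * z = z * x)
    (hsq : ∀ x ∈ T, x * x = 1 ∨ x * x = z)
    (hcm : ∀ x ∈ T, ∀ y ∈ T, x * y * x⁻¹ * y⁻¹ = 1 ∨ x * y * x⁻¹ * y⁻¹ = z)
    (hcen : ∀ x ∈ T, (∀ y ∈ T, y * x = x * y) → x = 1 ∨ x = z)
    (hne : ∃ x ∈ T, ∃ y ∈ T, x * y ≠ y * x) :
    Cfsg.IsExtraspecial 2 T ∧ (Subgroup.center T).map T.subtype = Subgroup.zpowers z := by
  haveI : Fact (Nat.Prime 2) := ⟨Nat.prime_two⟩
  obtain ⟨x, hx, y, hy, hxy⟩ := hne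
  have hxyz : x * y * x⁻¹ * y⁻¹ = z := (hcm x hx y hy).resolve_left fun e =>
    hxy (mul_inv_eq_iff_eq_mul.mp (mul_inv_eq_one.mp e))
  have hmem : ∀ t : T, t ∈ Subgroup.center T ↔ (t : K) = 1 ∨ (t : K) = z := by
    intro t
    refine ⟨fun ht => hcen t t.2 fun u hu =>
      congrArg Subtype.val (Subgroup.mem_center_iff.mp ht ⟨u, hu⟩), ?_⟩
    rintro (e | e)
    · rw [show t = 1 from Subtype.ext e]; exact one_mem _
    · rw [show t = ⟨z, hzT⟩ from Subtype.ext e]
      exact Subgroup.mem_center_iff.mpr fun u => Subtype.ext (hzc u u.2)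
  have hcz : Subgroup.center T = Subgroup.zpowers (⟨z, hzT⟩ : T) := by
    refine le_antisymm (fun t ht => ?_) (Subgroup.zpowers_le.mpr ((hmem _).mpr (Or.inr rfl)))
    rcases (hmem t).mp ht with e | e
    · rw [show t = 1 from Subtype.ext e]; exact one_mem _
    · rw [show t = ⟨z, hzT⟩ from Subtype.ext e]; exact Subgroup.mem_zpowers _
  have hcard : Nat.card (Subgroup.center T) = 2 := by
    rw [hcz, Nat.card_zpowers, Subgroup.orderOf_mk, hz]
  have hcomm : commutator T = Subgroup.center T := by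
    refine le_antisymm ?_ ?_
    · rw [commutator_def, Subgroup.commutator_le]
      intro a _ b _
      refine (hmem _).mpr ?_
      simpa [commutatorElement_def] using hcm a a.2 b b.2
    · rw [hcz, Subgroup.zpowers_le, commutator_def]
      rw [show (⟨z, hzT⟩ : T) = ⁅(⟨x, hx⟩ : T), ⟨y, hy⟩⁆ from Subtype.ext (by
        simp [commutatorElement_def, hxyz])]
      exact Subgroup.commutator_mem_commutator (Subgroup.mem_top _) (Subgroup.mem_top _)
  refine ⟨⟨⟨hT, le_antisymm (CfsgLib.Solvable.frattini_le_of_elementary (p := 2) hcomm.le ?_)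
    (hcomm ▸ CfsgLib.Solvable.commutator_le_frattini (p := 2) hT), hcomm⟩, hcard⟩, ?_⟩
  · intro t
    refine (hmem _).mpr ?_
    simpa [sq] using hsq t t.2
  · rw [hcz, MonoidHom.map_zpowers]; rfl

variable {G : Type*} [Group G] [Finite G]

/-- The image of `R` in `H / N` is large extraspecial; `T` is a 2-subgroup whose image witnesses
that the central involution lies in the 2-core of the centralizer of the image of `s`. -/
theorem isLarge_image {H N R T : Subgroup G} {z s : G} [(N.subgroupOf H).Normal]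
    (hRH : R ≤ H) (hTH : T ≤ H) (hR2 : IsPGroup 2 R) (hT2 : IsPGroup 2 T)
    (hzR : z ∈ R) (hsR : s ∈ R) (hzT : z ∈ T)
    (hzz : z * z = 1) (hss : s * s = 1) (hzN : z ∉ N) (hsN : s ∉ N) (hzsN : z * s ∉ N)
    (hzc : ∀ x ∈ R, x * z = z * x) (hTs : ∀ x ∈ T, x * s = s * x)
    (hsq : ∀ x ∈ R, x * x = 1 ∨ x * x = z)
    (hcm : ∀ x ∈ R, ∀ y ∈ R, x * y * x⁻¹ * y⁻¹ = 1 ∨ x * y * x⁻¹ * y⁻¹ = z)
    (hne : ∃ x ∈ R, ∃ y ∈ R, x * y ≠ y * x)
    (hC : ∀ c ∈ H, (∀ r ∈ R, c * r * c⁻¹ * r⁻¹ ∈ N) → c ∈ N ∨ z * c ∈ N)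
    (hNR : ∀ c ∈ H, c * z * c⁻¹ * z⁻¹ ∈ N → ∀ r ∈ R, c * r * c⁻¹ ∈ R)
    (hNT : ∀ c ∈ H, c * s * c⁻¹ * s⁻¹ ∈ N → ∀ x ∈ T, c * x * c⁻¹ ∈ T) :
    Cfsg.IsLargeExtraspecial ((R.subgroupOf H).map (QuotientGroup.mk' (N.subgroupOf H))) := by
  haveI : Fact (Nat.Prime 2) := ⟨Nat.prime_two⟩
  set f := QuotientGroup.mk' (N.subgroupOf H) with hf
  have h1 : ∀ x : H, f x = 1 ↔ (x : G) ∈ N := fun x => by
    rw [hf, QuotientGroup.mk'_apply, QuotientGroup.eq_one_iff, Subgroup.mem_subgroupOf]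
  have hco : ∀ x y : H, f x * f y = f y * f x ↔ (x : G) * y * (x : G)⁻¹ * (y : G)⁻¹ ∈ N := by
    intro x y
    rw [← commutatorElement_eq_one_iff_mul_comm, ← map_commutatorElement, h1]
    rfl
  have hsurj : ∀ k, ∃ x : H, f x = k := QuotientGroup.mk'_surjective _
  set R' := (R.subgroupOf H).map f with hR'
  set T' := (T.subgroupOf H).map f with hT'
  set zb := f ⟨z, hRH hzR⟩ with hzb
  set sb := f ⟨s, hRH hsR⟩ with hsb
  have memR : ∀ (r : G) (hr : r ∈ R), f ⟨r, hRH hr⟩ ∈ R' := fun r hr => ⟨_, hr, rfl⟩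
  have exR : ∀ k ∈ R', ∃ r, ∃ hr : r ∈ R, f ⟨r, hRH hr⟩ = k := by
    rintro _ ⟨⟨r, hrH⟩, hr, rfl⟩; exact ⟨r, hr, rfl⟩
  have h2R : IsPGroup 2 R' :=
    (hR2.of_equiv (Subgroup.subgroupOfEquivOfLe hRH).symm).map _
  have hz2 : orderOf zb = 2 := by
    refine orderOf_eq_prime ?_ (fun e => hzN ((h1 _).mp e))
    rw [sq, hzb, ← map_mul, h1]; simp [hzz]
  have hs2 : orderOf sb = 2 := by
    refine orderOf_eq_prime ?_ (fun e => hsN ((h1 _).mp e))
    rw [sq, hsb, ← map_mul, h1]; simp [hss]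
  have hdich : ∀ x : H, ((x : G) ∈ N ∨ z * x ∈ N) → f x = 1 ∨ f x = zb := by
    rintro x (h | h)
    · exact Or.inl ((h1 x).mpr h)
    · refine Or.inr ?_
      have : zb * f x = 1 := by rw [hzb, ← map_mul, h1]; exact h
      rw [eq_inv_of_mul_eq_one_right this, inv_eq_self_of_two hz2]
  have hCR : ∀ k, (∀ w ∈ R', w * k = k * w) → k = 1 ∨ k = zb := by
    intro k hk
    obtain ⟨c, rfl⟩ := hsurj k
    exact hdich c (hC c c.2 fun r hr => (hco c ⟨r, hRH hr⟩).mp (hk _ (memR r hr)).symm)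
  have hzc' : ∀ k ∈ R', k * zb = zb * k := by
    intro k hk
    obtain ⟨r, hr, rfl⟩ := exR k hk
    rw [hzb, ← map_mul, ← map_mul]
    exact congrArg f (Subtype.ext (hzc r hr))
  obtain ⟨hE, hcz⟩ := isExtraspecial_of_props (T := R') (z := zb) h2R hz2 (memR z hzR) hzc'
    (fun k hk => by
      obtain ⟨r, hr, rfl⟩ := exR k hk
      rcases hsq r hr with e | e
      · left; rw [← map_mul, h1]; simp [e]
      · right; rw [hzb, ← map_mul]; exact congrArg f (Subtype.ext e))
    (fun k hk l hl => by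
      obtain ⟨r, hr, rfl⟩ := exR k hk
      obtain ⟨u, hu, rfl⟩ := exR l hl
      rcases hcm r hr u hu with e | e
      · left; simp only [← map_inv, ← map_mul]; rw [h1]; simp [e]
      · right; simp only [← map_inv, ← map_mul]; rw [hzb]; exact congrArg f (Subtype.ext e))
    (fun k _ hk => hCR k hk)
    (by
      obtain ⟨x, hx, y, hy, hxy⟩ := hne
      refine ⟨_, memR x hx, _, memR y hy, fun e => ?_⟩
      have := (hco _ _).mp e
      rcases hcm x hx y hy with e' | e'
      · exact hxy (mul_inv_eq_iff_eq_mul.mp (mul_inv_eq_one.mp e'))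
      · exact hzN (e' ▸ this))
  have hsZ : sb ∉ (Subgroup.center R').map R'.subtype := by
    rw [hcz]
    intro h
    rcases mem_zpowers_two hz2 h with e | e
    · exact hsN ((h1 _).mp e)
    · apply hzsN
      have : zb * sb = 1 := by rw [e, ← sq, ← hz2, pow_orderOf_eq_one]
      rw [hzb, hsb, ← map_mul, h1] at this
      exact this
  refine isLarge_of_center_le_pCore_centralizer hE (le_antisymm (fun k hk => ?_) (fun k hk => ?_))
    (fun k hk => ?_) (memR s hsR) hsZ hs2 ?_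
  · rw [hcz]
    rcases hCR k (Subgroup.mem_centralizer_iff.mp hk) with e | e <;> rw [e]
    · exact one_mem _
    · exact Subgroup.mem_zpowers _
  · obtain ⟨c, hc, rfl⟩ := Subgroup.mem_map.mp hk
    exact Subgroup.mem_centralizer_iff.mpr fun w hw =>
      congrArg Subtype.val (Subgroup.mem_center_iff.mp hc ⟨w, hw⟩)
  · rw [hcz, centralizer_zpowers, Subgroup.mem_centralizer_singleton_iff] at hk
    have key : ∀ c : H, f c * zb = zb * f c → ∀ w ∈ R', f c * w * (f c)⁻¹ ∈ R' := by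
      intro c hc w hw
      obtain ⟨r, hr, rfl⟩ := exR w hw
      have h' := hNR c c.2 ((hco c ⟨z, hRH hzR⟩).mp hc) r hr
      rw [← map_inv, ← map_mul, ← map_mul]
      exact ⟨_, h', rfl⟩
    obtain ⟨c, rfl⟩ := hsurj k
    refine Subgroup.mem_normalizer_iff.mpr fun w => ⟨key c hk w, fun hw => ?_⟩
    have hk' : f c⁻¹ * zb = zb * f c⁻¹ := by
      rw [map_inv]; exact (Commute.inv_left hk).eq
    simpa [mul_assoc] using key c⁻¹ hk' _ hw
  · rw [hcz, Subgroup.zpowers_le]
    have hT'C : T' ≤ Subgroup.centralizer ({sb} : Set (H ⧸ N.subgroupOf H)) := by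
      rintro _ ⟨x, hx, rfl⟩
      rw [Subgroup.mem_centralizer_singleton_iff, hsb, ← map_mul, ← map_mul]
      exact congrArg f (Subtype.ext (hTs x hx))
    refine ⟨⟨zb, hT'C ⟨_, hzT, rfl⟩⟩, ?_, rfl⟩
    have hn : (T'.subgroupOf (Subgroup.centralizer ({sb} : Set _))).Normal := by
      refine ⟨fun x hx y => ?_⟩
      obtain ⟨a, ha, hax⟩ := Subgroup.mem_map.mp (Subgroup.mem_subgroupOf.mp hx)
      obtain ⟨c, hcy⟩ := hsurj y.1
      have hc : f c * sb = sb * f c := by
        rw [hcy]; exact Subgroup.mem_centralizer_singleton_iff.mp y.2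
      refine Subgroup.mem_subgroupOf.mpr ?_
      rw [Subgroup.coe_mul, Subgroup.coe_mul, Subgroup.coe_inv, ← hcy, ← hax, ← map_inv,
        ← map_mul, ← map_mul]
      exact ⟨_, hNT c c.2 ((hco c ⟨s, hRH hsR⟩).mp hc) a ha, rfl⟩
    exact le_sSup (show T'.subgroupOf (Subgroup.centralizer ({sb} : Set _)) ∈
        {M : Subgroup ↥(Subgroup.centralizer ({sb} : Set (H ⧸ N.subgroupOf H))) |
          M.Normal ∧ IsPGroup 2 M} from
      ⟨hn, (((hT2.of_equiv (Subgroup.subgroupOfEquivOfLe hTH).symm).map f)).of_equiv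
        (Subgroup.subgroupOfEquivOfLe hT'C).symm⟩)
      (show (⟨zb, hT'C ⟨_, hzT, rfl⟩⟩ : ↥(Subgroup.centralizer ({sb} : Set _))) ∈
        T'.subgroupOf (Subgroup.centralizer ({sb} : Set _)) from ⟨_, hzT, rfl⟩)

/-- An involution centralizer with extraspecial generalized Fitting subgroup. -/
theorem isZSub_of_generalizedFitting {z : G} (hz : orderOf z = 2) {Q : Subgroup G}
    (hQC : Q ≤ Subgroup.centralizer ({z} : Set G))
    (hF : (Cfsg.generalizedFittingSubgroup ↥(Subgroup.centralizer ({z} : Set G))).map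
      (Subgroup.centralizer ({z} : Set G)).subtype = Q)
    (hQ : Cfsg.IsExtraspecial 2 ↥Q) : IsZSub Q z := by
  set C := Subgroup.centralizer ({z} : Set G) with hCdef
  set F := Cfsg.generalizedFittingSubgroup ↥C with hFdef
  have hzC : z ∈ C := Subgroup.mem_centralizer_singleton_iff.mpr rfl
  have hzF : (⟨z, hzC⟩ : C) ∈ F := by
    refine CfsgLib.Components.centralizer_generalizedFitting_le_self ?_
    refine Subgroup.mem_centralizer_iff.mpr fun x _ => Subtype.ext ?_
    exact Subgroup.mem_centralizer_singleton_iff.mp x.2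
  have hzQ : z ∈ Q := hF ▸ ⟨_, hzF, rfl⟩
  have hzZ : z ∈ (Subgroup.center Q).map Q.subtype :=
    ⟨⟨z, hzQ⟩, Subgroup.mem_center_iff.mpr fun q => Subtype.ext
      (Subgroup.mem_centralizer_singleton_iff.mp (hQC q.2)), rfl⟩
  obtain ⟨y, hy2, hy⟩ := exists_center_gen hQ.2
  have hyz : y = z := by
    rw [hy] at hzZ
    rcases mem_zpowers_two hy2 hzZ with e | e
    · exact absurd hz (by rw [e, orderOf_one]; norm_num)
    · exact e.symm
  rw [hyz] at hy
  refine ⟨hQ, le_antisymm (fun c hc => ?_) (fun c hc => ?_), ?_, hy, hz⟩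
  · have hc' := Subgroup.mem_centralizer_iff.mp hc
    have hcC : c ∈ C := Subgroup.mem_centralizer_singleton_iff.mpr (hc' z hzQ).symm
    have hcF : (⟨c, hcC⟩ : C) ∈ F := CfsgLib.Components.centralizer_generalizedFitting_le_self
      (Subgroup.mem_centralizer_iff.mpr fun x hx => Subtype.ext (hc' x (hF ▸ ⟨x, hx, rfl⟩)))
    have hcQ : c ∈ Q := hF ▸ ⟨_, hcF, rfl⟩
    exact ⟨⟨c, hcQ⟩, Subgroup.mem_center_iff.mpr fun q => Subtype.ext (hc' q q.2), rfl⟩
  · obtain ⟨d, hd, rfl⟩ := Subgroup.mem_map.mp hc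
    exact Subgroup.mem_centralizer_iff.mpr fun q hq =>
      congrArg Subtype.val (Subgroup.mem_center_iff.mp hd ⟨q, hq⟩)
  · rw [hy, centralizer_zpowers]
    have hFn : F.Normal := Subgroup.sup_normal _ _
    intro c hc
    have key : ∀ (d : G), d ∈ C → ∀ q ∈ Q, d * q * d⁻¹ ∈ Q := by
      intro d hd q hq
      rw [← hF] at hq ⊢
      obtain ⟨q', hq', rfl⟩ := hq
      exact ⟨_, hFn.conj_mem q' hq' ⟨d, hd⟩, rfl⟩
    refine Subgroup.mem_normalizer_iff.mpr fun q => ⟨key c hc q, fun h => ?_⟩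
    simpa [mul_assoc] using key c⁻¹ (inv_mem hc) _ h

/-- A group of order not divisible by 4 with a central involution `z`: every element is an odd-core
element or `z` times one. -/
theorem mem_oddCore_or_mul {X : Type*} [Group X] [Finite X] {z : X} (hz : orderOf z = 2)
    (hzc : z ∈ Subgroup.center X) (h4 : ¬ 4 ∣ Nat.card X) (x : X) :
    x ∈ Cfsg.oddCore X ∨ z * x ∈ Cfsg.oddCore X := by
  have hzn : (Subgroup.zpowers z).Normal := by
    refine ⟨fun a ha g => ?_⟩
    have : a ∈ Subgroup.center X := Subgroup.zpowers_le.mpr hzc ha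
    rwa [Subgroup.mem_center_iff.mp this g, mul_inv_cancel_right]
  have hmul := Subgroup.card_mul_index (Subgroup.zpowers z)
  rw [Nat.card_zpowers, hz] at hmul
  have hodd : Odd (Subgroup.zpowers z).index := by
    rw [Nat.odd_iff]
    by_contra h
    apply h4
    obtain ⟨k, hk⟩ : 2 ∣ (Subgroup.zpowers z).index := by omega
    exact ⟨k, by rw [← hmul, hk]; ring⟩
  have hcop : (Nat.card (Subgroup.zpowers z)).Coprime (Subgroup.zpowers z).index := by
    rw [Nat.card_zpowers, hz]; exact Nat.coprime_two_left.mpr hodd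
  obtain ⟨K, hK⟩ := Subgroup.exists_right_complement'_of_coprime hcop
  have hdec : ∀ g : X, g ∈ K ∨ z * g ∈ K := by
    intro g
    have hg : g ∈ Subgroup.zpowers z ⊔ K := by rw [hK.sup_eq_top]; exact Subgroup.mem_top g
    rw [← SetLike.mem_coe, Subgroup.normal_mul, Set.mem_mul] at hg
    obtain ⟨a, ha, k, hk, rfl⟩ := hg
    rcases mem_zpowers_two hz ha with rfl | rfl
    · exact Or.inl (by simpa using hk)
    · refine Or.inr ?_
      rw [← mul_assoc, ← sq, ← hz, pow_orderOf_eq_one, one_mul]; exact hk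
  have hKn : K.Normal := by
    refine ⟨fun k hk g => ?_⟩
    rcases hdec g with h | h
    · exact K.mul_mem (K.mul_mem h hk) (K.inv_mem h)
    · have := K.mul_mem (K.mul_mem h hk) (K.inv_mem h)
      have e : z * g * k * (z * g)⁻¹ = g * k * g⁻¹ := by
        calc z * g * k * (z * g)⁻¹ = z * (g * k * g⁻¹) * z⁻¹ := by group
          _ = g * k * g⁻¹ := by
            rw [← Subgroup.mem_center_iff.mp hzc (g * k * g⁻¹), mul_inv_cancel_right]
      rwa [e] at this
  have hKc : (Nat.card K).Coprime 2 := by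
    rw [← hK.symm.index_eq_card]
    exact Nat.coprime_two_right.mpr hodd
  have hle : K ≤ Cfsg.oddCore X := by
    apply le_sSup
    exact ⟨hKn, hKc⟩
  exact (hdec x).imp (fun h => hle h) (fun h => hle h)

end CfsgLib.LargeExtraspecial
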