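import Cfsg.Agent.LargeExtraspecial.PairNormalizer

/-!
# Translating hypotheses about large extraspecial subgroups into pair data
-/

set_option autoImplicit false

namespace CfsgLib.LargeExtraspecial

variable {G : Type*} [Group G]

theorem isZSub_of_large {Q : Subgroup G} (hQ : Cfsg.IsLargeExtraspecial Q) {z : G}
    (hz : (Subgroup.center Q).map Q.subtype = Subgroup.zpowers z) (hz2 : orderOf z = 2) : IsZSub Q z :=
  ⟨hQ.1, hQ.2.1, hQ.2.2.1, hz, hz2⟩

theorem pairData_of_large [Finite G] {Q : Subgroup G} (hQ : Cfsg.IsLargeExtraspecial Q) {z g : G}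
    (hz : (Subgroup.center Q).map Q.subtype = Subgroup.zpowers z) (hz2 : orderOf z = 2) {w : ℕ}
    (hw : 2 ≤ w) (hcard : Nat.card Q = 2 ^ (2 * w + 1))
    (hgH : g ∉ Subgroup.centralizer ({z} : Set G)) (hgQ : g * z * g⁻¹ ∈ Q) :
    PairData Q (Q.map (MulAut.conj g).toMonoidHom) z (g * z * g⁻¹) := by
  refine pairData_of_mem (isZSub_of_large hQ hz hz2) ?_ hgQ fun e => hgH ?_
  · have h32 : 2 ^ 5 ≤ 2 ^ (2 * w + 1) := Nat.pow_le_pow_right (by norm_num) (by omega)
    rw [hcard]; omega
  · rw [Subgroup.mem_centralizer_singleton_iff]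
    exact mul_inv_eq_iff_eq_mul.mp e

theorem isLarge_of_pairData [Finite G] {Q P : Subgroup G} {z s : G} (d : PairData Q P z s) :
    Cfsg.IsLargeExtraspecial Q := by
  have hbZ : s ∉ (Subgroup.center Q).map Q.subtype := fun h => by
    rcases d.sub.eq_or_eq h with e | e
    · exact d.subP.ne_one e
    · exact d.ne e
  refine isLarge_of_center_le_pCore_centralizer d.sub.extra d.sub.centralizer_eq d.sub.le_normalizer
    d.mem hbZ d.subP.two ?_
  rw [d.sub.center_eq, Subgroup.zpowers_le]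
  have hPC : P ≤ Subgroup.centralizer ({s} : Set G) := fun x hx =>
    Subgroup.mem_centralizer_singleton_iff.mpr (d.subP.z_comm hx)
  refine ⟨⟨z, hPC d.z_mem⟩, ?_, rfl⟩
  have hn : (P.subgroupOf (Subgroup.centralizer ({s} : Set G))).Normal := by
    refine ⟨fun x hx y => ?_⟩
    exact d.subP.conj_mem (Subgroup.mem_centralizer_singleton_iff.mp y.2) hx
  have hmem : P.subgroupOf (Subgroup.centralizer ({s} : Set G)) ∈
      {N : Subgroup ↥(Subgroup.centralizer ({s} : Set G)) | N.Normal ∧ IsPGroup 2 N} :=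
    ⟨hn, d.subP.extra.1.1.of_equiv (Subgroup.subgroupOfEquivOfLe hPC).symm⟩
  exact le_sSup hmem (show (⟨z, hPC d.z_mem⟩ : ↥(Subgroup.centralizer ({s} : Set G))) ∈
    P.subgroupOf (Subgroup.centralizer ({s} : Set G)) from d.z_mem)

end CfsgLib.LargeExtraspecial
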