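import Cfsg.Agent.LargeExtraspecial.Quotient
import Cfsg.Agent.LargeExtraspecial.PairFacts

/-!
# Normal subgroups and simplicity criteria for groups with a large extraspecial subgroup
-/

set_option autoImplicit false
set_option linter.style.haveILetI false

open scoped commutatorElement

namespace CfsgLib.LargeExtraspecial

variable {G : Type*} [Group G] [Finite G]

omit [Finite G] in
/-- Being extraspecial passes along isomorphisms. -/
theorem isExtraspecial_of_mulEquiv {A B : Type*} [Group A] [Group B] {p : ℕ} (φ : A ≃* B)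
    (hA : Cfsg.IsExtraspecial p A) : Cfsg.IsExtraspecial p B := by
  obtain ⟨⟨hp, hfr, hcm⟩, hcard⟩ := hA
  have hcen : (Subgroup.center A).map φ.toMonoidHom = Subgroup.center B := by
    refine le_antisymm ?_ ?_
    · rintro _ ⟨x, hx, rfl⟩
      refine Subgroup.mem_center_iff.mpr fun w => ?_
      obtain ⟨v, rfl⟩ := φ.surjective w
      show φ v * φ x = φ x * φ v
      rw [← map_mul, ← map_mul, Subgroup.mem_center_iff.mp hx v]
    · intro y hy
      refine ⟨φ.symm y, Subgroup.mem_center_iff.mpr fun x => φ.injective ?_, φ.apply_symm_apply y⟩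
      rw [map_mul, map_mul, MulEquiv.apply_symm_apply]
      exact Subgroup.mem_center_iff.mp hy (φ x)
  refine ⟨⟨hp.of_equiv φ, ?_, ?_⟩, ?_⟩
  · rw [← hcen, ← hfr]
    refine le_antisymm ?_ ?_
    · intro y hy
      exact ⟨φ.symm y, frattini_le_comap_frattini_of_surjective (φ := φ.symm.toMonoidHom)
        φ.symm.surjective hy, φ.apply_symm_apply y⟩
    · rw [Subgroup.map_le_iff_le_comap]
      exact frattini_le_comap_frattini_of_surjective (φ := φ.toMonoidHom) φ.surjective
  · rw [← hcen, ← hcm]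
    simp only [commutator_def]
    rw [Subgroup.map_commutator, Subgroup.map_top_of_surjective _ φ.surjective]
  · rw [← hcen, Subgroup.card_map_of_injective φ.injective, hcard]

/-- An involution normalizing a subgroup and fixing no non-trivial element of it: the order is odd. -/
theorem odd_card_of_fixedPointFree {N : Subgroup G} {z : G} (hz : orderOf z = 2)
    (hzN : z ∈ Subgroup.normalizer (N : Set G)) (hfix : ∀ k ∈ N, k * z = z * k → k = 1) :
    Odd (Nat.card N) := by
  haveI : Fact (Nat.Prime 2) := ⟨Nat.prime_two⟩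
  rw [Nat.odd_iff]
  by_contra h
  obtain ⟨k, hk⟩ := exists_prime_orderOf_dvd_card' (G := N) 2 (by omega)
  have hk' : orderOf (k : G) = 2 := by rw [Subgroup.orderOf_coe, hk]
  have e := conj_eq_inv_of_fixedPointFree hz hzN hfix k.2
  rw [inv_eq_self_of_two hk', mul_inv_eq_iff_eq_mul] at e
  rw [hfix k k.2 e.symm, orderOf_one] at hk'
  omega

/-- The centre involution of a large extraspecial subgroup lies in every non-trivial normal
subgroup. -/
theorem IsZSub.mem_of_normal {Q : Subgroup G} {z : G} (h : IsZSub Q z)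
    (hL : Cfsg.IsLargeExtraspecial Q) {N : Subgroup G} [hN : N.Normal] (hne : N ≠ ⊥) : z ∈ N := by
  by_contra hzN
  have htriv : ∀ x ∈ Q, x ∈ N → x = 1 := by
    intro x hx hxN
    by_contra hx1
    have hxz : x ≠ z := fun e => hzN (e ▸ hxN)
    obtain ⟨q, hq, hqx⟩ := h.exists_not_commute hx1 hxz
    apply hzN
    have e := N.mul_mem (hN.conj_mem x hxN q) (N.inv_mem hxN)
    rwa [h.conj_of_not_commute hq hx hqx, mul_inv_cancel_right] at e
  have hfix : ∀ k ∈ N, k * z = z * k → k = 1 := by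
    intro k hk hkz
    have hkC : ∀ q ∈ Q, q * k = k * q := by
      intro q hq
      have e := htriv (k * q * k⁻¹ * q⁻¹) (Q.mul_mem (h.conj_mem hkz hq) (Q.inv_mem hq))
        (by simpa [mul_assoc] using N.mul_mem hk (hN.conj_mem k⁻¹ (N.inv_mem hk) q))
      exact (mul_inv_eq_iff_eq_mul.mp (mul_inv_eq_one.mp e)).symm
    rcases h.mem_of_commutes hkC with e | e
    · exact e
    · exact absurd (e ▸ hk) hzN
  have hnorm : ∀ q : G, q ∈ Subgroup.normalizer (N : Set G) := fun q => by
    rw [Subgroup.normalizer_eq_top_iff.mpr hN]; exact Subgroup.mem_top q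
  exact hne (hL.2.2.2 N (odd_card_of_fixedPointFree h.two (hnorm z) hfix) fun q _ => hnorm q)

omit [Finite G] in
theorem IsZSub.le_centralizer {Q : Subgroup G} {z : G} (h : IsZSub Q z) : Q ≤ Subgroup.centralizer ({z} : Set G) :=
  fun _ hx => Subgroup.mem_centralizer_singleton_iff.mpr (h.z_comm hx)

/-- The centre of a Sylow 2-subgroup of `C(z)` is `⟨z⟩`; it is a Sylow 2-subgroup of `G`. -/
theorem IsZSub.exists_sylow {Q : Subgroup G} {z : G} (h : IsZSub Q z) :
    ∃ S : Sylow 2 G, Q ≤ (S : Subgroup G) ∧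
      (S : Subgroup G) ≤ Subgroup.centralizer ({z} : Set G) ∧
      Subgroup.normalizer ((S : Subgroup G) : Set G) ≤ Subgroup.centralizer ({z} : Set G) := by
  haveI : Fact (Nat.Prime 2) := ⟨Nat.prime_two⟩
  set H := Subgroup.centralizer ({z} : Set G) with hH
  have hQH : Q ≤ H := h.le_centralizer
  obtain ⟨T, hT⟩ := (h.extra.1.1.of_equiv (Subgroup.subgroupOfEquivOfLe hQH).symm).exists_le_sylow
  set T' := (T : Subgroup H).map H.subtype with hT'
  have hQT : Q ≤ T' := fun x hx => ⟨⟨x, hQH hx⟩, hT hx, rfl⟩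
  have hT'H : T' ≤ H := Subgroup.map_subtype_le _
  have hnorm : ∀ K : Subgroup G, T' ≤ K → K ≤ Subgroup.normalizer (T' : Set G) → K ≤ H := by
    intro K _ hK n hn
    have hzT : z ∈ T' := hQT h.z_mem
    have hcn : n * z * n⁻¹ = 1 ∨ n * z * n⁻¹ = z := h.mem_of_commutes fun q hq => by
      have hq' : n⁻¹ * q * n ∈ T' := by
        simpa using (Subgroup.mem_normalizer_iff.mp (hK (K.inv_mem hn)) q).mp (hQT hq)
      have e := Subgroup.mem_centralizer_singleton_iff.mp (hT'H hq')
      calc q * (n * z * n⁻¹) = n * ((n⁻¹ * q * n) * z) * n⁻¹ := by group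
        _ = n * (z * (n⁻¹ * q * n)) * n⁻¹ := by rw [e]
        _ = n * z * n⁻¹ * q := by group
    rcases hcn with e | e
    · exact absurd (conj_eq_one_iff.mp e) h.ne_one
    · exact Subgroup.mem_centralizer_singleton_iff.mpr (mul_inv_eq_iff_eq_mul.mp e)
  obtain ⟨S, hS⟩ := (T.2.map H.subtype).exists_le_sylow
  have hST : (S : Subgroup G) = T' := by
    refine le_antisymm ?_ hS
    by_contra hne
    haveI : Group.IsNilpotent (S : Subgroup G) := S.2.isNilpotent
    have hlt : T'.subgroupOf (S : Subgroup G) < ⊤ :=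
      lt_top_iff_ne_top.mpr fun e => hne (Subgroup.subgroupOf_eq_top.mp e)
    have hN := Group.normalizerCondition_of_isNilpotent (G := ↥(S : Subgroup G)) _ hlt
    obtain ⟨x, hxN, hxT⟩ := SetLike.exists_of_lt hN
    rw [← Subgroup.subgroupOf_normalizer_eq hS, Subgroup.mem_subgroupOf] at hxN
    set K := (S : Subgroup G) ⊓ Subgroup.normalizer (T' : Set G) with hK
    have hKH : K ≤ H := hnorm K (le_inf hS Subgroup.le_normalizer) inf_le_right
    have hKp : IsPGroup 2 (K.subgroupOf H) :=
      (S.2.to_le inf_le_left).of_equiv (Subgroup.subgroupOfEquivOfLe hKH).symm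
    have hTK : (T : Subgroup H) ≤ K.subgroupOf H := fun y hy =>
      ⟨hS ⟨y, hy, rfl⟩, Subgroup.le_normalizer ⟨y, hy, rfl⟩⟩
    have hKT : K.subgroupOf H = (T : Subgroup H) := T.3 hKp hTK
    have hxK : (x : G) ∈ K := ⟨x.2, hxN⟩
    have : (⟨x, hKH hxK⟩ : H) ∈ (T : Subgroup H) := hKT ▸ hxK
    exact hxT ⟨_, this, rfl⟩
  refine ⟨S, hST ▸ hQT, hST ▸ hT'H, ?_⟩
  rw [hST]
  exact hnorm _ Subgroup.le_normalizer le_rfl

/-- Frattini: a normal subgroup containing `C(z)` is the whole group. -/
theorem IsZSub.eq_top_of_centralizer_le {Q : Subgroup G} {z : G} (h : IsZSub Q z) {M : Subgroup G}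
    [M.Normal] (hM : Subgroup.centralizer ({z} : Set G) ≤ M) : M = ⊤ := by
  haveI : Fact (Nat.Prime 2) := ⟨Nat.prime_two⟩
  obtain ⟨S, -, hSH, hNS⟩ := h.exists_sylow
  have hF := Sylow.normalizer_sup_eq_top' S (hSH.trans hM)
  exact top_le_iff.mp (hF ▸ sup_le (hNS.trans hM) le_rfl)

/-- Simplicity when `C(z)` lies in the normal closure of `z`. -/
theorem IsZSub.isSimpleGroup {Q : Subgroup G} {z : G} (h : IsZSub Q z)
    (hL : Cfsg.IsLargeExtraspecial Q)
    (hC : Subgroup.centralizer ({z} : Set G) ≤ Subgroup.normalClosure ({z} : Set G)) :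
    IsSimpleGroup G := by
  haveI : Nontrivial G := ⟨⟨z, 1, h.ne_one⟩⟩
  refine ⟨fun N hN => or_iff_not_imp_left.mpr fun hne => ?_⟩
  have hzN : z ∈ N := h.mem_of_normal hL hne
  have hle : Subgroup.normalClosure ({z} : Set G) ≤ N :=
    Subgroup.normalClosure_le_normal (Set.singleton_subset_iff.mpr hzN)
  exact h.eq_top_of_centralizer_le (hC.trans hle)

/-- The conclusion for an involution centralizer generated by conjugates of an abelian `U`. -/
theorem simple_of_abelian_generated {Q : Subgroup G} {z : G} (h : IsZSub Q z) (h9 : 9 ≤ Nat.card Q)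
    {K U : Subgroup G} (hU : U = Subgroup.closure {x : G | ∃ k ∈ K, x = k * z * k⁻¹})
    (hUab : IsMulCommutative ↥U)
    (hgen : Subgroup.closure {x : G | ∃ c ∈ Subgroup.centralizer ({z} : Set G),
      ∃ u ∈ U, x = c * u * c⁻¹} = Subgroup.centralizer ({z} : Set G))
    (h3 : (∃ k ∈ K, k * z * k⁻¹ ∈ Q ∧ k * z * k⁻¹ ≠ z) ∨ ∃ u ∈ U ⊓ Q, u ∉ Subgroup.zpowers z ∧
      (∃ hz' : z ∈ Subgroup.centralizer ({u} : Set G),
        (⟨z, hz'⟩ : ↥(Subgroup.centralizer ({u} : Set G))) ∈
          Cfsg.pCore 2 ↥(Subgroup.centralizer ({u} : Set G)))) :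
    IsSimpleGroup G ∧ Cfsg.IsLargeExtraspecial Q := by
  have hUN : U ≤ Subgroup.normalClosure ({z} : Set G) := by
    rw [hU, Subgroup.closure_le]
    rintro _ ⟨k, -, rfl⟩
    exact Subgroup.normalClosure_normal.conj_mem z (Subgroup.subset_normalClosure (Set.mem_singleton z)) k
  have hC : Subgroup.centralizer ({z} : Set G) ≤ Subgroup.normalClosure ({z} : Set G) := by
    rw [← hgen, Subgroup.closure_le]
    rintro _ ⟨c, -, u, hu, rfl⟩
    exact Subgroup.normalClosure_normal.conj_mem u (hUN hu) c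
  have hlarge : Cfsg.IsLargeExtraspecial Q := by
    rcases h3 with ⟨k, -, hkQ, hkz⟩ | ⟨u, ⟨huU, huQ⟩, huz, hz', hzp⟩
    · exact isLarge_of_pairData (pairData_of_mem h h9 hkQ hkz)
    · have key : ∀ x ∈ Subgroup.closure {x : G | ∃ k ∈ K, x = k * z * k⁻¹},
          x * x = 1 ∧ x ∈ U := by
        intro x hx
        induction hx using Subgroup.closure_induction with
        | mem y hy =>
          refine ⟨?_, hU ▸ Subgroup.subset_closure hy⟩
          obtain ⟨k, -, rfl⟩ := hy
          calc k * z * k⁻¹ * (k * z * k⁻¹) = k * (z * z) * k⁻¹ := by group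
            _ = 1 := by rw [h.mul_self]; group
        | one => exact ⟨one_mul 1, one_mem _⟩
        | mul a b _ _ ha hb =>
          refine ⟨?_, U.mul_mem ha.2 hb.2⟩
          have hab : a * b = b * a :=
            congrArg Subtype.val (mul_comm' (⟨a, ha.2⟩ : U) ⟨b, hb.2⟩)
          calc a * b * (a * b) = a * (b * a) * b := by group
            _ = a * (a * b) * b := by rw [← hab]
            _ = (a * a) * (b * b) := by group
            _ = 1 := by rw [ha.1, hb.1, one_mul]
        | inv a _ ha => exact ⟨by rw [← mul_inv_rev, ha.1, inv_one], U.inv_mem ha.2⟩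
      have hu2 : u * u = 1 := (key u (hU ▸ huU)).1
      have huZ : u ∉ (Subgroup.center Q).map Q.subtype := h.center_eq.symm ▸ huz
      have hu1 : u ≠ 1 := fun e => huz (e ▸ one_mem _)
      refine isLarge_of_center_le_pCore_centralizer h.extra h.centralizer_eq h.le_normalizer huQ huZ
        (orderOf_eq_prime (by rw [sq, hu2]) hu1) ?_
      rw [h.center_eq, Subgroup.zpowers_le]
      exact ⟨_, hzp, rfl⟩
  exact ⟨h.isSimpleGroup hlarge hC, hlarge⟩

/-- The conclusion when `C(z)/Q` is non-abelian simple and acts irreducibly on `Q/⟨z⟩`. -/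
theorem simple_of_irreducible {z : G} (hz : orderOf z = 2)
    (Q : Subgroup (Subgroup.centralizer ({z} : Set G))) [Q.Normal]
    (hF : Cfsg.generalizedFittingSubgroup ↥(Subgroup.centralizer ({z} : Set G)) = Q)
    (hQ : Cfsg.IsExtraspecial 2 ↥Q) (h9 : 9 ≤ Nat.card Q)
    (hnwc : ∃ g : G, (∃ hq : g * z * g⁻¹ ∈ Subgroup.centralizer ({z} : Set G),
      (⟨g * z * g⁻¹, hq⟩ : Subgroup.centralizer ({z} : Set G)) ∈ Q) ∧ g * z * g⁻¹ ≠ z)
    (hsimp : IsSimpleGroup (↥(Subgroup.centralizer ({z} : Set G)) ⧸ Q))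
    (hirr : ∀ W : Subgroup (Subgroup.centralizer ({z} : Set G)), W.Normal → W ≤ Q →
      (W = Q ∨ ∀ x ∈ W, (x : G) ∈ Subgroup.zpowers z))
    (hwcl : Subgroup.closure {x : Subgroup.centralizer ({z} : Set G) | IsConj z (x : G)} ≠ Q) :
    IsSimpleGroup G := by
  set Q' := Q.map (Subgroup.centralizer ({z} : Set G)).subtype with hQ'
  have e : Q ≃* Q' := Q.equivMapOfInjective _ (Subgroup.centralizer ({z} : Set G)).subtype_injective
  have hQ'E : Cfsg.IsExtraspecial 2 Q' := isExtraspecial_of_mulEquiv e hQ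
  have h : IsZSub Q' z := isZSub_of_generalizedFitting hz (Subgroup.map_subtype_le _)
    (by rw [hF]) hQ'E
  obtain ⟨g, ⟨hq, hgQ⟩, hne⟩ := hnwc
  have hgQ' : g * z * g⁻¹ ∈ Q' := ⟨_, hgQ, rfl⟩
  have h9' : 9 ≤ Nat.card Q' := by rwa [← Nat.card_congr e.toEquiv]
  have hlarge := isLarge_of_pairData (pairData_of_mem h h9' hgQ' hne)
  refine h.isSimpleGroup hlarge ?_
  set M := Subgroup.normalClosure ({z} : Set G) with hM
  have hMn : M.Normal := Subgroup.normalClosure_normal
  have hconjM : ∀ x : ↥(Subgroup.centralizer ({z} : Set G)), IsConj z (x : G) → (x : G) ∈ M := fun x hx => by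
    obtain ⟨c, hc⟩ := isConj_iff.mp hx
    rw [← hc]
    exact hMn.conj_mem z (Subgroup.subset_normalClosure (Set.mem_singleton z)) c
  set W := M.subgroupOf (Subgroup.centralizer ({z} : Set G)) with hW
  have hWn : W.Normal := hMn.comap _
  -- `Q ≤ W`
  have hQW : Q ≤ W := by
    rcases hirr (W ⊓ Q) inferInstance inf_le_right with e' | e'
    · exact e' ▸ inf_le_left
    · exfalso
      rcases mem_zpowers_two hz (e' ⟨g * z * g⁻¹, hq⟩
        ⟨hconjM ⟨g * z * g⁻¹, hq⟩ (isConj_iff.mpr ⟨g, rfl⟩), hgQ⟩) with r | r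
      · exact h.ne_one (conj_eq_one_iff.mp r)
      · exact hne r
  rcases (hWn.map _ (QuotientGroup.mk'_surjective Q)).eq_bot_or_eq_top with e' | e'
  · exfalso
    have hWQ : W ≤ Q := by
      intro x hx
      have : QuotientGroup.mk' Q x ∈ W.map (QuotientGroup.mk' Q) := ⟨x, hx, rfl⟩
      rw [e', Subgroup.mem_bot, QuotientGroup.mk'_apply, QuotientGroup.eq_one_iff] at this
      exact this
    set S := Subgroup.closure {x : ↥(Subgroup.centralizer ({z} : Set G)) | IsConj z (x : G)} with hS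
    have hSW : S ≤ W := (Subgroup.closure_le _).mpr fun x hx => hconjM x hx
    have hSn : S.Normal := by
      refine ⟨fun x hx y => ?_⟩
      have hle : S ≤ S.comap (MulAut.conj y).toMonoidHom := by
        refine (Subgroup.closure_le _).mpr fun a ha => Subgroup.subset_closure ?_
        have ha' : IsConj z (a : G) := ha
        exact ha'.trans (isConj_iff.mpr ⟨(y : G), rfl⟩)
      exact hle hx
    rcases hirr S hSn (hSW.trans hWQ) with r | r
    · exact hwcl r
    · rcases mem_zpowers_two hz (r ⟨g * z * g⁻¹, hq⟩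
        (Subgroup.subset_closure (isConj_iff.mpr ⟨g, rfl⟩))) with r' | r'
      · exact h.ne_one (conj_eq_one_iff.mp r')
      · exact hne r'
  · intro x hx
    have hxW : QuotientGroup.mk' Q ⟨x, hx⟩ ∈ W.map (QuotientGroup.mk' Q) := e' ▸ Subgroup.mem_top _
    obtain ⟨w, hw, hwx⟩ := hxW
    rw [QuotientGroup.mk'_apply, QuotientGroup.mk'_apply, QuotientGroup.eq] at hwx
    have := W.mul_mem hw (hQW hwx)
    rwa [mul_inv_cancel_left] at this

end CfsgLib.LargeExtraspecial
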