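import Cfsg.Agent.LargeExtraspecial.Basic

/-!
# Two extraspecial subgroups attached to commuting conjugate involutions

`IsZSub Q z`: `Q` is extraspecial with centre `⟨z⟩`, self-centralizing, normal in `C(z)`.
The main result is `mem_of_conj_mem`: if `Q` has order at least 32 and `g z g⁻¹ ∈ Q` then
`z ∈ g Q g⁻¹`. Only the elementary consequences needed later are collected after it.
-/

set_option autoImplicit false

namespace CfsgLib.LargeExtraspecial

variable {G : Type*} [Group G]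

/-- `Q` is extraspecial with centre `⟨z⟩`, `C(Q) = Z(Q)` and `C(z) ≤ N(Q)`. -/
structure IsZSub (Q : Subgroup G) (z : G) : Prop where
  extra : Cfsg.IsExtraspecial 2 Q
  centralizer_eq : Subgroup.centralizer (Q : Set G) = (Subgroup.center Q).map Q.subtype
  le_normalizer : Subgroup.centralizer (((Subgroup.center Q).map Q.subtype : Subgroup G) : Set G)
    ≤ Subgroup.normalizer (Q : Set G)
  center_eq : (Subgroup.center Q).map Q.subtype = Subgroup.zpowers z
  two : orderOf z = 2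

namespace IsZSub

variable {Q : Subgroup G} {z : G}

theorem mem_center (h : IsZSub Q z) : z ∈ (Subgroup.center Q).map Q.subtype :=
  h.center_eq ▸ Subgroup.mem_zpowers z

theorem z_mem (h : IsZSub Q z) : z ∈ Q := center_map_le Q h.mem_center

theorem mul_self (h : IsZSub Q z) : z * z = 1 := by rw [← sq, ← h.two, pow_orderOf_eq_one]

theorem ne_one (h : IsZSub Q z) : z ≠ 1 := fun h1 => by simpa [h1] using h.two

theorem z_comm (h : IsZSub Q z) {x : G} (hx : x ∈ Q) : x * z = z * x := commutes_of_mem h.center_eq hx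

theorem eq_or_eq (h : IsZSub Q z) {x : G} (hx : x ∈ (Subgroup.center Q).map Q.subtype) :
    x = 1 ∨ x = z :=
  mem_zpowers_two h.two (h.center_eq ▸ hx)

theorem comm_eq (h : IsZSub Q z) {x y : G} (hx : x ∈ Q) (hy : y ∈ Q) :
    x * y * x⁻¹ * y⁻¹ = 1 ∨ x * y * x⁻¹ * y⁻¹ = z :=
  h.eq_or_eq (commutator_mem_center h.extra hx hy)

theorem conj_eq (h : IsZSub Q z) {x y : G} (hx : x ∈ Q) (hy : y ∈ Q) :
    x * y * x⁻¹ = y ∨ x * y * x⁻¹ = z * y := by
  rcases h.comm_eq hx hy with e | e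
  · exact Or.inl (mul_inv_eq_one.mp e)
  · exact Or.inr (mul_inv_eq_iff_eq_mul.mp e)

theorem conj_mem (h : IsZSub Q z) {c x : G} (hc : c * z = z * c) (hx : x ∈ Q) : c * x * c⁻¹ ∈ Q :=
  (Subgroup.mem_normalizer_iff.mp (h.le_normalizer (mem_of_centralizer_singleton h.center_eq hc))
    x).mp hx

theorem mem_of_commutes (h : IsZSub Q z) {c : G} (hc : ∀ x ∈ Q, x * c = c * x) : c = 1 ∨ c = z :=
  h.eq_or_eq (h.centralizer_eq ▸ Subgroup.mem_centralizer_iff.mpr hc)

theorem exists_not_commute (h : IsZSub Q z) {s : G} (h1 : s ≠ 1) (hz : s ≠ z) :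
    ∃ q ∈ Q, q * s ≠ s * q := by
  by_contra! hh
  exact (h.mem_of_commutes hh).elim h1 hz

/-- The conjugate of `s` by an element of `Q` not commuting with it is `z * s`. -/
theorem conj_of_not_commute (h : IsZSub Q z) {q s : G} (hq : q ∈ Q) (hs : s ∈ Q)
    (hqs : q * s ≠ s * q) : q * s * q⁻¹ = z * s :=
  (h.conj_eq hq hs).resolve_left fun e => hqs (mul_inv_eq_iff_eq_mul.mp e)

theorem comm_mul_left (h : IsZSub Q z) {x y u : G} (hy : y ∈ Q) (hu : u ∈ Q) (hx : x * z = z * x) :
    (x * y) * u * (x * y)⁻¹ * u⁻¹ = (y * u * y⁻¹ * u⁻¹) * (x * u * x⁻¹ * u⁻¹) := by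
  rcases h.comm_eq hy hu with e | e <;> rw [e]
  · rw [one_mul, show (x * y) * u * (x * y)⁻¹ = x * (y * u * y⁻¹) * x⁻¹ from by group,
      mul_inv_eq_one.mp e]
  · rw [show (x * y) * u * (x * y)⁻¹ = x * (y * u * y⁻¹) * x⁻¹ from by group,
      mul_inv_eq_iff_eq_mul.mp e, ← mul_assoc, hx]
    group

/-- If `a`, `b` lie in `Q` outside `C(s)` then `b⁻¹ a` centralizes `s`. -/
theorem inv_mul_commute (h : IsZSub Q z) {a b s : G} (ha : a ∈ Q) (hb : b ∈ Q) (hs : s ∈ Q)
    (has : a * s ≠ s * a) (hbs : b * s ≠ s * b) : (b⁻¹ * a) * s = s * (b⁻¹ * a) := by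
  have e1 := h.conj_of_not_commute ha hs has
  rw [← h.conj_of_not_commute hb hs hbs] at e1
  calc (b⁻¹ * a) * s = b⁻¹ * (a * s * a⁻¹) * a := by group
    _ = b⁻¹ * (b * s * b⁻¹) * a := by rw [e1]
    _ = s * (b⁻¹ * a) := by group

/-- Elements of `Q` commuting with `C_Q(s)` lie in `{1, z, s, z s}`. -/
theorem mem_double_centralizer (h : IsZSub Q z) {s y : G} (hs : s ∈ Q) (h1 : s ≠ 1) (hz : s ≠ z)
    (hy : y ∈ Q) (hc : ∀ x ∈ Q, x * s = s * x → x * y = y * x) :
    y = 1 ∨ y = z ∨ y = s ∨ y = z * s := by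
  obtain ⟨q, hq, hqs⟩ := h.exists_not_commute h1 hz
  have key : ∀ y ∈ Q, (∀ x ∈ Q, x * s = s * x → x * y = y * x) → q * y = y * q → y = 1 ∨ y = z := by
    intro y _ hc hqy
    refine h.mem_of_commutes fun x hx => ?_
    by_cases hxs : x * s = s * x
    · exact hc x hx hxs
    · have h2 := hc _ (Q.mul_mem (Q.inv_mem hq) hx) (h.inv_mul_commute hx hq hs hxs hqs)
      calc x * y = q * ((q⁻¹ * x) * y) := by group
        _ = q * (y * (q⁻¹ * x)) := by rw [h2]
        _ = (q * y) * (q⁻¹ * x) := by group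
        _ = (y * q) * (q⁻¹ * x) := by rw [hqy]
        _ = y * x := by group
  rcases h.conj_eq hq hy with e | e
  · rcases key y hy hc (mul_inv_eq_iff_eq_mul.mp e) with r | r <;> tauto
  · have hys : q * (y * s) * q⁻¹ = y * s := by
      rw [show q * (y * s) * q⁻¹ = (q * y * q⁻¹) * (q * s * q⁻¹) from by group, e,
        h.conj_of_not_commute hq hs hqs]
      calc z * y * (z * s) = z * (y * z) * s := by group
        _ = z * (z * y) * s := by rw [h.z_comm hy]
        _ = y * s := by rw [← mul_assoc z z, h.mul_self, one_mul]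
    have hc' : ∀ x ∈ Q, x * s = s * x → x * (y * s) = y * s * x := fun x hx hxs => by
      rw [← mul_assoc, hc x hx hxs, mul_assoc, hxs, mul_assoc]
    have hss : s * s = 1 ∨ s * s = z := by
      refine h.mem_of_commutes fun x hx => ?_
      rcases h.conj_eq hx hs with e' | e'
      · rw [mul_inv_eq_iff_eq_mul] at e'
        rw [← mul_assoc, e', mul_assoc, e', mul_assoc]
      · have := congrArg (fun t => t * t) e'
        calc x * (s * s) = (x * s * x⁻¹) * (x * s * x⁻¹) * x := by group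
          _ = z * s * (z * s) * x := by rw [e']
          _ = z * (s * z) * s * x := by group
          _ = z * (z * s) * s * x := by rw [h.z_comm hs]
          _ = s * s * x := by rw [← mul_assoc z z, h.mul_self, one_mul]
    have hzinv : z⁻¹ = z := inv_eq_self_of_two h.two
    rcases key _ (Q.mul_mem hy hs) hc' (mul_inv_eq_iff_eq_mul.mp hys) with r | r <;>
      rcases hss with r' | r'
    · exact Or.inr (Or.inr (Or.inl (mul_right_cancel (r.trans r'.symm))))
    · refine Or.inr (Or.inr (Or.inr (mul_right_cancel (b := s) ?_)))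
      rw [r, mul_assoc, r', h.mul_self]
    · refine Or.inr (Or.inr (Or.inr (mul_right_cancel (b := s) ?_)))
      rw [r, mul_assoc, r', mul_one]
    · exact Or.inr (Or.inr (Or.inl (mul_right_cancel (r.trans r'.symm))))

/-- `C_Q(s)` is non-abelian when `Q` has more than eight elements. -/
theorem exists_noncommuting_in_centralizer [Finite G] (h : IsZSub Q z) {s : G} (hs : s ∈ Q)
    (h1 : s ≠ 1) (hz : s ≠ z) (hcard : 9 ≤ Nat.card Q) :
    ∃ a ∈ Q, ∃ b ∈ Q, a * s = s * a ∧ b * s = s * b ∧ a * b ≠ b * a := by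
  by_contra! hh
  obtain ⟨q, hq, hqs⟩ := h.exists_not_commute h1 hz
  have hmem : ∀ a ∈ Q, a * s = s * a → a = 1 ∨ a = z ∨ a = s ∨ a = z * s := fun a ha has =>
    h.mem_double_centralizer hs h1 hz ha fun x hx hxs => hh x hx a ha hxs has
  classical
  let T : Finset G := {1, z, s, z * s}
  let U : Finset G := T ∪ T.image (q * ·)
  have hsub : ∀ x ∈ Q, x ∈ U := by
    intro x hx
    by_cases hxs : x * s = s * x
    · rcases hmem x hx hxs with r | r | r | r <;> simp [U, T, r]
    · rcases hmem _ (Q.mul_mem (Q.inv_mem hq) hx) (h.inv_mul_commute hx hq hs hxs hqs) with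
        r | r | r | r <;> rw [inv_mul_eq_iff_eq_mul] at r <;> simp [U, T, r]
  have hT : T.card ≤ 4 := Finset.card_le_four
  have hU : U.card ≤ 8 :=
    (Finset.card_union_le _ _).trans (by have := (Finset.card_image_le (s := T) (f := (q * ·))); omega)
  have : Nat.card Q ≤ U.card := by
    rw [← Nat.card_eq_finsetCard]
    exact Nat.card_le_card_of_injective (fun x : Q => (⟨(x : G), hsub x x.2⟩ : U))
      fun a b e => Subtype.ext (congrArg (fun t : U => (t : G)) e)
  omega

theorem conj (h : IsZSub Q z) (g : G) :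
    IsZSub (Q.map (MulAut.conj g).toMonoidHom) (g * z * g⁻¹) := by
  obtain ⟨⟨⟨hp, hfr, hcm⟩, hcard⟩, hC, hN, hz, h2⟩ := h
  set φ : Q ≃* (Q.map (MulAut.conj g).toMonoidHom : Subgroup G) :=
    Q.equivMapOfInjective _ (MulAut.conj g).injective with hφ
  have hcen : (Subgroup.center Q).map φ.toMonoidHom =
      Subgroup.center (Q.map (MulAut.conj g).toMonoidHom : Subgroup G) := by
    refine le_antisymm ?_ ?_
    · rintro _ ⟨x, hx, rfl⟩
      refine Subgroup.mem_center_iff.mpr fun w => ?_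
      obtain ⟨v, rfl⟩ := φ.surjective w
      show φ v * φ x = φ x * φ v
      rw [← map_mul, ← map_mul, Subgroup.mem_center_iff.mp hx v]
    intro y hy
    refine ⟨φ.symm y, Subgroup.mem_center_iff.mpr fun x => φ.injective ?_, φ.apply_symm_apply y⟩
    rw [map_mul, map_mul, MulEquiv.apply_symm_apply]
    exact Subgroup.mem_center_iff.mp hy (φ x)
  have hz' : (Subgroup.center (Q.map (MulAut.conj g).toMonoidHom : Subgroup G)).map
      (Q.map (MulAut.conj g).toMonoidHom).subtype = Subgroup.zpowers (g * z * g⁻¹) := by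
    rw [← hcen, Subgroup.map_map,
      show (Q.map (MulAut.conj g).toMonoidHom).subtype.comp φ.toMonoidHom =
        (MulAut.conj g).toMonoidHom.comp Q.subtype from MonoidHom.ext fun x => rfl,
      ← Subgroup.map_map, hz, MonoidHom.map_zpowers]
    rfl
  have memg : ∀ x : G, x ∈ Q.map (MulAut.conj g).toMonoidHom ↔ g⁻¹ * x * g ∈ Q := fun x => by
    constructor
    · rintro ⟨y, hy, rfl⟩; simpa [mul_assoc] using hy
    · intro hx; exact ⟨_, hx, by simp [mul_assoc]⟩
  refine ⟨⟨⟨hp.map _, ?_, ?_⟩, ?_⟩, ?_, ?_, hz', ?_⟩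
  · rw [← hcen, ← hfr]
    refine le_antisymm ?_ ?_
    · intro y hy
      refine ⟨φ.symm y, ?_, φ.apply_symm_apply y⟩
      exact frattini_le_comap_frattini_of_surjective (φ := φ.symm.toMonoidHom) φ.symm.surjective hy
    · rw [Subgroup.map_le_iff_le_comap]
      exact frattini_le_comap_frattini_of_surjective (φ := φ.toMonoidHom) φ.surjective
  · rw [← hcen, ← hcm]
    simp only [commutator_def]
    rw [Subgroup.map_commutator, Subgroup.map_top_of_surjective _ φ.surjective]
  · rw [← hcen, Subgroup.card_map_of_injective φ.injective, hcard]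
  · rw [hz']
    refine le_antisymm (fun x hx => ?_) ?_
    · have hx' : g⁻¹ * x * g ∈ Subgroup.centralizer (Q : Set G) := by
        rw [Subgroup.mem_centralizer_iff] at hx ⊢
        intro y hy
        have := hx (g * y * g⁻¹) ((memg _).mpr (by simpa [mul_assoc] using hy))
        calc y * (g⁻¹ * x * g) = g⁻¹ * (g * y * g⁻¹ * x) * g := by group
          _ = g⁻¹ * (x * (g * y * g⁻¹)) * g := by rw [this]
          _ = g⁻¹ * x * g * y := by group
      rw [hC, hz] at hx'
      rcases mem_zpowers_two h2 hx' with e | e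
      · rw [show x = 1 by
          have := congrArg (fun t => g * t * g⁻¹) e
          simpa [mul_assoc] using this]
        exact one_mem _
      · rw [show x = g * z * g⁻¹ by
          have := congrArg (fun t => g * t * g⁻¹) e
          simpa [mul_assoc] using this]
        exact Subgroup.mem_zpowers _
    · rw [Subgroup.zpowers_le, Subgroup.mem_centralizer_iff]
      intro y hy
      have := commutes_of_mem hz ((memg y).mp hy)
      calc y * (g * z * g⁻¹) = g * (g⁻¹ * y * g * z) * g⁻¹ := by group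
        _ = g * (z * (g⁻¹ * y * g)) * g⁻¹ := by rw [this]
        _ = g * z * g⁻¹ * y := by group
  · intro c hc
    rw [hz', centralizer_zpowers, Subgroup.mem_centralizer_singleton_iff] at hc
    have hc' : g⁻¹ * c * g ∈ Subgroup.normalizer (Q : Set G) := hN (mem_of_centralizer_singleton hz (by
      calc g⁻¹ * c * g * z = g⁻¹ * (c * (g * z * g⁻¹)) * g := by group
        _ = g⁻¹ * (g * z * g⁻¹ * c) * g := by rw [hc]
        _ = z * (g⁻¹ * c * g) := by group))
    rw [Subgroup.mem_normalizer_iff]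
    intro x
    rw [memg, memg, Subgroup.mem_normalizer_iff.mp hc' (g⁻¹ * x * g)]
    exact iff_of_eq (congrArg (· ∈ Q) (by group))
  · exact (orderOf_injective (MulAut.conj g).toMonoidHom (MulAut.conj g).injective z).trans h2

/-- An element conjugating `z` to `g z g⁻¹` conjugates `Q` to `g Q g⁻¹`. -/
theorem map_conj_eq (h : IsZSub Q z) {g x : G} (hx : x * z * x⁻¹ = g * z * g⁻¹) :
    Q.map (MulAut.conj x).toMonoidHom = Q.map (MulAut.conj g).toMonoidHom := by
  have hc : (g⁻¹ * x) * z = z * (g⁻¹ * x) := by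
    calc g⁻¹ * x * z = g⁻¹ * (x * z * x⁻¹) * x := by group
      _ = g⁻¹ * (g * z * g⁻¹) * x := by rw [hx]
      _ = z * (g⁻¹ * x) := by group
  have hc' : (g⁻¹ * x)⁻¹ * z = z * (g⁻¹ * x)⁻¹ := by
    calc (g⁻¹ * x)⁻¹ * z = (g⁻¹ * x)⁻¹ * (z * (g⁻¹ * x)) * (g⁻¹ * x)⁻¹ := by group
      _ = (g⁻¹ * x)⁻¹ * (g⁻¹ * x * z) * (g⁻¹ * x)⁻¹ := by rw [hc]
      _ = z * (g⁻¹ * x)⁻¹ := by group
  ext y
  simp only [Subgroup.mem_map, MulEquiv.coe_toMonoidHom, MulAut.conj_apply]
  constructor
  · rintro ⟨u, hu, rfl⟩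
    exact ⟨_, h.conj_mem hc hu, by group⟩
  · rintro ⟨u, hu, rfl⟩
    exact ⟨_, h.conj_mem hc' hu, by group⟩

theorem sq_eq (h : IsZSub Q z) {x : G} (hx : x ∈ Q) : x * x = 1 ∨ x * x = z := by
  refine h.mem_of_commutes fun y hy => ?_
  rcases h.conj_eq hy hx with e | e
  · rw [mul_inv_eq_iff_eq_mul] at e
    rw [← mul_assoc, e, mul_assoc, e, mul_assoc]
  · calc y * (x * x) = (y * x * y⁻¹) * (y * x * y⁻¹) * y := by group
      _ = z * x * (z * x) * y := by rw [e]
      _ = z * (x * z) * x * y := by group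
      _ = z * (z * x) * x * y := by rw [h.z_comm hx]
      _ = x * x * y := by rw [← mul_assoc z z, h.mul_self, one_mul]

/-- An element of `Q ∩ P` commuting with `s` and not involving `z` is `1` or `s`. -/
theorem eq_of_mem_inf (h : IsZSub Q z) {P : Subgroup G} {s : G} (hP : IsZSub P s) (hs : s ∈ Q)
    (hsz : s ≠ z) (hz : z ∉ P) {u : G} (huQ : u ∈ Q) (huP : u ∈ P) : u = 1 ∨ u = s := by
  have hzs : z * s ∉ P := fun hh => hz (by
    have := P.mul_mem hh (P.inv_mem hP.z_mem)
    rwa [mul_inv_cancel_right] at this)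
  have hd := h.mem_double_centralizer hs hP.ne_one hsz huQ fun y hy hys => by
    have hconj : y * u * y⁻¹ ∈ P := hP.conj_mem hys huP
    rcases h.conj_eq hy huQ with e | e
    · exact mul_inv_eq_iff_eq_mul.mp e
    · exact absurd (by simpa [e] using P.mul_mem hconj (P.inv_mem huP)) hz
  rcases hd with r | r | r | r
  · exact Or.inl r
  · exact absurd (r ▸ huP) hz
  · exact Or.inr r
  · exact absurd (r ▸ huP) hzs

/-- The key lemma: a conjugate of `z` in `Q` has `z` in its subgroup. -/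
theorem mem_of_conj_mem [Finite G] (h : IsZSub Q z) {g : G} (hcard : 9 ≤ Nat.card Q)
    (hs : g * z * g⁻¹ ∈ Q) (hsz : g * z * g⁻¹ ≠ z) : z ∈ Q.map (MulAut.conj g).toMonoidHom := by
  obtain ⟨s, hsdef⟩ : ∃ s, s = g * z * g⁻¹ := ⟨_, rfl⟩
  set P := Q.map (MulAut.conj g).toMonoidHom with hPdef
  have hP : IsZSub P s := hsdef ▸ h.conj g
  rw [← hsdef] at hs hsz
  by_contra hz
  have hzs : z * s = s * z := (h.z_comm hs).symm
  obtain ⟨q, hq, hqs⟩ := h.exists_not_commute hP.ne_one hsz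
  -- no element of `C(s)` takes `z` to `z * s`
  have hno : ∀ k : G, k * s = s * k → k * z * k⁻¹ ≠ z * s := by
    intro k hk hkz
    have hqc := h.conj_of_not_commute hq hs hqs
    have hqz := h.z_comm hq
    have hqz' : q * z * q⁻¹ = z := mul_inv_eq_iff_eq_mul.mpr hqz
    have hk' : k * s * k⁻¹ = s := mul_inv_eq_iff_eq_mul.mpr hk
    have hx1 : (q * k * q) * z * (q * k * q)⁻¹ = s := by
      calc (q * k * q) * z * (q * k * q)⁻¹ = q * (k * (q * z * q⁻¹) * k⁻¹) * q⁻¹ := by group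
        _ = q * (z * s) * q⁻¹ := by rw [hqz', hkz]
        _ = (q * z * q⁻¹) * (q * s * q⁻¹) := by group
        _ = s := by rw [hqz', hqc, ← mul_assoc, h.mul_self, one_mul]
    have hx2 : (q * k * q) * s * (q * k * q)⁻¹ = z := by
      calc (q * k * q) * s * (q * k * q)⁻¹ = q * (k * (q * s * q⁻¹) * k⁻¹) * q⁻¹ := by group
        _ = q * ((k * z * k⁻¹) * (k * s * k⁻¹)) * q⁻¹ := by rw [hqc]; group
        _ = q * (z * s * s) * q⁻¹ := by rw [hkz, hk']
        _ = z := by rw [mul_assoc z, hP.mul_self, mul_one, hqz']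
    apply hz
    rw [hPdef, ← h.map_conj_eq (hx1.trans hsdef)]
    exact ⟨s, hs, by simpa [mul_assoc] using hx2⟩
  have hQP : ∀ u ∈ Q, u ∈ P → u = 1 ∨ u = s := fun u h1 h2 => h.eq_of_mem_inf hP hs hsz hz h1 h2
  have hdelta : ∀ p ∈ P, z * p * z⁻¹ * p⁻¹ ∈ P := fun p hp =>
    P.mul_mem (hP.conj_mem hzs hp) (P.inv_mem hp)
  have hnos : ∀ p ∈ P, z * p * z⁻¹ * p⁻¹ ≠ s := by
    intro p hp he
    apply hno p⁻¹ (hP.z_comm (P.inv_mem hp))
    rw [inv_inv, hzs]
    calc p⁻¹ * z * p = p⁻¹ * (z * p * z⁻¹ * p⁻¹) * p * z := by group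
      _ = p⁻¹ * (s * p) * z := by rw [he]; group
      _ = p⁻¹ * (p * s) * z := by rw [hP.z_comm hp]
      _ = s * z := by group
  have hdz : ∀ p ∈ P, (z * p * z⁻¹ * p⁻¹) * z = z * (z * p * z⁻¹ * p⁻¹) := by
    intro p hp
    obtain ⟨d, hd⟩ : ∃ d, d = z * p * z⁻¹ * p⁻¹ := ⟨_, rfl⟩
    rw [← hd]
    have hdP : d ∈ P := hd ▸ hdelta p hp
    have hinv : z * d * z⁻¹ = d⁻¹ := by
      rw [hd, inv_eq_self_of_two h.two]
      calc z * (z * p * z * p⁻¹) * z = (z * z) * p * z * p⁻¹ * z := by group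
        _ = (z * p * z * p⁻¹)⁻¹ := by
          rw [h.mul_self]; simp [mul_inv_rev, inv_eq_self_of_two h.two, mul_assoc]
    rcases hP.sq_eq hdP with e | e
    · rw [inv_eq_of_mul_eq_one_right e] at hinv
      exact (mul_inv_eq_iff_eq_mul.mp hinv).symm
    · exfalso
      apply hno d⁻¹ (hP.z_comm (P.inv_mem hdP))
      have hdinv : d⁻¹ = d * s := inv_eq_of_mul_eq_one_right (by
        rw [← mul_assoc, e, hP.mul_self])
      rw [inv_inv]
      calc d⁻¹ * z * d = d⁻¹ * (z * d * z⁻¹) * z := by group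
        _ = d⁻¹ * (d * s) * z := by rw [hinv, hdinv]
        _ = s * z := by group
        _ = z * s := hzs.symm
  -- an element of `P` commuting with `C_P(z)` lies in `C_P(z)`
  have hU : ∀ u ∈ P, (∀ x ∈ P, x * z = z * x → u * x = x * u) → u * z = z * u := by
    intro u hu hux
    obtain ⟨e, he⟩ : ∃ e, e = z * u * z⁻¹ * u⁻¹ := ⟨_, rfl⟩
    have heP : e ∈ P := he ▸ hdelta u hu
    have heu : e * u = z * u * z⁻¹ := by rw [he]; group
    have hcom : ∀ p ∈ P, p * e = e * p := by
      intro p hp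
      obtain ⟨d, hd⟩ : ∃ d, d = z * p * z⁻¹ * p⁻¹ := ⟨_, rfl⟩
      have hdP : d ∈ P := hd ▸ hdelta p hp
      have hdu : u * d = d * u := hux d hdP (hd ▸ hdz p hp)
      have hdzd : z * d * z⁻¹ = d := mul_inv_eq_iff_eq_mul.mpr (hd ▸ hdz p hp).symm
      have hde : d * (e * u) = (e * u) * d := by
        rw [heu]
        calc d * (z * u * z⁻¹) = (z * d * z⁻¹) * (z * u * z⁻¹) := by rw [hdzd]
          _ = z * (d * u) * z⁻¹ := by group
          _ = z * (u * d) * z⁻¹ := by rw [hdu]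
          _ = z * u * z⁻¹ * (z * d * z⁻¹) := by group
          _ = z * u * z⁻¹ * d := by rw [hdzd]
      have hzp : z * p * z⁻¹ = d * p := by rw [hd]; group
      have heu2 : e * u * (d * p) * (e * u)⁻¹ = z * (u * p * u⁻¹) * z⁻¹ := by
        rw [heu, ← hzp]; group
      have hl : e * u * (d * p) * (e * u)⁻¹ = d * (e * (u * p * u⁻¹) * e⁻¹) := by
        rw [← mul_assoc (e * u) d p, ← hde]; group
      rw [hl] at heu2
      have hpe : e * p * e⁻¹ = p := by
        rcases hP.conj_eq hu hp with r | r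
        · rw [r, hzp] at heu2
          exact mul_left_cancel heu2
        · rw [r] at heu2
          have h1 : e * (s * p) * e⁻¹ = s * (e * p * e⁻¹) := by
            rw [← mul_assoc, hP.z_comm heP]; group
          have h2 : z * (s * p) * z⁻¹ = s * (d * p) := by
            rw [← hzp, ← mul_assoc, hzs]; group
          rw [h1, h2, ← mul_assoc, hP.z_comm hdP, mul_assoc] at heu2
          exact mul_left_cancel (mul_left_cancel heu2)
      exact (mul_inv_eq_iff_eq_mul.mp hpe).symm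
    rcases hP.mem_of_commutes hcom with r | r
    · rw [he] at r
      exact (mul_inv_eq_iff_eq_mul.mp (mul_inv_eq_one.mp r)).symm
    · exact absurd (he ▸ r) (hnos u hu)
  -- `C_Q(s)` centralizes `C_P(z)` modulo `⟨s⟩`
  have hW : ∀ c ∈ Q, c * s = s * c → ∀ x ∈ P, x * z = z * x → c * x * c⁻¹ = x ∨ c * x * c⁻¹ = s * x := by
    intro c hc hcs x hx hxz
    rcases hQP (c * x * c⁻¹ * x⁻¹) (by
        have := Q.mul_mem hc (h.conj_mem hxz (Q.inv_mem hc))
        simpa [mul_assoc] using this)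
      (P.mul_mem (hP.conj_mem hcs hx) (P.inv_mem hx)) with r | r
    · exact Or.inl (mul_inv_eq_one.mp r)
    · exact Or.inr (mul_inv_eq_iff_eq_mul.mp r)
  have hact : ∀ c ∈ Q, c * s = s * c → ∀ p ∈ P, ∃ u ∈ P, u * z = z * u ∧ c * p * c⁻¹ = p * u := by
    intro c hc hcs p hp
    refine ⟨p⁻¹ * (c * p * c⁻¹), P.mul_mem (P.inv_mem hp) (hP.conj_mem hcs hp),
      hU _ (P.mul_mem (P.inv_mem hp) (hP.conj_mem hcs hp)) fun x hx hxz => ?_, by group⟩
    have key : (c * p * c⁻¹) * x * (c * p * c⁻¹)⁻¹ = p * x * p⁻¹ := by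
      rcases hP.conj_eq hp hx with e | e <;> rcases hW c hc hcs x hx hxz with r | r
      · calc (c * p * c⁻¹) * x * (c * p * c⁻¹)⁻¹ = (c * p * c⁻¹) * (c * x * c⁻¹) * (c * p * c⁻¹)⁻¹ := by rw [r]
          _ = c * (p * x * p⁻¹) * c⁻¹ := by group
          _ = p * x * p⁻¹ := by rw [e, r]
      · have h1 : x = s * (c * x * c⁻¹) := by rw [r, ← mul_assoc, hP.mul_self, one_mul]
        calc (c * p * c⁻¹) * x * (c * p * c⁻¹)⁻¹
            = ((c * p * c⁻¹) * s) * (c * x * c⁻¹) * (c * p * c⁻¹)⁻¹ := by conv_lhs => rw [h1, ← mul_assoc]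
          _ = s * (c * (p * x * p⁻¹) * c⁻¹) := by rw [hP.z_comm (hP.conj_mem hcs hp)]; group
          _ = p * x * p⁻¹ := by rw [e, ← h1]
      · calc (c * p * c⁻¹) * x * (c * p * c⁻¹)⁻¹ = (c * p * c⁻¹) * (c * x * c⁻¹) * (c * p * c⁻¹)⁻¹ := by rw [r]
          _ = c * (p * x * p⁻¹) * c⁻¹ := by group
          _ = (c * s) * x * c⁻¹ := by rw [e]; group
          _ = s * (c * x * c⁻¹) := by rw [hcs]; group
          _ = p * x * p⁻¹ := by rw [r, e]
      · have h1 : x = s * (c * x * c⁻¹) := by rw [r, ← mul_assoc, hP.mul_self, one_mul]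
        calc (c * p * c⁻¹) * x * (c * p * c⁻¹)⁻¹
            = ((c * p * c⁻¹) * s) * (c * x * c⁻¹) * (c * p * c⁻¹)⁻¹ := by conv_lhs => rw [h1, ← mul_assoc]
          _ = s * (c * (p * x * p⁻¹) * c⁻¹) := by rw [hP.z_comm (hP.conj_mem hcs hp)]; group
          _ = s * (c * s * x * c⁻¹) := by rw [e]; group
          _ = s * (s * (c * x * c⁻¹)) := by rw [hcs]; group
          _ = p * x * p⁻¹ := by rw [← h1, e]
    calc p⁻¹ * (c * p * c⁻¹) * x = p⁻¹ * ((c * p * c⁻¹) * x * (c * p * c⁻¹)⁻¹) * (c * p * c⁻¹) := by group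
      _ = p⁻¹ * (p * x * p⁻¹) * (c * p * c⁻¹) := by rw [key]
      _ = x * (p⁻¹ * (c * p * c⁻¹)) := by group
  obtain ⟨a, ha, b, hb, has, hbs, hab⟩ := h.exists_noncommuting_in_centralizer hs hP.ne_one hsz hcard
  have habz : a * b = z * (b * a) := by
    rcases h.conj_eq ha hb with e | e
    · exact absurd (mul_inv_eq_iff_eq_mul.mp e) hab
    · rw [mul_inv_eq_iff_eq_mul.mp e, mul_assoc]
  have hzP : ∀ y ∈ P, y * z = z * y := by
    intro y hy
    set p := (b * a)⁻¹ * y * (b * a) with hp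
    have hba : (b * a)⁻¹ * s = s * (b * a)⁻¹ := by
      have : Commute (b * a) s := Commute.mul_left hbs has
      exact this.inv_left.eq
    have hpP : p ∈ P := by simpa [hp] using hP.conj_mem hba hy
    obtain ⟨u, hu, huz, hu'⟩ := hact a ha has p hpP
    obtain ⟨v, hv, hvz, hv'⟩ := hact b hb hbs p hpP
    have e1 : (a * b) * p * (a * b)⁻¹ = p * u * (a * v * a⁻¹) := by
      rw [← hu']
      calc a * b * p * (a * b)⁻¹ = a * (b * p * b⁻¹) * a⁻¹ := by group
        _ = _ := by rw [hv']; group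
    have e2 : (b * a) * p * (b * a)⁻¹ = p * v * (b * u * b⁻¹) := by
      rw [← hv']
      calc b * a * p * (b * a)⁻¹ = b * (a * p * a⁻¹) * b⁻¹ := by group
        _ = _ := by rw [hu']; group
    have hy' : (b * a) * p * (b * a)⁻¹ = y := by rw [hp]; group
    have e3 : z * y * z⁻¹ = p * u * (a * v * a⁻¹) := by
      rw [← e1, habz, ← hy']; group
    have e4 : z * y * z⁻¹ * y⁻¹ ∈ Subgroup.zpowers s := by
      rw [e3, ← hy', e2]
      have hcomm : ∀ t, (t = 1 ∨ t = s) → t ∈ Subgroup.zpowers s := by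
        rintro t (rfl | rfl)
        · exact one_mem _
        · exact Subgroup.mem_zpowers _
      have hmem : ∀ (c : G), c ∈ Q → c * s = s * c → ∀ x ∈ P, x * z = z * x →
          ∃ t ∈ Subgroup.zpowers s, c * x * c⁻¹ = t * x := fun c hc hcs x hx hxz => by
        rcases hW c hc hcs x hx hxz with r | r
        · exact ⟨1, one_mem _, by rw [r, one_mul]⟩
        · exact ⟨s, Subgroup.mem_zpowers _, r⟩
      obtain ⟨t₁, ht₁, r₁⟩ := hmem a ha has v hv hvz
      obtain ⟨t₂, ht₂, r₂⟩ := hmem b hb hbs u hu huz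
      have hcen : ∀ t ∈ Subgroup.zpowers s, ∀ x ∈ P, x * t = t * x := by
        intro t ht x hx
        rcases mem_zpowers_two hP.two ht with rfl | rfl
        · rw [one_mul, mul_one]
        · exact hP.z_comm hx
      have h12 : u * v * (v * u)⁻¹ ∈ Subgroup.zpowers s := by
        apply hcomm
        have := hP.comm_eq hu hv
        simpa [mul_assoc] using this
      rw [r₁, r₂]
      have he : p * u * (t₁ * v) * (p * v * (t₂ * u))⁻¹ = t₁ * (u * v * (v * u)⁻¹) * t₂⁻¹ := by
        have q1 : p * u * (t₁ * v) = t₁ * (p * (u * v)) := by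
          rw [← mul_assoc (p * u), hcen t₁ ht₁ _ (P.mul_mem hpP hu)]; group
        have q2 : p * v * (t₂ * u) = t₂ * (p * (v * u)) := by
          rw [← mul_assoc (p * v), hcen t₂ ht₂ _ (P.mul_mem hpP hv)]; group
        have q3 : p * (u * v * (v * u)⁻¹) = (u * v * (v * u)⁻¹) * p := hcen _ h12 p hpP
        calc p * u * (t₁ * v) * (p * v * (t₂ * u))⁻¹
            = t₁ * (p * (u * v * (v * u)⁻¹)) * p⁻¹ * t₂⁻¹ := by rw [q1, q2]; group
          _ = t₁ * (u * v * (v * u)⁻¹) * t₂⁻¹ := by rw [q3]; group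
      rw [he]
      exact mul_mem (mul_mem ht₁ h12) (inv_mem ht₂)
    rcases mem_zpowers_two hP.two e4 with r | r
    · exact (mul_inv_eq_iff_eq_mul.mp (mul_inv_eq_one.mp r)).symm
    · exact absurd r (hnos y hy)
  rcases hP.mem_of_commutes hzP with r | r
  · exact h.ne_one r
  · exact hsz r.symm

end IsZSub

end CfsgLib.LargeExtraspecial
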