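import Cfsg.Agent.LargeExtraspecial.PairS3

/-!
# The normalizer of `⟨z, s⟩` for a pair
-/

set_option autoImplicit false

namespace CfsgLib.LargeExtraspecial

namespace PairData

variable {G : Type*} [Group G] {Q P : Subgroup G} {z s : G}

theorem relIndex_eq_six [Finite G] (d : PairData Q P z s) :
    (Subgroup.centralizer ({z, s} : Set G)).relIndex
      (Subgroup.normalizer ((Subgroup.closure ({z, s} : Set G) : Subgroup G) : Set G)) = 6 := by
  obtain ⟨-, -, φ, hφ, hsurj⟩ := d.main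
  have hk : φ.ker = (Subgroup.centralizer ({z, s} : Set G)).subgroupOf
      (Subgroup.normalizer ((Subgroup.closure ({z, s} : Set G) : Subgroup G) : Set G)) := by
    ext a
    rw [MonoidHom.mem_ker, Subgroup.mem_subgroupOf]
    exact d.hom_ker φ hφ a
  have htop : φ.range = ⊤ := MonoidHom.range_eq_top.mpr fun π => by
    obtain ⟨a, -, ha⟩ := hsurj π
    exact ⟨a, ha⟩
  rw [Subgroup.relIndex, ← hk, Subgroup.index_ker, htop, Subgroup.card_top,
    Nat.card_eq_fintype_card, Fintype.card_perm]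
  rfl

theorem normalizer_eq [Finite G] (d : PairData Q P z s) :
    Subgroup.normalizer ((Subgroup.closure ({z, s} : Set G) : Subgroup G) : Set G) =
      (Q ⊔ P) ⊔ Subgroup.centralizer ({z, s} : Set G) := by
  obtain ⟨-, -, φ, hφ, hsurj⟩ := d.main
  refine le_antisymm (fun n hn => ?_) (sup_le d.X_le_normalizer_V d.C_le_normalizer_V)
  obtain ⟨a, ha, hφa⟩ := hsurj (φ ⟨n, hn⟩)
  have hc : ((a⁻¹ * ⟨n, hn⟩ :
      ↥(Subgroup.normalizer ((Subgroup.closure ({z, s} : Set G) : Subgroup G) : Set G))) : G) ∈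
      Subgroup.centralizer ({z, s} : Set G) := by
    rw [← d.hom_ker φ hφ, map_mul, map_inv, hφa, inv_mul_cancel]
  simpa using Subgroup.mul_mem_sup ha hc

theorem C_conj_mem_X (d : PairData Q P z s) {c x : G}
    (hc : c ∈ Subgroup.centralizer ({z, s} : Set G)) (hx : x ∈ Q ⊔ P) :
    c * x * c⁻¹ ∈ Q ⊔ P := by
  have h1 : c * z = z * c := (Subgroup.mem_centralizer_iff.mp hc z (by simp)).symm
  have h2 : c * s = s * c := (Subgroup.mem_centralizer_iff.mp hc s (by simp)).symm
  have hle : Q ⊔ P ≤ (Q ⊔ P).comap (MulAut.conj c).toMonoidHom :=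
    sup_le (fun u hu => Subgroup.mem_sup_left (by simpa using d.sub.conj_mem h1 hu))
      (fun u hu => Subgroup.mem_sup_right (by simpa using d.subP.conj_mem h2 hu))
  exact hle hx

theorem normalizer_conj_mem_X [Finite G] (d : PairData Q P z s) {y x : G}
    (hy : y ∈ Subgroup.normalizer ((Subgroup.closure ({z, s} : Set G) : Subgroup G) : Set G))
    (hx : x ∈ Q ⊔ P) : y * x * y⁻¹ ∈ Q ⊔ P := by
  have hle : Subgroup.normalizer ((Subgroup.closure ({z, s} : Set G) : Subgroup G) : Set G) ≤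
      Subgroup.normalizer ((Q ⊔ P : Subgroup G) : Set G) := by
    rw [d.normalizer_eq]
    refine sup_le Subgroup.le_normalizer fun c hc => Subgroup.mem_normalizer_iff.mpr fun u =>
      ⟨fun hu => d.C_conj_mem_X hc hu, fun hu => ?_⟩
    have := d.C_conj_mem_X (inv_mem hc) hu
    simpa [mul_assoc] using this
  exact (Subgroup.mem_normalizer_iff.mp (hle hy) x).mp hx

theorem comm_mem_R [Finite G] (d : PairData Q P z s) {x c : G} (hx : x ∈ Q ⊔ P)
    (hc : c ∈ Subgroup.centralizer ({z, s} : Set G)) : x * c * x⁻¹ * c⁻¹ ∈ d.R := by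
  rw [d.main.1]
  refine ⟨?_, ?_⟩
  · have := mul_mem hx (d.C_conj_mem_X hc (inv_mem hx))
    simpa [mul_assoc] using this
  · obtain ⟨φ, hφ⟩ := d.exists_hom
    have hxN := d.X_le_normalizer_V hx
    have hcN := d.C_le_normalizer_V hc
    have h := (d.hom_ker φ hφ (⟨x, hxN⟩ * ⟨c, hcN⟩ * ⟨x, hxN⟩⁻¹ * ⟨c, hcN⟩⁻¹)).mp (by
      rw [map_mul, map_mul, map_mul, map_inv, map_inv, (d.hom_ker φ hφ ⟨c, hcN⟩).mpr hc]
      group)
    simpa using h

/-- Membership of `R` as a product. -/
theorem mem_R_iff (d : PairData Q P z s) {x : G} :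
    x ∈ d.R ↔ ∃ b ∈ Q, ∃ a ∈ P, b * s = s * b ∧ a * z = z * a ∧ a * b = x := by
  constructor
  · intro hx
    have hn : P ⊓ Subgroup.centralizer ({z} : Set G) ≤
        Subgroup.normalizer ((Q ⊓ Subgroup.centralizer ({s} : Set G) : Subgroup G) : Set G) := by
      have key : ∀ y : G, Commute y z → Commute y s → ∀ u ∈ Q ⊓ Subgroup.centralizer ({s} : Set G),
          y * u * y⁻¹ ∈ Q ⊓ Subgroup.centralizer ({s} : Set G) := by
        rintro y hy1 hy2 u ⟨hu1, hu2⟩
        simp only [Subgroup.mem_toSubmonoid, SetLike.mem_coe] at hu1 hu2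
        rw [Subgroup.mem_centralizer_singleton_iff] at hu2
        refine ⟨d.sub.conj_mem hy1 hu1, Subgroup.mem_centralizer_singleton_iff.mpr ?_⟩
        exact ((hy2.mul_left hu2).mul_left hy2.inv_left).eq
      intro y hy
      obtain ⟨hy1, hy2⟩ := hy
      simp only [Subgroup.mem_toSubmonoid, SetLike.mem_coe] at hy1 hy2
      rw [Subgroup.mem_centralizer_singleton_iff] at hy2
      have hys : Commute y s := d.subP.z_comm hy1
      rw [Subgroup.mem_normalizer_iff]
      refine fun u => ⟨key y hy2 hys u, fun hu => ?_⟩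
      have := key y⁻¹ (show Commute y z from hy2).inv_left hys.inv_left _ hu
      simpa [mul_assoc] using this
    have hx' : x ∈ ((d.R : Subgroup G) : Set G) := hx
    rw [R, Subgroup.coe_mul_of_left_le_normalizer_right _ _ hn] at hx'
    obtain ⟨a, ⟨ha1, ha2⟩, b, ⟨hb1, hb2⟩, rfl⟩ := Set.mem_mul.mp hx'
    exact ⟨b, hb1, a, ha1, Subgroup.mem_centralizer_singleton_iff.mp hb2,
      Subgroup.mem_centralizer_singleton_iff.mp ha2, rfl⟩
  · rintro ⟨b, hb, a, ha, hbs, haz, rfl⟩
    exact Subgroup.mul_mem_sup ⟨ha, Subgroup.mem_centralizer_singleton_iff.mpr haz⟩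
      ⟨hb, Subgroup.mem_centralizer_singleton_iff.mpr hbs⟩

theorem V_le_R (d : PairData Q P z s) : Subgroup.closure ({z, s} : Set G) ≤ d.R := by
  refine (Subgroup.closure_le _).mpr ?_
  rintro y (rfl | rfl)
  · exact Subgroup.mem_sup_left ⟨d.z_mem, Subgroup.mem_centralizer_singleton_iff.mpr rfl⟩
  · exact Subgroup.mem_sup_right ⟨d.mem, Subgroup.mem_centralizer_singleton_iff.mpr rfl⟩

theorem center_R (d : PairData Q P z s) :
    (Subgroup.center ↥d.R).map d.R.subtype = Subgroup.closure ({z, s} : Set G) := by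
  apply le_antisymm
  · rintro _ ⟨⟨c, hcR⟩, hc, rfl⟩
    show c ∈ _
    have hcomm : ∀ y ∈ d.R, y * c = c * y := fun y hy =>
      congrArg Subtype.val (Subgroup.mem_center_iff.mp hc ⟨y, hy⟩)
    have hcz : c * z = z * c := (hcomm z (d.V_le_R (Subgroup.subset_closure (by simp)))).symm
    have hzV : z ∈ Subgroup.closure ({z, s} : Set G) := Subgroup.subset_closure (by simp)
    have hsV : s ∈ Subgroup.closure ({z, s} : Set G) := Subgroup.subset_closure (by simp)
    obtain ⟨q, hq, hqs⟩ := d.sub.exists_not_commute d.subP.ne_one d.ne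
    have hQs : ∀ x ∈ Q, x * s = s * x → x * c = c * x := fun x hx hxs =>
      hcomm x (Subgroup.mem_sup_right ⟨hx, Subgroup.mem_centralizer_singleton_iff.mpr hxs⟩)
    -- `c` moves `q` by a central element of `C_Q(s)`
    obtain ⟨y, hy⟩ : ∃ y, y = q⁻¹ * (c * q * c⁻¹) := ⟨_, rfl⟩
    have hcq : c * q * c⁻¹ = q * y := by rw [hy]; group
    have hyQ : y ∈ Q := hy ▸ Q.mul_mem (Q.inv_mem hq) (d.sub.conj_mem hcz hq)
    have hyc : ∀ x ∈ Q, x * s = s * x → x * y = y * x := by
      intro x hx hxs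
      have hcx : c * x * c⁻¹ = x := by rw [← hQs x hx hxs]; group
      rcases d.sub.conj_eq hq hx with e | e
      · have e' : (c * q * c⁻¹) * x * (c * q * c⁻¹)⁻¹ = x := by
          calc (c * q * c⁻¹) * x * (c * q * c⁻¹)⁻¹
              = (c * q * c⁻¹) * (c * x * c⁻¹) * (c * q * c⁻¹)⁻¹ := by rw [hcx]
            _ = c * (q * x * q⁻¹) * c⁻¹ := by group
            _ = x := by rw [e, hcx]
        rw [hy]
        calc x * (q⁻¹ * (c * q * c⁻¹)) = q⁻¹ * (q * x * q⁻¹) * (c * q * c⁻¹) := by group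
          _ = q⁻¹ * ((c * q * c⁻¹) * x * (c * q * c⁻¹)⁻¹) * (c * q * c⁻¹) := by rw [e, e']
          _ = q⁻¹ * (c * q * c⁻¹) * x := by group
      · have e' : (c * q * c⁻¹) * x * (c * q * c⁻¹)⁻¹ = z * x := by
          calc (c * q * c⁻¹) * x * (c * q * c⁻¹)⁻¹
              = (c * q * c⁻¹) * (c * x * c⁻¹) * (c * q * c⁻¹)⁻¹ := by rw [hcx]
            _ = c * (q * x * q⁻¹) * c⁻¹ := by group
            _ = z * x := by
              rw [e, show c * (z * x) * c⁻¹ = (c * z * c⁻¹) * (c * x * c⁻¹) from by group, hcx,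
                mul_inv_eq_iff_eq_mul.mpr hcz]
        rw [hy]
        calc x * (q⁻¹ * (c * q * c⁻¹)) = q⁻¹ * (q * x * q⁻¹) * (c * q * c⁻¹) := by group
          _ = q⁻¹ * ((c * q * c⁻¹) * x * (c * q * c⁻¹)⁻¹) * (c * q * c⁻¹) := by rw [e, e']
          _ = q⁻¹ * (c * q * c⁻¹) * x := by group
    have hqs' : q * s = z * s * q :=
      mul_inv_eq_iff_eq_mul.mp (d.sub.conj_of_not_commute hq d.mem hqs)
    -- `c q c⁻¹` has the same square as `q`
    have hsquare : (q * y) * (q * y) = q * q := by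
      have hqqz : c * (q * q) * c⁻¹ = q * q := by
        rcases d.sub.sq_eq hq with e | e <;> rw [e]
        · group
        · rw [mul_inv_eq_iff_eq_mul.mpr hcz]
      rw [← hcq, ← hqqz]; group
    have hcomm_q : y * q * y = q := by
      have := hsquare
      rw [mul_assoc q y (q * y)] at this
      have := mul_left_cancel this
      rwa [← mul_assoc] at this
    have hss : s * s = 1 := d.subP.mul_self
    have hy1z : y = 1 ∨ y = z := by
      rcases d.sub.mem_double_centralizer d.mem d.subP.ne_one d.ne hyQ hyc with r | r | r | r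
      · exact Or.inl r
      · exact Or.inr r
      · exfalso
        rw [r] at hcomm_q
        apply hqs
        calc q * s = (s * q * s) * s := by rw [hcomm_q]
          _ = s * q := by rw [mul_assoc _ s s, hss, mul_one]
      · exfalso
        rw [r] at hcomm_q
        have h1 : q * (z * s) = s * q := by
          calc q * (z * s) = (q * z) * s := (mul_assoc _ _ _).symm
            _ = z * (q * s) := by rw [d.sub.z_comm hq, mul_assoc]
            _ = (z * z) * (s * q) := by rw [hqs']; group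
            _ = s * q := by rw [d.sub.mul_self, one_mul]
        rw [mul_assoc, h1, mul_assoc z s (s * q), ← mul_assoc s s q, hss, one_mul] at hcomm_q
        exact d.sub.ne_one (mul_eq_right.mp hcomm_q)
    rcases hy1z with r | r
    · -- `c` centralizes `Q`
      rw [r, mul_one] at hcq
      have hall : ∀ x ∈ Q, x * c = c * x := by
        intro x hx
        by_cases hxs : x * s = s * x
        · exact hQs x hx hxs
        · have h1 := hQs _ (Q.mul_mem (Q.inv_mem hq) hx) (d.sub.inv_mul_commute hx hq d.mem hxs hqs)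
          calc x * c = q * (q⁻¹ * x * c) := by group
            _ = q * (c * (q⁻¹ * x)) := by rw [h1]
            _ = (q * c) * (q⁻¹ * x) := by group
            _ = (c * q) * (q⁻¹ * x) := by rw [← mul_inv_eq_iff_eq_mul.mp hcq]
            _ = c * x := by group
      rcases d.sub.mem_of_commutes hall with e | e <;> rw [e]
      · exact one_mem _
      · exact hzV
    · -- `s c` centralizes `Q`
      rw [r] at hcq
      have hcq' : c * q = q * z * c := mul_inv_eq_iff_eq_mul.mp hcq
      have hall : ∀ x ∈ Q, x * (s * c) = s * c * x := by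
        intro x hx
        have hcs : ∀ x ∈ Q, x * s = s * x → x * (s * c) = s * c * x := fun x hx hxs => by
          rw [← mul_assoc, hxs, mul_assoc, hQs x hx hxs, mul_assoc]
        have hq2 : q * (s * c) = s * c * q := by
          calc q * (s * c) = (q * s) * c := by group
            _ = z * s * q * c := by rw [hqs']
            _ = s * z * q * c := by rw [d.comm]
            _ = s * (q * z * c) := by rw [mul_assoc s z q, ← d.sub.z_comm hq]; group
            _ = s * c * q := by rw [← hcq', mul_assoc]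
        by_cases hxs : x * s = s * x
        · exact hcs x hx hxs
        · have h1 := hcs _ (Q.mul_mem (Q.inv_mem hq) hx) (d.sub.inv_mul_commute hx hq d.mem hxs hqs)
          calc x * (s * c) = q * (q⁻¹ * x * (s * c)) := by group
            _ = q * (s * c * (q⁻¹ * x)) := by rw [h1]
            _ = (q * (s * c)) * (q⁻¹ * x) := by group
            _ = (s * c * q) * (q⁻¹ * x) := by rw [hq2]
            _ = s * c * x := by group
      have hc' : c = s * (s * c) := by rw [← mul_assoc, hss, one_mul]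
      rcases d.sub.mem_of_commutes hall with e | e <;> rw [hc', e]
      · rw [mul_one]; exact hsV
      · exact mul_mem hsV hzV
  · refine (Subgroup.closure_le _).mpr ?_
    rintro y (rfl | rfl)
    · exact ⟨⟨_, d.V_le_R (Subgroup.subset_closure (by simp))⟩, Subgroup.mem_center_iff.mpr fun u =>
        Subtype.ext (Subgroup.mem_centralizer_iff.mp (d.R_le_C u.2) _ (by simp)).symm, rfl⟩
    · exact ⟨⟨_, d.V_le_R (Subgroup.subset_closure (by simp))⟩, Subgroup.mem_center_iff.mpr fun u =>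
        Subtype.ext (Subgroup.mem_centralizer_iff.mp (d.R_le_C u.2) _ (by simp)).symm, rfl⟩

theorem inf_le_R (d : PairData Q P z s) : Q ⊓ P ≤ d.R := fun _ hx =>
  Subgroup.mem_sup_right ⟨hx.1, Subgroup.mem_centralizer_singleton_iff.mpr (d.subP.z_comm hx.2)⟩

theorem inf_eq (d : PairData Q P z s) :
    (P ⊓ Subgroup.centralizer ({z} : Set G)) ⊓ (Q ⊓ Subgroup.centralizer ({s} : Set G)) = Q ⊓ P := by
  ext x
  simp only [Subgroup.mem_inf, Subgroup.mem_centralizer_singleton_iff]
  exact ⟨fun h => ⟨h.2.1, h.1.1⟩, fun h => ⟨⟨h.2, d.sub.z_comm h.1⟩, h.1, d.subP.z_comm h.2⟩⟩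

theorem isElementaryAbelian_inf (d : PairData Q P z s) : Cfsg.IsElementaryAbelian 2 (Q ⊓ P) := by
  refine ⟨⟨⟨fun x y => Subtype.ext ?_⟩⟩, fun x hx => ?_⟩
  · show (x : G) * y = y * x
    rcases d.sub.conj_eq x.2.1 y.2.1 with e | e
    · exact mul_inv_eq_iff_eq_mul.mp e
    · rcases d.subP.conj_eq x.2.2 y.2.2 with e' | e'
      · exact mul_inv_eq_iff_eq_mul.mp e'
      · exact absurd (mul_right_cancel (e'.symm.trans e)) d.ne
  · rw [sq]
    rcases d.sub.sq_eq hx.1 with e | e
    · exact e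
    · rcases d.subP.sq_eq hx.2 with e' | e'
      · exact e'
      · exact absurd (e'.symm.trans e) d.ne

theorem comm_R_mem_inf (d : PairData Q P z s) {x y : G} (hx : x ∈ d.R) (hy : y ∈ d.R) :
    x * y * x⁻¹ * y⁻¹ ∈ Q ⊓ P ∧ x ^ 2 ∈ Q ⊓ P := by
  -- conjugation invariance of `Q ⊓ P` under `R`
  have hconj : ∀ r ∈ d.R, ∀ u ∈ Q ⊓ P, r * u * r⁻¹ ∈ Q ⊓ P := by
    intro r hr u hu
    have hc := d.R_le_C hr
    exact ⟨d.sub.conj_mem (Subgroup.mem_centralizer_iff.mp hc z (by simp)).symm hu.1,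
      d.subP.conj_mem (Subgroup.mem_centralizer_iff.mp hc s (by simp)).symm hu.2⟩
  have hzE : z ∈ Q ⊓ P := ⟨d.sub.z_mem, d.z_mem⟩
  have hsE : s ∈ Q ⊓ P := ⟨d.mem, d.subP.z_mem⟩
  have hgen : ∀ u v : G, (u ∈ Q ∧ u * s = s * u ∨ u ∈ P ∧ u * z = z * u) →
      (v ∈ Q ∧ v * s = s * v ∨ v ∈ P ∧ v * z = z * v) → u * v * u⁻¹ * v⁻¹ ∈ Q ⊓ P := by
    rintro u v (⟨hu, hu'⟩ | ⟨hu, hu'⟩) (⟨hv, hv'⟩ | ⟨hv, hv'⟩)
    · rcases d.sub.comm_eq hu hv with e | e <;> rw [e]
      · exact one_mem _
      · exact hzE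
    · refine ⟨?_, P.mul_mem (d.subP.conj_mem hu' hv) (P.inv_mem hv)⟩
      have := Q.mul_mem hu (d.sub.conj_mem hv' (Q.inv_mem hu))
      simpa [mul_assoc] using this
    · refine ⟨Q.mul_mem (d.sub.conj_mem hu' hv) (Q.inv_mem hv), ?_⟩
      have := P.mul_mem hu (d.subP.conj_mem hv' (P.inv_mem hu))
      simpa [mul_assoc] using this
    · rcases d.subP.comm_eq hu hv with e | e <;> rw [e]
      · exact one_mem _
      · exact hsE
  have hprod : ∀ x ∈ d.R, ∀ v : G, (v ∈ Q ∧ v * s = s * v ∨ v ∈ P ∧ v * z = z * v) →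
      x * v * x⁻¹ * v⁻¹ ∈ Q ⊓ P := by
    intro x hx v hv
    obtain ⟨b, hb, a, ha, hbs, haz, rfl⟩ := d.mem_R_iff.mp hx
    have h1 := hgen b v (Or.inl ⟨hb, hbs⟩) hv
    have h2 := hgen a v (Or.inr ⟨ha, haz⟩) hv
    have haR : a ∈ d.R := Subgroup.mem_sup_left ⟨ha, Subgroup.mem_centralizer_singleton_iff.mpr haz⟩
    have := mul_mem (hconj a haR _ h1) h2
    convert this using 1
    group
  have hcomm : ∀ x ∈ d.R, ∀ y ∈ d.R, x * y * x⁻¹ * y⁻¹ ∈ Q ⊓ P := by
    intro x hx y hy
    obtain ⟨b, hb, a, ha, hbs, haz, rfl⟩ := d.mem_R_iff.mp hy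
    have haR : a ∈ d.R := Subgroup.mem_sup_left ⟨ha, Subgroup.mem_centralizer_singleton_iff.mpr haz⟩
    have h1 := hprod x hx a (Or.inr ⟨ha, haz⟩)
    have h2 := hconj a haR _ (hprod x hx b (Or.inl ⟨hb, hbs⟩))
    have := mul_mem h1 h2
    convert this using 1
    group
  refine ⟨hcomm x hx y hy, ?_⟩
  obtain ⟨b, hb, a, ha, hbs, haz, rfl⟩ := d.mem_R_iff.mp hx
  have ha2 : a * a ∈ Q ⊓ P := by
    rcases d.subP.sq_eq ha with e | e <;> rw [e]
    · exact one_mem _
    · exact hsE
  have hb2 : b * b ∈ Q ⊓ P := by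
    rcases d.sub.sq_eq hb with e | e <;> rw [e]
    · exact one_mem _
    · exact hzE
  have haR : a ∈ d.R := Subgroup.mem_sup_left ⟨ha, Subgroup.mem_centralizer_singleton_iff.mpr haz⟩
  have h1 := hconj a haR _ (hgen b a (Or.inl ⟨hb, hbs⟩) (Or.inr ⟨ha, haz⟩))
  have := mul_mem (mul_mem h1 ha2) hb2
  convert this using 1
  rw [sq]; group

theorem commutator_le (d : PairData Q P z s) :
    ⁅Q ⊔ P, Q ⊓ P⁆ ≤ Subgroup.closure ({z, s} : Set G) := by
  have hVc : ∀ x ∈ Q ⊔ P, ∀ u ∈ Subgroup.closure ({z, s} : Set G),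
      x * u * x⁻¹ ∈ Subgroup.closure ({z, s} : Set G) := fun x hx u hu =>
    (Subgroup.mem_normalizer_iff.mp (d.X_le_normalizer_V hx) u).mp hu
  have hz : z ∈ Subgroup.closure ({z, s} : Set G) := Subgroup.subset_closure (by simp)
  have hs : s ∈ Subgroup.closure ({z, s} : Set G) := Subgroup.subset_closure (by simp)
  rw [Subgroup.commutator_le]
  intro x hx e he
  let T : Subgroup G :=
    { carrier := {x | x ∈ Q ⊔ P ∧ x * e * x⁻¹ * e⁻¹ ∈ Subgroup.closure ({z, s} : Set G)}
      one_mem' := ⟨one_mem _, by simp⟩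
      mul_mem' := by
        intro a b ha hb
        refine ⟨mul_mem ha.1 hb.1, ?_⟩
        have := mul_mem (hVc a ha.1 _ hb.2) ha.2
        convert this using 1
        group
      inv_mem' := by
        intro a ha
        refine ⟨inv_mem ha.1, ?_⟩
        have := hVc a⁻¹ (inv_mem ha.1) _ (inv_mem ha.2)
        convert this using 1
        group }
  have hle : Q ⊔ P ≤ T := by
    refine sup_le (fun q hq => ⟨Subgroup.mem_sup_left hq, ?_⟩) (fun p hp => ⟨Subgroup.mem_sup_right hp, ?_⟩)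
    · rcases d.sub.comm_eq hq he.1 with r | r <;> rw [r]
      · exact one_mem _
      · exact hz
    · rcases d.subP.comm_eq hp he.2 with r | r <;> rw [r]
      · exact one_mem _
      · exact hs
  exact (hle hx).2

end PairData

end CfsgLib.LargeExtraspecial
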