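import Cfsg.Agent.LargeExtraspecial.TransvectionModel
import Cfsg.Agent.LargeExtraspecial.PairFacts
import Mathlib.LinearAlgebra.Matrix.SpecialLinearGroup
import Mathlib.LinearAlgebra.Matrix.Reindex

/-!
# The centralizer of a transvection in `SL(n+2,2)`
-/

set_option autoImplicit false
set_option linter.style.haveILetI false

open Matrix

namespace CfsgLib.LargeExtraspecial.Transvection

theorem toGL_bijective {ι : Type*} [Fintype ι] [DecidableEq ι] :
    Function.Bijective (Matrix.SpecialLinearGroup.toGL :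
      Matrix.SpecialLinearGroup ι F2 → Matrix.GeneralLinearGroup ι F2) := by
  refine ⟨fun a b e => Subtype.ext (congrArg Units.val e), fun g => ?_⟩
  refine ⟨⟨g.val, f2_eq_one _ ?_⟩, Units.ext rfl⟩
  intro h0
  have e := congrArg Matrix.det g.mul_inv
  rw [Matrix.det_mul, h0, zero_mul, Matrix.det_one] at e
  exact f2_zero_ne_one e

/-- The index bijection. -/
def idx (n : ℕ) : Fin 2 ⊕ Fin n ≃ Fin (n + 2) := finSumFinEquiv.trans (finCongr (Nat.add_comm 2 n))

theorem idx_zero (n : ℕ) : idx n (Sum.inl 0) = 0 := by ext; simp [idx]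

theorem idx_one (n : ℕ) : idx n (Sum.inl 1) = 1 := by ext; simp [idx]

/-- The embedding of `SL(n+2,2)`. -/
def slHom (n : ℕ) : Matrix.SpecialLinearGroup (Fin (n + 2)) F2 →*
    Matrix.GeneralLinearGroup (Fin 2 ⊕ Fin n) F2 :=
  (Units.map (Matrix.reindexAlgEquiv F2 F2 (idx n).symm).toMonoidHom).comp
    Matrix.SpecialLinearGroup.toGL

theorem slHom_bijective (n : ℕ) : Function.Bijective (slHom n) := by
  have h1 := (Units.mapEquiv (Matrix.reindexAlgEquiv F2 F2 (idx n).symm).toMulEquiv).bijective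
  exact h1.comp (toGL_bijective (ι := Fin (n + 2)))

theorem conclusion_SL (n : ℕ) (hn : 2 ≤ n) (z : Matrix.SpecialLinearGroup (Fin (n + 2)) F2)
    (hz : (z : Matrix (Fin (n + 2)) (Fin (n + 2)) F2) = Matrix.transvection 0 1 1)
    (Q : Subgroup (Matrix.SpecialLinearGroup (Fin (n + 2)) F2))
    (hQ : Q = (Cfsg.pCore 2 ↥(Subgroup.centralizer ({z} : Set (Matrix.SpecialLinearGroup (Fin (n + 2)) F2)))).map
      (Subgroup.centralizer ({z} : Set (Matrix.SpecialLinearGroup (Fin (n + 2)) F2))).subtype) :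
    Cfsg.IsExtraspecial 2 ↥Q ∧ Nat.card ↥Q = 2 ^ (2 * n + 1) ∧
    (∃ E : Subgroup (Matrix.SpecialLinearGroup (Fin (n + 2)) F2), E ≤ Q ∧
      Cfsg.IsElementaryAbelian 2 E ∧ Nat.card ↥E = 2 ^ (n + 1)) ∧
    Cfsg.IsLargeExtraspecial Q ∧
    ∃ K : Subgroup (Matrix.SpecialLinearGroup (Fin (n + 2)) F2),
      K ≤ Subgroup.centralizer ({z} : Set (Matrix.SpecialLinearGroup (Fin (n + 2)) F2)) ∧
      Q ⊓ K = ⊥ ∧ Q ⊔ K = Subgroup.centralizer ({z} : Set (Matrix.SpecialLinearGroup (Fin (n + 2)) F2)) ∧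
      Nonempty (↥K ≃* Matrix.SpecialLinearGroup (Fin n) F2) := by
  set ψ := slHom n with hψ
  have hval : ∀ g, ((ψ g : Matrix.GeneralLinearGroup (Fin 2 ⊕ Fin n) F2) :
      Matrix (Fin 2 ⊕ Fin n) (Fin 2 ⊕ Fin n) F2) =
      (g : Matrix (Fin (n + 2)) (Fin (n + 2)) F2).submatrix (idx n) (idx n) := fun g => rfl
  have hzψ : ((ψ z : Matrix.GeneralLinearGroup (Fin 2 ⊕ Fin n) F2) :
      Matrix (Fin 2 ⊕ Fin n) (Fin 2 ⊕ Fin n) F2) =
      Matrix.transvection (Sum.inl 0) (Sum.inl 1) 1 := by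
    rw [hval, hz]
    ext i j
    simp only [Matrix.submatrix_apply, Matrix.transvection, Matrix.add_apply, Matrix.one_apply,
      Matrix.single, Matrix.of_apply, (idx n).apply_eq_iff_eq, ← idx_zero n, ← idx_one n]
  obtain ⟨hZ, hcard, hE, helem, K, hKC, hQK, hQKC, ⟨eK⟩⟩ := centralizer_structure ψ
    (slHom_bijective n).1 (by omega) z hzψ (fun g _ => (slHom_bijective n).2 g) Q hQ
  refine ⟨hZ.extra, hcard, hE, ?_, K, hKC, hQK, hQKC,
    ⟨eK.trans (MulEquiv.ofBijective _ toGL_bijective).symm⟩⟩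
  let k : Fin n := ⟨0, by omega⟩
  have htt : Matrix.transvection (Sum.inl 1 : Fin 2 ⊕ Fin n) (Sum.inr k) (1 : F2) *
      Matrix.transvection (Sum.inl 1) (Sum.inr k) 1 = 1 := by
    rw [Matrix.transvection_mul_transvection_same _ _ (by simp), f2_one_add_one,
      Matrix.transvection_zero]
  obtain ⟨g, hg⟩ := (slHom_bijective n).2 ⟨_, _, htt, htt⟩
  obtain ⟨s, hsQ, hs⟩ := helem 1 (Pi.single k 1) 0
  have hconj : g * z * g⁻¹ = s := by
    refine (slHom_bijective n).1 (Units.ext ?_)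
    rw [map_mul, map_mul, map_inv, ← hψ, hs, Units.val_mul, Units.val_mul, hzψ,
      show ψ g = _ from hg]
    show Matrix.transvection (Sum.inl 1) (Sum.inr k) 1 * Matrix.transvection (Sum.inl 0) (Sum.inl 1) 1
      * Matrix.transvection (Sum.inl 1) (Sum.inr k) 1 = _
    have e : ∀ A B : Matrix (Fin 2 ⊕ Fin n) (Fin 2 ⊕ Fin n) F2, A * B = 0 → A * A = 0 →
        A + A = 0 → (1 + A) * (1 + B) * (1 + A) = (1 + B) * (1 + B * A) + B * B * A := by
      intro A B hAB hAA hA2
      have : (1 + A) * (1 + B) * (1 + A) = 1 + B + B * A + (A + A) + A * A + A * B * (1 + A) := by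
        noncomm_ring
      rw [this, hAB, hAA, hA2, zero_mul, add_zero, add_zero, add_zero]
      have : (1 + B) * (1 + B * A) + B * B * A = 1 + B + B * A + (B * B * A + B * B * A) := by
        noncomm_ring
      rw [this, show B * B * A + B * B * A = 0 from Matrix.ext fun i j => f2_add_self _, add_zero]
    simp only [Matrix.transvection]
    rw [e _ _ (Matrix.single_mul_single_of_ne _ _ _ _ (by simp) _)
      (Matrix.single_mul_single_of_ne _ _ _ _ (by simp) _) (Matrix.ext fun i j => f2_add_self _),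
      Matrix.single_mul_single_same, Matrix.single_mul_single_of_ne _ _ _ _ (by simp) _,
      zero_mul, add_zero, mul_one]
    have e1 := transvection_a_eq_mat (n := n) k
    have e2 := transvection_eq_mat (n := n)
    simp only [Matrix.transvection] at e1 e2
    rw [e1, e2, mat_mul]
    simp
  have hne : g * z * g⁻¹ ≠ z := by
    rw [hconj]
    intro e
    rw [e, hzψ, transvection_eq_mat] at hs
    have := congrFun (mat_inj hs).2.1 k
    simp at this
  refine isLarge_of_pairData (pairData_of_mem hZ ?_ (hconj ▸ hsQ) hne)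
  have h5 : 2 ^ 5 ≤ 2 ^ (2 * n + 1) := Nat.pow_le_pow_right (by norm_num) (by omega)
  rw [hcard]
  omega

end CfsgLib.LargeExtraspecial.Transvection
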