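import Cfsg.Prelude.Def_MonsterType

/-!
# Basic lemmas on extraspecial 2-subgroups `Q` with `C(Q) = Z(Q)` and `C(Z(Q)) ≤ N(Q)`
-/

set_option autoImplicit false

namespace CfsgLib.LargeExtraspecial

variable {G : Type*} [Group G]

/-- Every normal `p`-subgroup, hence the `p`-core, lies in every Sylow `p`-subgroup. -/
theorem pCore_le_sylow (p : ℕ) (P : Sylow p G) : Cfsg.pCore p G ≤ P :=
  sSup_le fun _ h => haveI := h.1; IsPGroup.le_sylow_of_normal h.2 P

theorem isPGroup_pCore (p : ℕ) (G : Type*) [Group G] : IsPGroup p (Cfsg.pCore p G) := by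
  obtain ⟨P⟩ : Nonempty (Sylow p G) := inferInstance
  exact P.2.to_le (pCore_le_sylow p P)

theorem pCore_normal' (p : ℕ) (G : Type*) [Group G] : (Cfsg.pCore p G).Normal :=
  Subgroup.sSup_normal _ (fun _ h => h.1)

/-- A `2`-element lying in a subgroup of odd order is trivial. -/
theorem eq_one_of_two_of_odd {P K : Subgroup G} (hP : IsPGroup 2 P) (hK : Odd (Nat.card K))
    {x : G} (hxP : x ∈ P) (hxK : x ∈ K) : x = 1 := by
  obtain ⟨k, hk⟩ := hP ⟨x, hxP⟩
  have h1 : x ^ 2 ^ k = 1 := by simpa using congrArg Subtype.val hk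
  have h2 : x ^ Nat.card K = 1 := by
    have := congrArg Subtype.val (pow_card_eq_one' (x := (⟨x, hxK⟩ : K)))
    rwa [Subgroup.coe_pow, Subgroup.coe_one] at this
  have hc : Nat.gcd (2 ^ k) (Nat.card K) = 1 :=
    Nat.Coprime.pow_left k (Nat.coprime_two_left.mpr hK)
  simpa [hc] using (pow_gcd_eq_one (a := x)).mpr ⟨h1, h2⟩

theorem inf_eq_bot_of_two_of_odd {P K : Subgroup G} (hP : IsPGroup 2 P) (hK : Odd (Nat.card K)) :
    P ⊓ K = ⊥ :=
  (Subgroup.eq_bot_iff_forall _).mpr fun _ hx => eq_one_of_two_of_odd hP hK hx.1 hx.2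

theorem center_map_le (Q : Subgroup G) : (Subgroup.center Q).map Q.subtype ≤ Q :=
  Subgroup.map_subtype_le _

/-- Under `C(Q) = Z` and `C(Z) ≤ N(Q)`, an odd order subgroup normalized by `Q` meets `C(Z)` trivially. -/
theorem eq_one_of_centralizes_center {Q K : Subgroup G} (hQ : IsPGroup 2 Q) (hK : Odd (Nat.card K))
    (hC : Subgroup.centralizer (Q : Set G) = (Subgroup.center Q).map Q.subtype)
    (hN : Subgroup.centralizer (((Subgroup.center Q).map Q.subtype : Subgroup G) : Set G)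
      ≤ Subgroup.normalizer (Q : Set G))
    (hQK : Q ≤ Subgroup.normalizer (K : Set G)) {k : G} (hkK : k ∈ K)
    (hkZ : k ∈ Subgroup.centralizer (((Subgroup.center Q).map Q.subtype : Subgroup G) : Set G)) :
    k = 1 := by
  have hkC : k ∈ Subgroup.centralizer (Q : Set G) := by
    rw [Subgroup.mem_centralizer_iff]
    intro q hq
    have hkq : k * q * k⁻¹ ∈ Q := (Subgroup.mem_normalizer_iff.mp (hN hkZ) q).mp hq
    have hqk : q * k⁻¹ * q⁻¹ ∈ K :=
      (Subgroup.mem_normalizer_iff.mp (hQK hq) k⁻¹).mp (K.inv_mem hkK)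
    have h := eq_one_of_two_of_odd hQ hK (x := k * q * k⁻¹ * q⁻¹) (Q.mul_mem hkq (Q.inv_mem hq))
      (by simpa [mul_assoc] using K.mul_mem hkK hqk)
    calc q * k = (k * q * k⁻¹ * q⁻¹) * q * k := by rw [h, one_mul]
      _ = k * q := by group
  rw [hC] at hkC
  exact eq_one_of_two_of_odd hQ hK (center_map_le Q hkC) hkK

theorem exists_center_gen {Q : Subgroup G} (h : Nat.card (Subgroup.center Q) = 2) :
    ∃ z : G, orderOf z = 2 ∧ (Subgroup.center Q).map Q.subtype = Subgroup.zpowers z := by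
  have hc : Nat.card ((Subgroup.center Q).map Q.subtype : Subgroup G) = 2 := by
    rw [Subgroup.card_map_of_injective Q.subtype_injective, h]
  haveI : IsCyclic ((Subgroup.center Q).map Q.subtype : Subgroup G) :=
    isCyclic_of_prime_card (p := 2) hc
  obtain ⟨z, hz⟩ := Subgroup.isCyclic_iff_exists_zpowers_eq_top
    ((Subgroup.center Q).map Q.subtype) |>.mp inferInstance
  exact ⟨z, by rw [← Nat.card_zpowers, hz, hc], hz.symm⟩

theorem centralizer_zpowers (z : G) :
    Subgroup.centralizer ((Subgroup.zpowers z : Subgroup G) : Set G) = Subgroup.centralizer {z} := by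
  rw [Subgroup.zpowers_eq_closure, Subgroup.centralizer_closure]

theorem mem_of_centralizer_singleton {Q : Subgroup G} {z c : G}
    (hz : (Subgroup.center Q).map Q.subtype = Subgroup.zpowers z) (hc : c * z = z * c) :
    c ∈ Subgroup.centralizer (((Subgroup.center Q).map Q.subtype : Subgroup G) : Set G) := by
  rw [hz, centralizer_zpowers, Subgroup.mem_centralizer_singleton_iff]
  exact hc

theorem commutes_of_mem {Q : Subgroup G} {z q : G}
    (hz : (Subgroup.center Q).map Q.subtype = Subgroup.zpowers z) (hq : q ∈ Q) : q * z = z * q := by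
  have h : z ∈ (Subgroup.center Q).map Q.subtype := hz ▸ Subgroup.mem_zpowers z
  obtain ⟨c, hc, rfl⟩ := Subgroup.mem_map.mp h
  simpa using congrArg Subtype.val (Subgroup.mem_center_iff.mp hc ⟨q, hq⟩)

/-- Largeness when the centre lies in the `2`-core. -/
theorem isLarge_of_center_le_pCore [Finite G] {Q : Subgroup G} (hE : Cfsg.IsExtraspecial 2 Q)
    (hC : Subgroup.centralizer (Q : Set G) = (Subgroup.center Q).map Q.subtype)
    (hN : Subgroup.centralizer (((Subgroup.center Q).map Q.subtype : Subgroup G) : Set G)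
      ≤ Subgroup.normalizer (Q : Set G))
    (hZ : (Subgroup.center Q).map Q.subtype ≤ Cfsg.pCore 2 G) :
    Cfsg.IsLargeExtraspecial Q := by
  refine ⟨hE, hC, hN, fun K hK hQK => (Subgroup.eq_bot_iff_forall _).mpr fun k hk => ?_⟩
  haveI := pCore_normal' 2 G
  obtain ⟨z, -, hz⟩ := exists_center_gen hE.2
  have hzm : z ∈ (Subgroup.center Q).map Q.subtype := hz ▸ Subgroup.mem_zpowers z
  refine eq_one_of_centralizes_center hE.1.1 hK hC hN hQK hk (mem_of_centralizer_singleton hz ?_)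
  have h1 : z * k * z⁻¹ * k⁻¹ ∈ K :=
    K.mul_mem ((Subgroup.mem_normalizer_iff.mp (hQK (center_map_le Q hzm)) k).mp hk) (K.inv_mem hk)
  have h2 : z * (k * z⁻¹ * k⁻¹) ∈ Cfsg.pCore 2 G :=
    mul_mem (hZ hzm) (Subgroup.Normal.conj_mem inferInstance _ (inv_mem (hZ hzm)) k)
  have h := eq_one_of_two_of_odd (isPGroup_pCore 2 G) hK (x := z * k * z⁻¹ * k⁻¹)
    (by simpa [mul_assoc] using h2) h1
  calc k * z = (z * k * z⁻¹ * k⁻¹) * k * z := by rw [h, one_mul]
    _ = z * k := by group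

/-- An element of `zpowers` of an involution is `1` or the involution. -/
theorem mem_zpowers_two {z x : G} (hz : orderOf z = 2) (hx : x ∈ Subgroup.zpowers z) :
    x = 1 ∨ x = z := by
  obtain ⟨n, rfl⟩ := Subgroup.mem_zpowers_iff.mp hx
  rw [← zpow_mod_orderOf, hz]
  rcases Int.emod_two_eq_zero_or_one n with h | h <;> simp [h]

theorem inv_eq_self_of_two {z : G} (hz : orderOf z = 2) : z⁻¹ = z := by
  rw [inv_eq_iff_mul_eq_one, ← sq, ← hz, pow_orderOf_eq_one]

/-- In an extraspecial subgroup every commutator is `1` or the central involution. -/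
theorem commutator_mem_center {Q : Subgroup G} (hE : Cfsg.IsExtraspecial 2 Q) {x y : G}
    (hx : x ∈ Q) (hy : y ∈ Q) :
    x * y * x⁻¹ * y⁻¹ ∈ (Subgroup.center Q).map Q.subtype := by
  refine ⟨(⟨x, hx⟩ : Q) * ⟨y, hy⟩ * (⟨x, hx⟩ : Q)⁻¹ * (⟨y, hy⟩ : Q)⁻¹, ?_, by simp⟩
  rw [← hE.1.2.2]
  exact Subgroup.commutator_mem_commutator (Subgroup.mem_top _) (Subgroup.mem_top _)

/-- An involution normalizing a subgroup `K` of odd order and centralizing no non-trivial element of
it inverts every element of `K`. -/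
theorem conj_eq_inv_of_fixedPointFree [Finite G] {K : Subgroup G} {z : G} (hz : orderOf z = 2)
    (hzK : z ∈ Subgroup.normalizer (K : Set G))
    (hfix : ∀ k ∈ K, k * z = z * k → k = 1) {k : G} (hk : k ∈ K) : z * k * z⁻¹ = k⁻¹ := by
  have hzz : z * z = 1 := by rw [← sq, ← hz, pow_orderOf_eq_one]
  set f : K →* K :=
    ((MulAut.conj z).toMonoidHom.comp K.subtype).codRestrict K fun a =>
      (Subgroup.mem_normalizer_iff.mp hzK (a : G)).mp a.2 with hf
  have hfc : ∀ a : K, (f a : G) = z * a * z⁻¹ := fun a => rfl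
  have h1 : MonoidHom.FixedPointFree f := by
    intro a ha
    refine Subtype.ext (hfix a a.2 ?_)
    have h := congrArg Subtype.val ha
    rw [hfc, mul_inv_eq_iff_eq_mul] at h
    exact h.symm
  have h2 : Function.Involutive f := by
    intro a
    apply Subtype.ext
    rw [hfc, hfc]
    calc z * (z * (a : G) * z⁻¹) * z⁻¹ = (z * z) * a * (z * z)⁻¹ := by group
      _ = a := by rw [hzz]; group
  have h := congrArg Subtype.val (congrFun (h1.coe_eq_inv_of_involutive h2) ⟨k, hk⟩)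
  simpa [hfc] using h

/-- Largeness when the centre lies in the `2`-core of the centralizer of a non-central involution of `Q`. -/
theorem isLarge_of_center_le_pCore_centralizer [Finite G] {Q : Subgroup G}
    (hE : Cfsg.IsExtraspecial 2 Q)
    (hC : Subgroup.centralizer (Q : Set G) = (Subgroup.center Q).map Q.subtype)
    (hN : Subgroup.centralizer (((Subgroup.center Q).map Q.subtype : Subgroup G) : Set G)
      ≤ Subgroup.normalizer (Q : Set G))
    {b : G} (hbQ : b ∈ Q) (hbZ : b ∉ (Subgroup.center Q).map Q.subtype) (hb : orderOf b = 2)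
    (hZ : (Subgroup.center Q).map Q.subtype ≤
      (Cfsg.pCore 2 (Subgroup.centralizer ({b} : Set G))).map
        (Subgroup.centralizer ({b} : Set G)).subtype) :
    Cfsg.IsLargeExtraspecial Q := by
  refine ⟨hE, hC, hN, fun K hK hQK => (Subgroup.eq_bot_iff_forall _).mpr fun k₀ hk₀ => ?_⟩
  obtain ⟨z, hz2, hz⟩ := exists_center_gen hE.2
  have hzm : z ∈ (Subgroup.center Q).map Q.subtype := hz ▸ Subgroup.mem_zpowers z
  have hzQ : z ∈ Q := center_map_le Q hzm
  have hzfix : ∀ k ∈ K, k * z = z * k → k = 1 := fun k hk h =>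
    eq_one_of_centralizes_center hE.1.1 hK hC hN hQK hk (mem_of_centralizer_singleton hz h)
  set B := Subgroup.centralizer ({b} : Set G) with hBdef
  obtain ⟨⟨z', hz'⟩, hz'p, rfl⟩ := hZ hzm
  have hbfix : ∀ k ∈ K, k * b = b * k → k = 1 := by
    intro k hk hkb
    refine hzfix k hk ?_
    have hkB : k ∈ B := Subgroup.mem_centralizer_singleton_iff.mpr hkb
    haveI := pCore_normal' 2 B
    have hc : (⟨z', hz'⟩ : B) * (⟨k, hkB⟩ * (⟨z', hz'⟩ : B)⁻¹ * (⟨k, hkB⟩ : B)⁻¹) ∈
        Cfsg.pCore 2 B :=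
      mul_mem hz'p (Subgroup.Normal.conj_mem inferInstance _ (inv_mem hz'p) _)
    have hP : IsPGroup 2 ((Cfsg.pCore 2 B).map B.subtype) := (isPGroup_pCore 2 B).map _
    have h : z' * k * z'⁻¹ * k⁻¹ = 1 := by
      refine eq_one_of_two_of_odd hP hK ⟨_, hc, by simp [mul_assoc]⟩ ?_
      exact K.mul_mem ((Subgroup.mem_normalizer_iff.mp (hQK hzQ) k).mp hk) (K.inv_mem hk)
    change k * z' = z' * k
    calc k * z' = (z' * k * z'⁻¹ * k⁻¹) * k * z' := by rw [h, one_mul]
      _ = z' * k := by group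
  simp only [Subgroup.coe_subtype] at *
  have hzi : ∀ k ∈ K, z' * k * z'⁻¹ = k⁻¹ := fun k hk =>
    conj_eq_inv_of_fixedPointFree hz2 (hQK hzQ) hzfix hk
  have hbi : ∀ k ∈ K, b * k * b⁻¹ = k⁻¹ := fun k hk =>
    conj_eq_inv_of_fixedPointFree hb (hQK hbQ) hbfix hk
  obtain ⟨q, hq, hqb⟩ : ∃ q ∈ Q, q * b ≠ b * q := by
    by_contra! hh
    exact hbZ (hC ▸ Subgroup.mem_centralizer_iff.mpr fun q hq => hh q hq)
  have hqz : q * b * q⁻¹ * b⁻¹ = z' := by
    have hm := commutator_mem_center hE hq hbQ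
    rw [hz] at hm
    rcases mem_zpowers_two hz2 hm with h | h
    · exact absurd (by rwa [mul_inv_eq_one, mul_inv_eq_iff_eq_mul] at h) hqb
    · exact h
  have hconj : q * b * q⁻¹ = z' * b := mul_inv_eq_iff_eq_mul.mp hqz
  refine hbfix k₀ hk₀ ?_
  have hk₁ : q * k₀ * q⁻¹ ∈ K := (Subgroup.mem_normalizer_iff.mp (hQK hq) k₀).mp hk₀
  have h1 : (q * b * q⁻¹) * (q * k₀ * q⁻¹) * (q * b * q⁻¹)⁻¹ = q * k₀ * q⁻¹ := by
    rw [hconj]
    calc z' * b * (q * k₀ * q⁻¹) * (z' * b)⁻¹ = z' * (b * (q * k₀ * q⁻¹) * b⁻¹) * z'⁻¹ := by group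
      _ = z' * (q * k₀ * q⁻¹)⁻¹ * z'⁻¹ := by rw [hbi _ hk₁]
      _ = q * k₀ * q⁻¹ := by rw [hzi _ (K.inv_mem hk₁), inv_inv]
  have h2 : b * k₀ * b⁻¹ = k₀ := by
    have h3 : q * (b * k₀ * b⁻¹) * q⁻¹ = q * k₀ * q⁻¹ := by rw [← h1]; group
    exact mul_left_cancel (mul_right_cancel h3)
  exact (mul_inv_eq_iff_eq_mul.mp h2).symm

end CfsgLib.LargeExtraspecial
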