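import Cfsg.Agent.LargeExtraspecial.Quotient

/-!
# Large extraspecial subgroups in `C(A) A / A` (odd `A`) and in `C(t) / ⟨t⟩` (involution `t`)
-/

set_option autoImplicit false

namespace CfsgLib.LargeExtraspecial

variable {G : Type*} [Group G] [Finite G]

/-- The centre of `C_Q(A)` is `⟨z⟩`. -/
theorem IsZSub.center_fixed {Q A : Subgroup G} {z : G} (h : IsZSub Q z)
    (hA : A ≤ Subgroup.centralizer ({z} : Set G)) (hAodd : Odd (Nat.card A)) {x : G}
    (hx : x ∈ Q ⊓ Subgroup.centralizer (A : Set G))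
    (hc : ∀ y ∈ Q ⊓ Subgroup.centralizer (A : Set G), y * x = x * y) : x = 1 ∨ x = z := by
  by_cases hA1 : A = ⊥
  · refine h.mem_of_commutes fun y hy => hc y ⟨hy, ?_⟩
    subst hA1
    refine Subgroup.mem_centralizer_iff.mpr fun a ha => ?_
    rw [show a = 1 from Subgroup.mem_bot.mp ha, one_mul, mul_one]
  · have hAN : A ≤ Subgroup.normalizer (Q : Set G) := fun a ha => h.le_normalizer
      (mem_of_centralizer_singleton h.center_eq (Subgroup.mem_centralizer_singleton_iff.mp (hA ha)))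
    obtain ⟨hgen, hcomm, -⟩ := odd_decomposition h hAN hAodd hA1
    have hle : (Q ⊓ Subgroup.centralizer (A : Set G)) ⊔ ⁅Q, A⁆ ≤
        Subgroup.centralizer ({x} : Set G) :=
      sup_le (fun y hy => Subgroup.mem_centralizer_singleton_iff.mpr (hc y hy))
        (fun y hy => Subgroup.mem_centralizer_singleton_iff.mpr (hcomm x hx y hy).symm)
    rw [hgen] at hle
    exact h.mem_of_commutes fun y hy => Subgroup.mem_centralizer_singleton_iff.mp (hle hy)

theorem sup_centralizer_le_normalizer (A : Subgroup G) :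
    A ≤ Subgroup.normalizer ((Subgroup.centralizer (A : Set G) : Subgroup G) : Set G) := by
  intro a ha
  refine Subgroup.mem_normalizer_iff.mpr fun x => ⟨fun hx => ?_, fun hx => ?_⟩
  · rwa [show a * x * a⁻¹ = x from by rw [Subgroup.mem_centralizer_iff.mp hx a ha]; group]
  · have h1 := Subgroup.mem_centralizer_iff.mp hx a ha
    have h2 : a * x * a⁻¹ = x := by
      have : a * (a * x * a⁻¹) * a⁻¹ = a * x * a⁻¹ := by rw [h1]; group
      exact mul_left_cancel (mul_right_cancel this)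
    rwa [h2] at hx

/-- The odd order case. -/
theorem large_in_centralizer_odd {z : G} (hz : orderOf z = 2) {Q : Subgroup G} (h : IsZSub Q z)
    {A : Subgroup G} (hA : A ≤ Subgroup.centralizer ({z} : Set G)) (hAodd : Odd (Nat.card A))
    (h32 : 32 ≤ Nat.card ↥(Q ⊓ Subgroup.centralizer (A : Set G)))
    (hO : (Cfsg.oddCore ↥(Subgroup.centralizer ((A ⊔ (Q ⊓ Subgroup.centralizer (A : Set G)) : Subgroup G) : Set G))).map
      (Subgroup.centralizer ((A ⊔ (Q ⊓ Subgroup.centralizer (A : Set G)) : Subgroup G) : Set G)).subtype ≤ A)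
    (h4 : ¬ 4 ∣ Nat.card ↥(Subgroup.centralizer ((A ⊔ (Q ⊓ Subgroup.centralizer (A : Set G)) : Subgroup G) : Set G)))
    {g : G} (hgR : g * z * g⁻¹ ∈ Q ⊓ Subgroup.centralizer (A : Set G))
    (hgZ : g * z * g⁻¹ ∉ ((Subgroup.center ↥Q).map Q.subtype))
    {M : Subgroup G} (hM : M = Subgroup.centralizer (A : Set G) ⊔ A) [(A.subgroupOf M).Normal] :
    (M ⊓ Subgroup.centralizer (((Q ⊓ Subgroup.centralizer (A : Set G)) ⊔ A : Subgroup G) : Set G)) ⊔ A
      = A ⊔ ((Subgroup.center ↥Q).map Q.subtype) ∧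
    Cfsg.IsLargeExtraspecial (((Q ⊓ Subgroup.centralizer (A : Set G)).subgroupOf M).map
      (QuotientGroup.mk' (A.subgroupOf M))) ∧
    ∃ x ∈ (Q ⊓ Subgroup.centralizer (A : Set G)) ⊔
      ((Q).map (MulAut.conj g).toMonoidHom ⊓ Subgroup.centralizer (A : Set G)),
      x * (g * z * g⁻¹) * x⁻¹ = z := by
  obtain ⟨s, hsdef⟩ : ∃ s, s = g * z * g⁻¹ := ⟨_, rfl⟩
  set R := Q ⊓ Subgroup.centralizer (A : Set G) with hRdef
  set P := Q.map (MulAut.conj g).toMonoidHom with hPdef
  have hsR : s ∈ R := hsdef ▸ hgR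
  have hP : IsZSub P s := hsdef ▸ h.conj g
  have hsz : s ≠ z := fun e => hgZ (by rw [← hsdef, e]; exact h.mem_center)
  have hzA : ∀ a ∈ A, a * z = z * a := fun a ha => Subgroup.mem_centralizer_singleton_iff.mp (hA ha)
  have hCAz : z ∈ Subgroup.centralizer (A : Set G) := Subgroup.mem_centralizer_iff.mpr hzA
  have hzR : z ∈ R := ⟨h.z_mem, hCAz⟩
  have h9 : 9 ≤ Nat.card Q := by
    have : Nat.card R ≤ Nat.card Q := Subgroup.card_le_of_le inf_le_left
    omega
  have hzP : z ∈ P := h.mem_of_conj_mem h9 (hsdef ▸ hsR.1) (hsdef ▸ hsz)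
  have hAs : A ≤ Subgroup.centralizer ({s} : Set G) := fun a ha =>
    Subgroup.mem_centralizer_singleton_iff.mpr (Subgroup.mem_centralizer_iff.mp hsR.2 a ha)
  set T := P ⊓ Subgroup.centralizer (A : Set G) with hTdef
  have hzT : z ∈ T := ⟨hzP, hCAz⟩
  obtain ⟨q, hq, hqs⟩ : ∃ q ∈ R, q * s ≠ s * q := by
    by_contra! hh
    exact (h.center_fixed hA hAodd hsR hh).elim hP.ne_one hsz
  obtain ⟨p, hp, hpz⟩ : ∃ p ∈ T, p * z ≠ z * p := by
    by_contra! hh
    exact (hP.center_fixed hAs hAodd hzT hh).elim h.ne_one hsz.symm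
  -- an element fixing a 2-element of `C(A)` modulo `A` fixes it
  have hfix : ∀ n ∈ Subgroup.centralizer (A : Set G), ∀ r ∈ Subgroup.centralizer (A : Set G),
      (∃ k : ℕ, r ^ 2 ^ k = 1) → n * r * n⁻¹ * r⁻¹ ∈ A → n * r * n⁻¹ = r := by
    rintro n hn r hr ⟨k, hk⟩ hA'
    set a := n * r * n⁻¹ * r⁻¹ with hadef
    have har : Commute a r := Subgroup.mem_centralizer_iff.mp hr a hA'
    have e1 : a * r = n * r * n⁻¹ := by rw [hadef]; group
    have e2 : (a * r) ^ 2 ^ k = 1 := by rw [e1, conj_pow, hk]; group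
    rw [har.mul_pow, hk, mul_one] at e2
    have hpc : a ^ Nat.card A = 1 := by
      have := congrArg Subtype.val (pow_card_eq_one' (x := (⟨a, hA'⟩ : A)))
      rwa [Subgroup.coe_pow, Subgroup.coe_one] at this
    have ha1 : a = 1 := by
      have := (pow_gcd_eq_one (a := a)).mpr ⟨e2, hpc⟩
      rwa [show Nat.gcd (2 ^ k) (Nat.card A) = 1 from
        Nat.Coprime.pow_left k (Nat.coprime_two_left.mpr hAodd), pow_one] at this
    rw [← e1, ha1, one_mul]
  have hdec : ∀ c ∈ M, ∃ n ∈ Subgroup.centralizer (A : Set G), ∃ a ∈ A, n * a = c := fun c hc =>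
    CfsgLib.Coprime.exists_mul_of_mem_sup (sup_centralizer_le_normalizer A) (hM ▸ hc)
  have hfixM : ∀ c ∈ M, ∀ r ∈ Subgroup.centralizer (A : Set G),
      (∃ k : ℕ, r ^ 2 ^ k = 1) → c * r * c⁻¹ * r⁻¹ ∈ A → c * r * c⁻¹ = r := by
    intro c hc r hr hk hmem
    obtain ⟨n, hn, a, ha, rfl⟩ := hdec c hc
    have e : (n * a) * r * (n * a)⁻¹ = n * r * n⁻¹ := by
      calc (n * a) * r * (n * a)⁻¹ = n * (a * r) * a⁻¹ * n⁻¹ := by group
        _ = n * r * n⁻¹ := by rw [Subgroup.mem_centralizer_iff.mp hr a ha]; group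
    rw [e] at hmem ⊢
    exact hfix n hn r hr hk hmem
  have hconjC : ∀ c ∈ M, ∀ r ∈ Subgroup.centralizer (A : Set G),
      c * r * c⁻¹ ∈ Subgroup.centralizer (A : Set G) := by
    intro c hc r hr
    have hMN : M ≤ Subgroup.normalizer ((Subgroup.centralizer (A : Set G) : Subgroup G) : Set G) :=
      hM ▸ sup_le Subgroup.le_normalizer (sup_centralizer_le_normalizer A)
    exact (Subgroup.mem_normalizer_iff.mp (hMN hc) r).mp hr
  have h2Q : ∀ r ∈ Q, ∃ k : ℕ, r ^ 2 ^ k = 1 := fun r hr => by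
    obtain ⟨k, hk⟩ := h.extra.1.1 ⟨r, hr⟩
    exact ⟨k, by simpa using congrArg Subtype.val hk⟩
  -- the centralizer of `A R`
  set X := Subgroup.centralizer ((A ⊔ R : Subgroup G) : Set G) with hXdef
  have hzX : z ∈ X := by
    rw [hXdef]
    refine Subgroup.mem_centralizer_iff.mpr fun x hx => ?_
    have hle : A ⊔ R ≤ Subgroup.centralizer ({z} : Set G) :=
      sup_le hA fun r hr => Subgroup.mem_centralizer_singleton_iff.mpr (h.z_comm hr.1)
    exact Subgroup.mem_centralizer_singleton_iff.mp (hle hx)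
  have hXA : ∀ x ∈ X, x ∈ A ∨ z * x ∈ A := by
    intro x hx
    rcases mem_oddCore_or_mul (X := X) (z := ⟨z, hzX⟩) (by rw [Subgroup.orderOf_mk, hz])
      (Subgroup.mem_center_iff.mpr fun y => Subtype.ext
        (Subgroup.mem_centralizer_iff.mp y.2 z (Subgroup.mem_sup_right hzR)).symm) h4 ⟨x, hx⟩ with e | e
    · exact Or.inl (hO ⟨_, e, rfl⟩)
    · exact Or.inr (hO ⟨_, e, rfl⟩)
  have hRM : R ≤ M := inf_le_right.trans (hM ▸ le_sup_left)
  have hzz := h.mul_self
  have hnotA : ∀ r ∈ Q, r ∈ A → r = 1 := fun r hr hrA => eq_one_of_two_of_odd h.extra.1.1 hAodd hr hrA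
  refine ⟨le_antisymm (sup_le ?_ le_sup_left) (sup_le le_sup_right ?_), ?_, ?_⟩
  · rintro x ⟨-, hx⟩
    rw [sup_comm R A] at hx
    rcases hXA x hx with e | e
    · exact Subgroup.mem_sup_left e
    · have := Subgroup.mul_mem_sup (S := A) (T := (Subgroup.center Q).map Q.subtype) e h.mem_center
      have hxz : x * z = z * x :=
        (Subgroup.mem_centralizer_iff.mp hx z (Subgroup.mem_sup_right hzR)).symm
      rwa [← hxz, mul_assoc, hzz, mul_one] at this
  · intro x hx
    refine Subgroup.mem_sup_left ?_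
    rcases h.eq_or_eq hx with rfl | rfl
    · exact one_mem _
    · exact ⟨hRM hzR, by rw [sup_comm R A]; exact hzX⟩
  · refine isLarge_image (T := T) (z := z) (s := s) hRM (inf_le_right.trans (hM ▸ le_sup_left))
      (h.extra.1.1.to_le inf_le_left) (hP.extra.1.1.to_le inf_le_left) hzR hsR hzT hzz hP.mul_self
      (fun e => h.ne_one (hnotA z h.z_mem e)) (fun e => hP.ne_one (hnotA s hsR.1 e))
      (fun e => hsz ?_) (fun x hx => h.z_comm hx.1) (fun x hx => hP.z_comm hx.1)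
      (fun x hx => h.sq_eq hx.1) (fun x hx y hy => h.comm_eq hx.1 hy.1) ⟨q, hq, s, hsR, hqs⟩ ?_ ?_ ?_
    · exact ((mul_eq_one_iff_inv_eq.mp (hnotA _ (Q.mul_mem h.z_mem hsR.1) e)).symm.trans
        (inv_eq_self_of_two hz))
    · intro c hc hr
      have hcR : ∀ r ∈ R, c * r * c⁻¹ = r := fun r hrR =>
        hfixM c hc r hrR.2 (h2Q r hrR.1) (hr r hrR)
      obtain ⟨n, hn, a, ha, rfl⟩ := hdec c hc
      have hnX : n ∈ X := by
        rw [hXdef]
        refine Subgroup.mem_centralizer_iff.mpr fun x hx => ?_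
        have hle : A ⊔ R ≤ Subgroup.centralizer ({n} : Set G) := by
          refine sup_le (fun b hb => Subgroup.mem_centralizer_singleton_iff.mpr
            (Subgroup.mem_centralizer_iff.mp hn b hb)) fun r hrR =>
              Subgroup.mem_centralizer_singleton_iff.mpr ?_
          have e := hcR r hrR
          rw [show (n * a) * r * (n * a)⁻¹ = n * (a * r) * a⁻¹ * n⁻¹ from by group,
            Subgroup.mem_centralizer_iff.mp hrR.2 a ha] at e
          calc r * n = n * (r * a) * a⁻¹ * n⁻¹ * n := by rw [e]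
            _ = n * r := by group
        exact Subgroup.mem_centralizer_singleton_iff.mp (hle hx)
      rcases hXA n hnX with e | e
      · exact Or.inl (A.mul_mem e ha)
      · exact Or.inr (by rw [← mul_assoc]; exact A.mul_mem e ha)
    · intro c hc hcz r hr
      have e := hfixM c hc z hCAz ⟨1, by rw [pow_one, sq, hzz]⟩ hcz
      exact ⟨h.conj_mem (mul_inv_eq_iff_eq_mul.mp e) hr.1, hconjC c hc r hr.2⟩
    · intro c hc hcs r hr
      have e := hfixM c hc s hsR.2 (h2Q s hsR.1) hcs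
      exact ⟨hP.conj_mem (mul_inv_eq_iff_eq_mul.mp e) hr.1, hconjC c hc r hr.2⟩
  · refine ⟨p * q, mul_mem (Subgroup.mem_sup_right hp) (Subgroup.mem_sup_left hq), ?_⟩
    rw [← hsdef]
    have e1 := h.conj_of_not_commute hq.1 hsR.1 hqs
    have e2 := hP.conj_of_not_commute hp.1 hzP hpz
    have e3 := hP.z_comm hp.1
    calc (p * q) * s * (p * q)⁻¹ = p * (q * s * q⁻¹) * p⁻¹ := by group
      _ = (p * z * p⁻¹) * (p * s * p⁻¹) := by rw [e1]; group
      _ = (s * z) * s := by rw [e2, mul_inv_eq_iff_eq_mul.mpr e3]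
      _ = z := by rw [h.z_comm hsR.1, mul_assoc, hP.mul_self, mul_one]

/-- The case of an involution `t`. -/
theorem large_in_centralizer_involution {z : G} {Q : Subgroup G} (h : IsZSub Q z)
    (h9 : 9 ≤ Nat.card Q) {g : G} (hgQ : g * z * g⁻¹ ∈ Q)
    (hgZ : g * z * g⁻¹ ∉ ((Subgroup.center ↥Q).map Q.subtype))
    {t : G} (ht : orderOf t = 2) (htQ : t ∈ Q ⊓ (Q).map (MulAut.conj g).toMonoidHom)
    (htz : ¬ IsConj z t)
    (hCP : ∀ c ∈ Subgroup.centralizer ({z} : Set G),
      (∀ x ∈ Q ⊓ Subgroup.centralizer ({t} : Set G),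
        ∃ y ∈ Subgroup.closure ({t, z} : Set G), c * x * c⁻¹ = x * y) → c ∈ Q)
    [((Subgroup.zpowers t).subgroupOf (Subgroup.centralizer ({t} : Set G))).Normal] :
    Cfsg.IsLargeExtraspecial (((Q ⊓ Subgroup.centralizer ({t} : Set G)).subgroupOf
      (Subgroup.centralizer ({t} : Set G))).map
        (QuotientGroup.mk' ((Subgroup.zpowers t).subgroupOf (Subgroup.centralizer ({t} : Set G))))) ∧
    ∃ x ∈ (Q ⊓ Subgroup.centralizer ({t} : Set G)) ⊔
      ((Q).map (MulAut.conj g).toMonoidHom ⊓ Subgroup.centralizer ({t} : Set G)),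
      x * (g * z * g⁻¹) * x⁻¹ = z := by
  obtain ⟨s, hsdef⟩ : ∃ s, s = g * z * g⁻¹ := ⟨_, rfl⟩
  set R := Q ⊓ Subgroup.centralizer ({t} : Set G) with hRdef
  set P := Q.map (MulAut.conj g).toMonoidHom with hPdef
  have hP : IsZSub P s := hsdef ▸ h.conj g
  have hsQ : s ∈ Q := hsdef ▸ hgQ
  have hsz : s ≠ z := fun e => hgZ (by rw [← hsdef, e]; exact h.mem_center)
  have hzP : z ∈ P := h.mem_of_conj_mem h9 hgQ (hsdef ▸ hsz)
  have hcs : IsConj z s := isConj_iff.mpr ⟨g, hsdef.symm⟩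
  have htQ' : t ∈ Q := htQ.1
  have htP : t ∈ P := htQ.2
  have ht1 : t ≠ 1 := fun e => by simp [e] at ht
  have htz' : t ≠ z := fun e => htz (e ▸ IsConj.refl z)
  have hts : t ≠ s := fun e => htz (e ▸ hcs)
  have htt : t * t = 1 := by rw [← sq, ← ht, pow_orderOf_eq_one]
  have hnzt : ¬ IsConj z (z * t) := by
    obtain ⟨q, hq, hqt⟩ := h.exists_not_commute ht1 htz'
    exact fun hh => htz (hh.trans (isConj_iff.mpr ⟨q, h.conj_of_not_commute hq htQ' hqt⟩).symm)
  have hnst : ¬ IsConj z (s * t) := by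
    obtain ⟨p, hp, hpt⟩ := hP.exists_not_commute ht1 hts
    exact fun hh => htz (hh.trans (isConj_iff.mpr ⟨p, hP.conj_of_not_commute hp htP hpt⟩).symm)
  have hst : t * s = s * t := hP.z_comm htP
  have memC : ∀ {x : G}, x ∈ Subgroup.centralizer ({t} : Set G) ↔ x * t = t * x :=
    fun {x} => Subgroup.mem_centralizer_singleton_iff
  have hzR : z ∈ R := ⟨h.z_mem, memC.mpr (h.z_comm htQ').symm⟩
  have hsR : s ∈ R := ⟨hsQ, memC.mpr hst.symm⟩
  set T := P ⊓ Subgroup.centralizer ({t} : Set G) with hTdef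
  have hzT : z ∈ T := ⟨hzP, hzR.2⟩
  have hN : ∀ x ∈ Subgroup.zpowers t, x = 1 ∨ x = t := fun x hx => mem_zpowers_two ht hx
  have hzN : z ∉ Subgroup.zpowers t := fun e => (hN z e).elim h.ne_one htz'.symm
  obtain ⟨q, hq, hqs⟩ : ∃ q ∈ R, q * s ≠ s * q := by
    by_contra! hh
    rcases h.mem_double_centralizer htQ' ht1 htz' hsQ
      (fun x hx hxt => hh x ⟨hx, memC.mpr hxt⟩) with e | e | e | e
    · exact hP.ne_one e
    · exact hsz e
    · exact hts e.symm
    · exact hnzt (e ▸ hcs)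
  obtain ⟨p, hp, hpz⟩ : ∃ p ∈ T, p * z ≠ z * p := by
    by_contra! hh
    rcases hP.mem_double_centralizer htP ht1 hts hzP
      (fun x hx hxt => hh x ⟨hx, memC.mpr hxt⟩) with e | e | e | e
    · exact h.ne_one e
    · exact hsz e.symm
    · exact htz' e.symm
    · exact hnst (e ▸ IsConj.refl z)
  have hfix : ∀ u : G, IsConj z u → ¬ IsConj z (u * t) → ∀ c : G,
      c * u * c⁻¹ * u⁻¹ ∈ Subgroup.zpowers t → u * t = t * u → c * u = u * c := by
    intro u hu hnu c hcu hut
    rcases hN _ hcu with e | e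
    · exact mul_inv_eq_iff_eq_mul.mp (mul_inv_eq_one.mp e)
    · refine absurd (hu.trans (isConj_iff.mpr ⟨c, ?_⟩)) hnu
      rw [hut]; exact mul_inv_eq_iff_eq_mul.mp e
  refine ⟨isLarge_image (T := T) (z := z) (s := s) inf_le_right inf_le_right
      (h.extra.1.1.to_le inf_le_left) (hP.extra.1.1.to_le inf_le_left) hzR hsR hzT h.mul_self
      hP.mul_self hzN (fun e => (hN s e).elim hP.ne_one hts.symm) (fun e => ?_)
      (fun x hx => h.z_comm hx.1) (fun x hx => hP.z_comm hx.1) (fun x hx => h.sq_eq hx.1)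
      (fun x hx y hy => h.comm_eq hx.1 hy.1) ⟨q, hq, s, hsR, hqs⟩ ?_ ?_ ?_, ?_⟩
  · rcases hN _ e with e' | e'
    · exact hsz ((mul_eq_one_iff_inv_eq.mp e').symm.trans (inv_eq_self_of_two h.two))
    · apply hnzt
      rwa [show z * t = s by rw [← e', ← mul_assoc, h.mul_self, one_mul]]
  · intro c hc hr
    have hcz : c * z = z * c :=
      hfix z (IsConj.refl z) hnzt c (hr z hzR) (memC.mp hzR.2)
    have hcQ : c ∈ Q := by
      refine hCP c (Subgroup.mem_centralizer_singleton_iff.mpr hcz) fun x hx =>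
        ⟨c * x * c⁻¹ * x⁻¹, ?_, ?_⟩
      · rcases hN _ (hr x hx) with e | e <;> rw [e]
        · exact one_mem _
        · exact Subgroup.subset_closure (Set.mem_insert _ _)
      · rcases hN _ (hr x hx) with e | e <;> rw [e]
        · rw [mul_one]; exact mul_inv_eq_one.mp e
        · rw [memC.mp hx.2]; exact mul_inv_eq_iff_eq_mul.mp e
    rcases h.mem_double_centralizer htQ' ht1 htz' hcQ fun x hx hxt => by
      rcases hN _ (hr x ⟨hx, memC.mpr hxt⟩) with e | e
      · exact (mul_inv_eq_iff_eq_mul.mp (mul_inv_eq_one.mp e)).symm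
      · rcases h.comm_eq hcQ hx with e' | e'
        · exact absurd (e.symm.trans e') ht1
        · exact absurd (e.symm.trans e') htz' with e | e | e | e
    · exact Or.inl (e ▸ one_mem _)
    · exact Or.inr (by rw [e, h.mul_self]; exact one_mem _)
    · exact Or.inl (e ▸ Subgroup.mem_zpowers t)
    · exact Or.inr (by rw [e, ← mul_assoc, h.mul_self, one_mul]; exact Subgroup.mem_zpowers t)
  · intro c hc hcz r hr
    have e := hfix z (IsConj.refl z) hnzt c hcz (memC.mp hzR.2)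
    refine ⟨h.conj_mem e hr.1, (Subgroup.centralizer ({t} : Set G)).mul_mem (mul_mem hc hr.2) (Subgroup.inv_mem _ hc)⟩
  · intro c hc hcs' r hr
    have e := hfix s hcs hnst c hcs' hst.symm
    exact ⟨hP.conj_mem e hr.1, (Subgroup.centralizer ({t} : Set G)).mul_mem (mul_mem hc hr.2) (Subgroup.inv_mem _ hc)⟩
  · refine ⟨p * q, mul_mem (Subgroup.mem_sup_right hp) (Subgroup.mem_sup_left hq), ?_⟩
    rw [← hsdef]
    have e1 := h.conj_of_not_commute hq.1 hsQ hqs
    have e2 := hP.conj_of_not_commute hp.1 hzP hpz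
    calc (p * q) * s * (p * q)⁻¹ = p * (q * s * q⁻¹) * p⁻¹ := by group
      _ = (p * z * p⁻¹) * (p * s * p⁻¹) := by rw [e1]; group
      _ = (s * z) * s := by rw [e2, mul_inv_eq_iff_eq_mul.mpr (hP.z_comm hp.1)]
      _ = z := by rw [h.z_comm hsQ, mul_assoc, hP.mul_self, mul_one]

end CfsgLib.LargeExtraspecial
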