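import Cfsg.Agent.LargeExtraspecial.Pair
import Cfsg.Agent.Coprime.Action
import Cfsg.Agent.Solvable.Frattini

/-!
# Subgroups of extraspecial groups and decomposition under an odd order group of automorphisms
-/

set_option autoImplicit false

open scoped commutatorElement

set_option linter.style.haveILetI false

namespace CfsgLib.LargeExtraspecial

variable {G : Type*} [Group G] [Finite G]

/-- A nonabelian subgroup of an extraspecial 2-group with centre inside that of the group is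
extraspecial. -/
theorem isExtraspecial_of_le {Q T : Subgroup G} {z : G} (h : IsZSub Q z) (hTQ : T ≤ Q)
    (hcen : ∀ x ∈ T, (∀ y ∈ T, y * x = x * y) → x = 1 ∨ x = z)
    (hne : ∃ x ∈ T, ∃ y ∈ T, x * y ≠ y * x) : Cfsg.IsExtraspecial 2 T := by
  haveI : Fact (Nat.Prime 2) := ⟨Nat.prime_two⟩
  obtain ⟨x, hx, y, hy, hxy⟩ := hne
  have hxyz : x * y * x⁻¹ * y⁻¹ = z := (h.comm_eq (hTQ hx) (hTQ hy)).resolve_left fun e =>
    hxy (mul_inv_eq_iff_eq_mul.mp (mul_inv_eq_one.mp e))
  have hzT : z ∈ T := hxyz ▸ T.mul_mem (T.mul_mem (T.mul_mem hx hy) (T.inv_mem hx)) (T.inv_mem hy)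
  have hzc : (⟨z, hzT⟩ : T) ∈ Subgroup.center T :=
    Subgroup.mem_center_iff.mpr fun t => Subtype.ext (h.z_comm (hTQ t.2))
  have hmem : ∀ t : T, t ∈ Subgroup.center T ↔ (t : G) = 1 ∨ (t : G) = z := by
    intro t
    refine ⟨fun ht => hcen t t.2 fun u hu =>
      congrArg Subtype.val (Subgroup.mem_center_iff.mp ht ⟨u, hu⟩), ?_⟩
    rintro (e | e)
    · rw [show t = 1 from Subtype.ext e]; exact one_mem _
    · rw [show t = ⟨z, hzT⟩ from Subtype.ext e]; exact hzc
  have hcz : Subgroup.center T = Subgroup.zpowers (⟨z, hzT⟩ : T) := by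
    refine le_antisymm (fun t ht => ?_) (Subgroup.zpowers_le.mpr hzc)
    rcases (hmem t).mp ht with e | e
    · rw [show t = 1 from Subtype.ext e]; exact one_mem _
    · rw [show t = ⟨z, hzT⟩ from Subtype.ext e]; exact Subgroup.mem_zpowers _
  have hcard : Nat.card (Subgroup.center T) = 2 := by
    rw [hcz, Nat.card_zpowers, Subgroup.orderOf_mk, h.two]
  have hT : IsPGroup 2 T := h.extra.1.1.to_le hTQ
  have hcomm : commutator T = Subgroup.center T := by
    refine le_antisymm ?_ ?_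
    · rw [commutator_def, Subgroup.commutator_le]
      intro a _ b _
      refine (hmem _).mpr ?_
      simpa [commutatorElement_def] using h.comm_eq (hTQ a.2) (hTQ b.2)
    · rw [hcz, Subgroup.zpowers_le, commutator_def]
      rw [show (⟨z, hzT⟩ : T) = ⁅(⟨x, hx⟩ : T), ⟨y, hy⟩⁆ from Subtype.ext (by
        simp [commutatorElement_def, hxyz])]
      exact Subgroup.commutator_mem_commutator (Subgroup.mem_top _) (Subgroup.mem_top _)
  refine ⟨⟨hT, le_antisymm (CfsgLib.Solvable.frattini_le_of_elementary (p := 2) hcomm.le ?_)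
    (hcomm ▸ CfsgLib.Solvable.commutator_le_frattini (p := 2) hT), hcomm⟩, hcard⟩
  intro t
  refine (hmem _).mpr (h.eq_or_eq ?_)
  refine ⟨(⟨(t : G), hTQ t.2⟩ : Q) ^ 2, ?_, by simp⟩
  rw [← h.extra.1.2.1]
  exact CfsgLib.Solvable.pow_mem_frattini h.extra.1.1 _

/-- The decomposition of `Q` under a non-trivial odd order subgroup `A` of `N(Q)`. -/
theorem odd_decomposition {Q A : Subgroup G} {z : G} (h : IsZSub Q z)
    (hA : A ≤ Subgroup.normalizer (Q : Set G)) (hAodd : Odd (Nat.card A)) (hA1 : A ≠ ⊥) :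
    (Q ⊓ Subgroup.centralizer (A : Set G)) ⊔ ⁅Q, A⁆ = Q ∧
    (∀ x ∈ Q ⊓ Subgroup.centralizer (A : Set G), ∀ y ∈ ⁅Q, A⁆, x * y = y * x) ∧
    Cfsg.IsExtraspecial 2 ↥⁅Q, A⁆ ∧
    (Q ⊓ Subgroup.centralizer (A : Set G) = ((Subgroup.center ↥Q).map Q.subtype) ∨
      Cfsg.IsExtraspecial 2 ↥(Q ⊓ Subgroup.centralizer (A : Set G))) := by
  haveI : Fact (Nat.Prime 2) := ⟨Nat.prime_two⟩
  set C := Q ⊓ Subgroup.centralizer (A : Set G) with hCdef
  obtain ⟨n, hn⟩ := IsPGroup.iff_card.mp h.extra.1.1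
  have hcop : (Nat.card A).Coprime (Nat.card Q) := by
    rw [hn]; exact Nat.Coprime.pow_right n (Nat.coprime_two_right.mpr hAodd)
  haveI : Group.IsNilpotent Q := h.extra.1.1.isNilpotent
  have hsol : Group.IsSolvable A ∨ Group.IsSolvable Q := Or.inr inferInstance
  have hzA : ∀ a ∈ A, a * z = z * a := by
    intro a ha
    have haz : a * z * a⁻¹ ∈ (Subgroup.center Q).map Q.subtype := by
      have hzQ : a * z * a⁻¹ ∈ Q := (Subgroup.mem_normalizer_iff.mp (hA ha) z).mp h.z_mem
      refine h.centralizer_eq ▸ Subgroup.mem_centralizer_iff.mpr fun q hq => ?_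
      have hq' : a⁻¹ * q * a ∈ Q := by
        simpa using (Subgroup.mem_normalizer_iff.mp (hA (A.inv_mem ha)) q).mp hq
      calc q * (a * z * a⁻¹) = a * ((a⁻¹ * q * a) * z) * a⁻¹ := by group
        _ = a * (z * (a⁻¹ * q * a)) * a⁻¹ := by rw [h.z_comm hq']
        _ = a * z * a⁻¹ * q := by group
    rcases h.eq_or_eq haz with e | e
    · exact absurd (by simpa using e) h.ne_one
    · exact mul_inv_eq_iff_eq_mul.mp e
  have hZ : ∀ x ∈ (Subgroup.center Q).map Q.subtype, ∀ a ∈ A, a * x = x * a := by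
    intro x hx a ha
    rcases h.eq_or_eq hx with rfl | rfl
    · simp
    · exact hzA a ha
  have hgen : C ⊔ ⁅Q, A⁆ = Q := by
    rw [sup_comm]; exact CfsgLib.Coprime.commutator_sup_centralizer hA hcop hsol
  have hRQ : ⁅Q, A⁆ ≤ Q := CfsgLib.Coprime.commutator_le_of_le_normalizer hA
  have hCQ : C ≤ Q := inf_le_left
  have hbot : ⁅⁅Q, A⁆, C⁆ = ⊥ := by
    refine Subgroup.commutator_commutator_eq_bot_of_rotate ?_ ?_
    · rw [(Subgroup.commutator_eq_bot_iff_le_centralizer (H₁ := A) (H₂ := C)).mpr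
        (Subgroup.le_centralizer_iff.mp inf_le_right), Subgroup.commutator_bot_left]
    · rw [Subgroup.commutator_eq_bot_iff_le_centralizer, Subgroup.commutator_le]
      intro c hc q hq
      exact Subgroup.mem_centralizer_iff.mpr fun a ha =>
        hZ _ (by simpa [commutatorElement_def] using commutator_mem_center h.extra (hCQ hc) hq) a ha
  have hcomm : ∀ x ∈ C, ∀ y ∈ ⁅Q, A⁆, x * y = y * x := fun x hx y hy =>
    Subgroup.mem_centralizer_iff.mp
      (Subgroup.commutator_eq_bot_iff_le_centralizer.mp hbot hy) x hx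
  have hall : ∀ w : G, (∀ y ∈ C, y * w = w * y) → (∀ y ∈ ⁅Q, A⁆, y * w = w * y) →
      ∀ q ∈ Q, q * w = w * q := by
    intro w h1 h2 q hq
    have hle : C ⊔ ⁅Q, A⁆ ≤ Subgroup.centralizer ({w} : Set G) :=
      sup_le (fun y hy => Subgroup.mem_centralizer_singleton_iff.mpr (h1 y hy))
        (fun y hy => Subgroup.mem_centralizer_singleton_iff.mpr (h2 y hy))
    rw [hgen] at hle
    exact Subgroup.mem_centralizer_singleton_iff.mp (hle hq)
  have hRne : ∃ x ∈ ⁅Q, A⁆, ∃ y ∈ ⁅Q, A⁆, x * y ≠ y * x := by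
    by_contra! hab
    have hRZ : ∀ x ∈ ⁅Q, A⁆, x ∈ (Subgroup.center Q).map Q.subtype := fun x hx =>
      h.centralizer_eq ▸ Subgroup.mem_centralizer_iff.mpr
        (hall x (fun y hy => hcomm y hy x hx) (fun y hy => hab y hy x hx))
    have hRA : ⁅⁅Q, A⁆, A⁆ = ⊥ := by
      rw [Subgroup.commutator_eq_bot_iff_le_centralizer]
      exact fun x hx => Subgroup.mem_centralizer_iff.mpr fun a ha => hZ x (hRZ x hx) a ha
    have hAC := CfsgLib.Coprime.le_centralizer_of_commutator_commutator_eq_bot hA hcop hRA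
    refine hA1 ((Subgroup.eq_bot_iff_forall A).mpr fun a ha => ?_)
    have := hAC ha
    rw [h.centralizer_eq] at this
    exact eq_one_of_two_of_odd h.extra.1.1 hAodd (center_map_le Q this) ha
  refine ⟨hgen, hcomm, isExtraspecial_of_le h hRQ (fun x hx hxc => ?_) hRne, ?_⟩
  · exact h.mem_of_commutes (hall x (fun y hy => hcomm y hy x hx) (fun y hy => hxc y hy))
  · by_cases hab : ∀ x ∈ C, ∀ y ∈ C, x * y = y * x
    · refine Or.inl (le_antisymm (fun x hx => ?_) (fun x hx => ?_))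
      · exact h.centralizer_eq ▸ Subgroup.mem_centralizer_iff.mpr
          (hall x (fun y hy => hab y hy x hx) (fun y hy => (hcomm x hx y hy).symm))
      · exact Subgroup.mem_inf.mpr ⟨center_map_le Q hx,
          Subgroup.mem_centralizer_iff.mpr fun a ha => hZ x hx a ha⟩
    · push Not at hab
      exact Or.inr (isExtraspecial_of_le h hCQ (fun x hx hxc =>
        h.mem_of_commutes (hall x hxc (fun y hy => (hcomm x hx y hy).symm))) hab)

end CfsgLib.LargeExtraspecial
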