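import Cfsg.Agent.S4216
import Cfsg.Agent.Small.Dihedral
import Cfsg.Agent.Solvable.Frattini

/-!
# An involution centralizer that is a Sylow 2-subgroup with Frattini subgroup of order 2
-/

set_option autoImplicit false

open scoped commutatorElement

namespace CfsgLib.LargeExtraspecial

variable {L : Type*} [Group L]

/-- `C(z)` has all squares and commutators in `{1, z}`, and `z` is a square in it. -/
structure IsFrattiniPoint (z : L) : Prop where
  sq_mem : ∀ x, x * z = z * x → x * x = 1 ∨ x * x = z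
  comm_mem : ∀ x y, x * z = z * x → y * z = z * y → x * y * x⁻¹ * y⁻¹ = 1 ∨ x * y * x⁻¹ * y⁻¹ = z
  exists_root : ∃ x, x * z = z * x ∧ x * x = z
  sq_self : z * z = 1
  ne_one : z ≠ 1

namespace IsFrattiniPoint

variable {u v w : L}

theorem conj {z : L} (h : IsFrattiniPoint z) (g : L) : IsFrattiniPoint (g * z * g⁻¹) := by
  set φ := MulAut.conj g with hφ
  have e : g * z * g⁻¹ = φ z := by simp [hφ]
  rw [e]
  have h1 : ∀ x, x * φ z = φ z * x → φ.symm x * z = z * φ.symm x := fun x hx => by
    simpa using congrArg φ.symm hx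
  refine ⟨fun x hx => ?_, fun x y hx hy => ?_, ?_, by rw [← map_mul, h.sq_self, map_one],
    fun e' => h.ne_one (φ.map_eq_one_iff.mp e')⟩
  · rcases h.sq_mem _ (h1 x hx) with e' | e'
    · exact Or.inl (by simpa using congrArg φ e')
    · exact Or.inr (by simpa using congrArg φ e')
  · rcases h.comm_mem _ _ (h1 x hx) (h1 y hy) with e' | e'
    · exact Or.inl (by simpa using congrArg φ e')
    · exact Or.inr (by simpa using congrArg φ e')
  · obtain ⟨x, hx, hxx⟩ := h.exists_root
    exact ⟨φ x, by rw [← map_mul, hx, map_mul], by rw [← map_mul, hxx]⟩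

theorem sq_eq_one (hu : IsFrattiniPoint u) (hv : IsFrattiniPoint v) (huv : u ≠ v) {x : L}
    (hxu : x * u = u * x) (hxv : x * v = v * x) : x * x = 1 := by
  rcases hu.sq_mem x hxu with e | e
  · exact e
  · rcases hv.sq_mem x hxv with e' | e'
    · exact e'
    · exact absurd (e.symm.trans e') huv

theorem comm_of_commute (hu : IsFrattiniPoint u) (hv : IsFrattiniPoint v) (huv : u ≠ v) {x y : L}
    (hxu : x * u = u * x) (hxv : x * v = v * x) (hyu : y * u = u * y) (hyv : y * v = v * y) :
    x * y = y * x := by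
  have hx := sq_eq_one hu hv huv hxu hxv
  have hy := sq_eq_one hu hv huv hyu hyv
  have hxy := sq_eq_one hu hv huv (x := x * y) ((Commute.mul_left hxu hyu).eq)
    ((Commute.mul_left hxv hyv).eq)
  calc x * y = x * ((x * y) * (x * y)) * y := by rw [hxy, mul_one]
    _ = (x * x) * (y * x) * (y * y) := by group
    _ = y * x := by rw [hx, hy, one_mul, mul_one]

theorem exists_not_commute (hu : IsFrattiniPoint u) (hv : IsFrattiniPoint v) (huv : u ≠ v) :
    ∃ x, x * u = u * x ∧ x * v ≠ v * x := by
  obtain ⟨x, hxu, hxx⟩ := hu.exists_root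
  refine ⟨x, hxu, fun hxv => hu.ne_one ?_⟩
  rw [← hxx]
  exact sq_eq_one hu hv huv hxu hxv

theorem conj_eq (hu : IsFrattiniPoint u) {x : L} (hxu : x * u = u * x) (hvu : v * u = u * v)
    (hxv : x * v ≠ v * x) : x * v * x⁻¹ = u * v :=
  mul_inv_eq_iff_eq_mul.mp ((hu.comm_mem x v hxu hvu).resolve_left fun e =>
    hxv (mul_inv_eq_iff_eq_mul.mp (mul_inv_eq_one.mp e)))

/-- Three commuting points: the product of two of them is the third, unless it is no point. -/
theorem mul_eq_of_commute (hu : IsFrattiniPoint u) (hv : IsFrattiniPoint v) (hw : IsFrattiniPoint w)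
    (huv : u ≠ v) (huw : u ≠ w) (hvu : v * u = u * v) (hwu : w * u = u * w) (hwv : w * v = v * w)
    (hvw : IsFrattiniPoint (v * w)) : v * w = u := by
  by_contra hne
  obtain ⟨x, hxu, hx⟩ := exists_not_commute hu hvw (Ne.symm hne)
  have hxv : x * v ≠ v * x := fun hxv =>
    hx (Commute.mul_right hxv (comm_of_commute hu hv huv hxu hxv hwu hwv)).eq
  have hxw : x * w ≠ w * x := fun hxw =>
    hx (Commute.mul_right (comm_of_commute hu hw huw hxu hxw hvu hwv.symm) hxw).eq
  apply hx
  have h1 : x * (v * w) * x⁻¹ = v * w := by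
    calc x * (v * w) * x⁻¹ = (x * v * x⁻¹) * (x * w * x⁻¹) := by group
      _ = (u * v) * (u * w) := by rw [conj_eq hu hxu hvu hxv, conj_eq hu hxu hwu hxw]
      _ = (v * u) * (u * w) := by rw [hvu]
      _ = v * (u * u) * w := by group
      _ = v * w := by rw [hu.sq_self, mul_one]
  exact mul_inv_eq_iff_eq_mul.mp h1

end IsFrattiniPoint

theorem nonempty_dihedral_of_centralizer_sylow [Finite L] [IsSimpleGroup L]
    (hL : ¬ IsMulCommutative L) (z : L) (hz : orderOf z = 2) (R : Sylow 2 L)
    (hR : (R : Subgroup L) = Subgroup.centralizer ({z} : Set L))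
    (hΦ : (frattini ↥(R : Subgroup L)).map (R : Subgroup L).subtype = Subgroup.zpowers z) :
    Nonempty (↥(R : Subgroup L) ≃* DihedralGroup 4) := by
  haveI : Fact (Nat.Prime 2) := ⟨Nat.prime_two⟩
  have hzz : z * z = 1 := by rw [← sq, ← hz, pow_orderOf_eq_one]
  have hz1 : z ≠ 1 := fun h => by simp [h] at hz
  have memR : ∀ {x : L}, x ∈ (R : Subgroup L) ↔ x * z = z * x := fun {x} => by
    rw [hR, Subgroup.mem_centralizer_singleton_iff]
  have hΦmem : ∀ r : ↥(R : Subgroup L), r ∈ frattini ↥(R : Subgroup L) →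
      (r : L) = 1 ∨ (r : L) = z := by
    intro r hr
    obtain ⟨n, hn⟩ := Subgroup.mem_zpowers_iff.mp (hΦ ▸ Subgroup.mem_map_of_mem _ hr)
    rw [← zpow_mod_orderOf, hz] at hn
    rcases Int.emod_two_eq_zero_or_one n with h | h
    · exact Or.inl (by simpa [h] using hn.symm)
    · exact Or.inr (by simpa [h] using hn.symm)
  have hsq : ∀ x, x * z = z * x → x * x = 1 ∨ x * x = z := fun x hx => by
    simpa [sq] using hΦmem _
      (CfsgLib.Solvable.pow_mem_frattini R.isPGroup' (⟨x, memR.mpr hx⟩ : ↥(R : Subgroup L)))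
  have hcomm : ∀ x y, x * z = z * x → y * z = z * y →
      x * y * x⁻¹ * y⁻¹ = 1 ∨ x * y * x⁻¹ * y⁻¹ = z := fun x y hx hy => by
    simpa [commutatorElement_def] using hΦmem _
      (CfsgLib.Solvable.commutator_le_frattini R.isPGroup' (Subgroup.commutator_mem_commutator
        (Subgroup.mem_top (⟨x, memR.mpr hx⟩ : ↥(R : Subgroup L)))
        (Subgroup.mem_top (⟨y, memR.mpr hy⟩ : ↥(R : Subgroup L)))))
  have hroot : ∃ x, x * z = z * x ∧ x * x = z := by
    by_contra hno
    push Not at hno
    have h2 : ∀ r : ↥(R : Subgroup L), r * r = 1 := fun r =>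
      Subtype.ext ((hsq r (memR.mp r.2)).resolve_right (hno r (memR.mp r.2)))
    have hΦ0 : frattini ↥(R : Subgroup L) ≤ ⊥ := by
      refine CfsgLib.Solvable.frattini_le_of_elementary (p := 2) ?_ fun r => ?_
      · rw [commutator_def, Subgroup.commutator_le]
        intro a _ b _
        have hi : ∀ r : ↥(R : Subgroup L), r⁻¹ = r := fun r => inv_eq_of_mul_eq_one_left (h2 r)
        rw [Subgroup.mem_bot, commutatorElement_def, hi a, hi b, mul_assoc (a * b)]
        exact h2 (a * b)
      · rw [Subgroup.mem_bot, sq]; exact h2 r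
    have : z ∈ (frattini ↥(R : Subgroup L)).map (R : Subgroup L).subtype :=
      hΦ ▸ Subgroup.mem_zpowers z
    rw [le_bot_iff.mp hΦ0, Subgroup.map_bot, Subgroup.mem_bot] at this
    exact hz1 this
  have hP : IsFrattiniPoint z := ⟨hsq, hcomm, hroot, hzz, hz1⟩
  obtain ⟨x₀, hx₀, hx₀z⟩ := hroot
  -- the Sylow subgroup is self-normalizing
  have hN : Subgroup.normalizer ((R : Subgroup L) : Set L) ≤ (R : Subgroup L) := by
    intro n hn
    have h : n * x₀ * n⁻¹ ∈ (R : Subgroup L) :=
      (Subgroup.mem_normalizer_iff.mp hn x₀).mp (memR.mpr hx₀)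
    have e : n * z * n⁻¹ = (n * x₀ * n⁻¹) * (n * x₀ * n⁻¹) := by rw [← hx₀z]; group
    rcases hsq _ (memR.mp h) with e' | e' <;> rw [← e] at e'
    · exact absurd (by simpa using e') hz1
    · exact memR.mpr (mul_inv_eq_iff_eq_mul.mp e')
  have hperf : commutator L = ⊤ := by
    refine ((inferInstance : (commutator L).Normal).eq_bot_or_eq_top).resolve_left fun h => hL ?_
    refine ⟨⟨fun a b => ?_⟩⟩
    have hab : ⁅a, b⁆ ∈ commutator L :=
      Subgroup.commutator_mem_commutator (Subgroup.mem_top a) (Subgroup.mem_top b)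
    rw [h, Subgroup.mem_bot] at hab
    exact commutatorElement_eq_one_iff_mul_comm.mp hab
  -- conjugates of `z` inside `R`
  set S : Set L := {s | s * z = z * s ∧ ∃ g, s = g * z * g⁻¹} with hSdef
  have hSP : ∀ s ∈ S, IsFrattiniPoint s := by
    rintro s ⟨-, g, rfl⟩; exact hP.conj g
  have hzS : z ∈ S := ⟨rfl, 1, by simp⟩
  have hgen : (R : Subgroup L) ≤ Subgroup.closure S := by
    have hRR : ∀ x ∈ ⁅(R : Subgroup L), (R : Subgroup L)⁆, x = 1 ∨ x = z := by
      intro x hx
      have : ⁅(R : Subgroup L), (R : Subgroup L)⁆ ≤ Subgroup.zpowers z := by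
        rw [Subgroup.commutator_le]
        intro a ha b hb
        rw [commutatorElement_def]
        rcases hcomm a b (memR.mp ha) (memR.mp hb) with e | e <;> rw [e]
        · exact one_mem _
        · exact Subgroup.mem_zpowers z
      obtain ⟨n, hn⟩ := Subgroup.mem_zpowers_iff.mp (this hx)
      rw [← zpow_mod_orderOf, hz] at hn
      rcases Int.emod_two_eq_zero_or_one n with h | h
      · exact Or.inl (by simpa [h] using hn.symm)
      · exact Or.inr (by simpa [h] using hn.symm)
    have hG := Cfsg.Agent.S4216.result R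
    rw [hperf, inf_top_eq, le_antisymm hN Subgroup.le_normalizer] at hG
    refine hG.le.trans (sup_le ?_ (iSup_le fun g => ?_))
    · intro x hx
      rcases hRR x hx.2 with rfl | rfl
      · exact one_mem _
      · exact Subgroup.subset_closure hzS
    · rintro x ⟨hxR, y, hy, rfl⟩
      rcases hRR y hy with rfl | rfl
      · simp
      · exact Subgroup.subset_closure ⟨memR.mp hxR, g, by simp⟩
  obtain ⟨s, hsS, hsz⟩ : ∃ s ∈ S, s ≠ z := by
    by_contra! hall
    have : Subgroup.closure S ≤ Subgroup.zpowers z :=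
      (Subgroup.closure_le _).mpr fun s hs => by rw [hall s hs]; exact Subgroup.mem_zpowers z
    obtain ⟨n, hn⟩ := Subgroup.mem_zpowers_iff.mp (this (hgen (memR.mpr hx₀)))
    apply hz1
    rw [← hx₀z, ← hn, ← zpow_add, ← two_mul, zpow_mul, zpow_two, hzz, one_zpow]
  have hs := hSP s hsS
  have hsc : s * z = z * s := hsS.1
  obtain ⟨t, htS, hts⟩ : ∃ t ∈ S, t * s ≠ s * t := by
    by_contra! hall
    have hle : Subgroup.closure S ≤ Subgroup.centralizer ({s} : Set L) :=
      (Subgroup.closure_le _).mpr fun u hu => Subgroup.mem_centralizer_singleton_iff.mpr (hall u hu)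
    obtain ⟨x, hxz, hxs⟩ := IsFrattiniPoint.exists_not_commute hP hs (Ne.symm hsz)
    exact hxs (Subgroup.mem_centralizer_singleton_iff.mp (hle (hgen (memR.mpr hxz))))
  have ht := hSP t htS
  have htc : t * z = z * t := htS.1
  have htz : t ≠ z := fun h => hts (by rw [h, hsc])
  have third : ∀ {a b : L}, a ∈ S → b ∈ S → a ≠ z → b * a = a * b →
      b = z ∨ b = a ∨ b = z * a := by
    intro a b ha hb haz hba
    by_contra hno
    push Not at hno
    obtain ⟨hbz, hba', hbza⟩ := hno
    obtain ⟨x, hxz, hxa⟩ := IsFrattiniPoint.exists_not_commute hP (hSP a ha) (Ne.symm haz)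
    have hzaP : IsFrattiniPoint (z * a) := by
      rw [← IsFrattiniPoint.conj_eq hP hxz ha.1 hxa]; exact (hSP a ha).conj x
    exact hbza (IsFrattiniPoint.mul_eq_of_commute (hSP b hb) hP (hSP a ha) hbz hba'
      hb.1.symm hba.symm ha.1 hzaP).symm
  set D := Subgroup.closure ({s, t} : Set L) with hD
  have hsD : s ∈ D := Subgroup.subset_closure (Set.mem_insert _ _)
  have htD : t ∈ D := Subgroup.subset_closure (Set.mem_insert_of_mem _ rfl)
  have hts' : t * s * t⁻¹ = z * s := IsFrattiniPoint.conj_eq hP htc hsc hts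
  have hzD : z ∈ D := by
    have : z = t * s * t⁻¹ * s⁻¹ := by rw [hts']; group
    rw [this]
    exact mul_mem (mul_mem (mul_mem htD hsD) (inv_mem htD)) (inv_mem hsD)
  have hDR : (R : Subgroup L) = D := by
    refine le_antisymm (hgen.trans ((Subgroup.closure_le _).mpr fun u hu => ?_))
      ((Subgroup.closure_le _).mpr ?_)
    · by_cases hus : u * s = s * u
      · rcases third hsS hu hsz hus with rfl | rfl | rfl
        · exact hzD
        · exact hsD
        · exact mul_mem hzD hsD
      · have hus' : u * s * u⁻¹ = z * s := IsFrattiniPoint.conj_eq hP hu.1 hsc hus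
        have htu : (t⁻¹ * u) * s = s * (t⁻¹ * u) := by
          have e : (t⁻¹ * u) * s * (t⁻¹ * u)⁻¹ = s := by
            calc (t⁻¹ * u) * s * (t⁻¹ * u)⁻¹ = t⁻¹ * (u * s * u⁻¹) * t := by group
              _ = t⁻¹ * (t * s * t⁻¹) * t := by rw [hus', hts']
              _ = s := by group
          exact mul_inv_eq_iff_eq_mul.mp e
        have h2 := IsFrattiniPoint.sq_eq_one hP hs (Ne.symm hsz) (x := t⁻¹ * u)
          (Commute.mul_left (Commute.inv_left htc) hu.1).eq htu
        rw [inv_eq_of_mul_eq_one_left ht.sq_self] at h2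
        have hut : u * t = t * u := by
          calc u * t = (t * t) * (u * t) * (u * u) := by
                rw [ht.sq_self, (hSP u hu).sq_self, one_mul, mul_one]
            _ = t * ((t * u) * (t * u)) * u := by group
            _ = t * u := by rw [h2, mul_one]
        rcases third htS hu htz hut with rfl | rfl | rfl
        · exact hzD
        · exact htD
        · exact mul_mem hzD htD
    · rintro u (rfl | rfl)
      · exact memR.mpr hsc
      · exact memR.mpr htc
  have hord : ∀ {a : L}, IsFrattiniPoint a → orderOf a = 2 := fun ha =>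
    orderOf_eq_prime (by rw [sq]; exact ha.sq_self) ha.ne_one
  have hst2 : (s * t) * (s * t) = z := by
    have : t * s * t = z * s := by rw [← hts', inv_eq_of_mul_eq_one_left ht.sq_self]
    calc (s * t) * (s * t) = s * (t * s * t) := by group
      _ = (s * z) * s := by rw [this]; group
      _ = z * (s * s) := by rw [hsc]; group
      _ = z := by rw [hs.sq_self, mul_one]
  have hst4 : orderOf (s * t) = 4 := by
    have : orderOf (s * t) = 2 ^ (1 + 1) := orderOf_eq_prime_pow
      (by rw [pow_one, sq, hst2]; exact hz1)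
      (by rw [show (2 : ℕ) ^ (1 + 1) = 2 * 2 from rfl, pow_mul, sq (s * t), hst2, sq, hzz])
    simpa using this
  have hne : s ≠ t := fun h => hts (by rw [h])
  have e := CfsgLib.Small.closurePairEquivDihedral (hord hs) (hord ht) hne
  rw [hst4] at e
  exact ⟨(MulEquiv.subgroupCongr hDR).trans e⟩

end CfsgLib.LargeExtraspecial
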