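import Cfsg.Agent.LargeExtraspecial.Simplicity
import Cfsg.Agent.Classification.GFSNormal
import Cfsg.Agent.Solvable.Fitting
import Cfsg.Agent.Components.Layer
import Cfsg.Agent.Transfer.Residual
import Cfsg.Agent.Small.SylowArgs
import Cfsg.Agent.S3747

/-!
# The normal closure of the centre of a large extraspecial subgroup

`M = normalClosure {z}` is the only minimal normal subgroup. If it is non-abelian it is the layer and
consists of one component, or of two components interchanged by `Q`.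
-/

set_option autoImplicit false
set_option linter.style.haveILetI false

open scoped commutatorElement

namespace CfsgLib.LargeExtraspecial

variable {G : Type*} [Group G]

/-- Decompositions `a * b` with `a ∈ L`, `b` centralizing `L`, are unique when `Z(L) = 1`. -/
theorem left_eq_of_mul_eq {L : Subgroup G} (hZ : Subgroup.center L = ⊥) {a a' b b' : G}
    (ha : a ∈ L) (ha' : a' ∈ L) (hb : b ∈ Subgroup.centralizer (L : Set G))
    (hb' : b' ∈ Subgroup.centralizer (L : Set G)) (h : a * b = a' * b') : a = a' := by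
  have e : a'⁻¹ * a = b' * b⁻¹ := by
    calc a'⁻¹ * a = a'⁻¹ * (a * b) * b⁻¹ := by group
      _ = b' * b⁻¹ := by rw [h]; group
  have hc : a'⁻¹ * a ∈ Subgroup.centralizer (L : Set G) := e ▸ mul_mem hb' (inv_mem hb)
  have hm : a'⁻¹ * a ∈ L := L.mul_mem (L.inv_mem ha') ha
  have : (⟨_, hm⟩ : L) ∈ Subgroup.center L :=
    Subgroup.mem_center_iff.mpr fun l => Subtype.ext (Subgroup.mem_centralizer_iff.mp hc l l.2)
  rw [hZ, Subgroup.mem_bot] at this
  exact (inv_mul_eq_one.mp (congrArg Subtype.val this)).symm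

theorem mem_centralizer_conj {L : Subgroup G} {b : G} (hb : b ∈ Subgroup.centralizer (L : Set G))
    (q : G) : q * b * q⁻¹ ∈
      Subgroup.centralizer ((L.map (MulAut.conj q).toMonoidHom : Subgroup G) : Set G) := by
  refine Subgroup.mem_centralizer_iff.mpr ?_
  rintro _ ⟨l, hl, rfl⟩
  have e : l * b = b * l := Subgroup.mem_centralizer_iff.mp hb l hl
  show q * l * q⁻¹ * (q * b * q⁻¹) = q * b * q⁻¹ * (q * l * q⁻¹)
  calc q * l * q⁻¹ * (q * b * q⁻¹) = q * (l * b) * q⁻¹ := by group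
    _ = q * (b * l) * q⁻¹ := by rw [e]
    _ = q * b * q⁻¹ * (q * l * q⁻¹) := by group

variable [Finite G]

theorem component_le_centralizer {K K' : Subgroup G} (hK : Cfsg.IsComponent K)
    (hK' : Cfsg.IsComponent K') (hne : K ≠ K') : K ≤ Subgroup.centralizer (K' : Set G) :=
  Subgroup.commutator_eq_bot_iff_le_centralizer.mp
    (CfsgLib.Components.IsComponent.commutator_eq_bot_of_ne hK hK' hne)

/-- Every element of the layer is a product of an element of the component `K` and one centralizing it. -/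
theorem exists_decomposition {K : Subgroup G} (hK : Cfsg.IsComponent K) {m : G}
    (hm : m ∈ Cfsg.layer G) : ∃ a ∈ K, ∃ b ∈ Subgroup.centralizer (K : Set G), a * b = m := by
  have hle : Cfsg.layer G ≤ K ⊔ Subgroup.centralizer (K : Set G) := sSup_le fun K' hK' => by
    by_cases e : K' = K
    · exact e ▸ le_sup_left
    · exact (component_le_centralizer hK' hK e).trans le_sup_right
  have hn : Subgroup.centralizer (K : Set G) ≤ Subgroup.normalizer (K : Set G) := by
    intro b hb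
    have key : ∀ x ∈ K, b * x * b⁻¹ = x := fun x hx => by
      rw [← Subgroup.mem_centralizer_iff.mp hb x hx]; group
    refine Subgroup.mem_normalizer_iff.mpr fun x => ⟨fun hx => (key x hx).symm ▸ hx, fun hx => ?_⟩
    have e := key _ hx
    have : b * x * b⁻¹ = x := mul_left_cancel (mul_right_cancel e)
    rwa [this] at hx
  exact CfsgLib.Coprime.exists_mul_of_mem_sup hn (hle hm)

/-- No component centralizes the centre involution. -/
theorem IsZSub.not_mem_centralizer_component {Q : Subgroup G} {z : G} (h : IsZSub Q z)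
    {K : Subgroup G} (hK : Cfsg.IsComponent K) : z ∉ Subgroup.centralizer (K : Set G) := by
  haveI : Fact (Nat.Prime 2) := ⟨Nat.prime_two⟩
  intro hzK
  have hKN : K ≤ Subgroup.normalizer (Q : Set G) := fun k hk =>
    h.le_normalizer (mem_of_centralizer_singleton h.center_eq (Subgroup.mem_centralizer_iff.mp hzK k hk))
  haveI : Group.IsNilpotent Q := h.extra.1.1.isNilpotent
  have e := CfsgLib.Components.IsComponent.commutator_eq_bot_of_isSolvable hK (H := Q)
    inferInstance hKN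
  rw [Subgroup.commutator_eq_bot_iff_le_centralizer, h.centralizer_eq] at e
  apply CfsgLib.Components.IsComponent.not_isSolvable hK
  exact Group.isSolvable_of_isSolvable_injective (G' := Q)
    (f := Subgroup.inclusion (e.trans (center_map_le Q))) (Subgroup.inclusion_injective _)

/-- The conclusion in the case that `normalClosure {z}` is not abelian. -/
theorem IsZSub.normalClosure_structure {Q : Subgroup G} {z : G} (h : IsZSub Q z)
    (hL : Cfsg.IsLargeExtraspecial Q)
    (hnab : ¬ IsMulCommutative ↥(Subgroup.normalClosure ({z} : Set G))) :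
    Subgroup.normalClosure ({z} : Set G) = Cfsg.generalizedFittingSubgroup G ∧
    (IsSimpleGroup ↥(Subgroup.normalClosure ({z} : Set G)) ∨
      ∃ (L : Subgroup G) (u : G), u ∈ Q ∧ IsSimpleGroup ↥L ∧ ¬ IsMulCommutative ↥L ∧
        L ⊓ (L).map (MulAut.conj u).toMonoidHom = ⊥ ∧
        (∀ x ∈ L, ∀ y ∈ (L).map (MulAut.conj u).toMonoidHom, x * y = y * x) ∧
        L ⊔ (L).map (MulAut.conj u).toMonoidHom = Subgroup.normalClosure ({z} : Set G) ∧
        ∃ z₁ ∈ L, z = z₁ * (u * z₁ * u⁻¹) ∧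
          (∃ R : Sylow 2 ↥L, (R : Subgroup ↥L) = (Subgroup.centralizer ({z₁} : Set G)).subgroupOf L ∧
            (frattini ↥(R : Subgroup ↥L)).map ((L.subtype).comp (R : Subgroup ↥L).subtype) ≤
              Subgroup.zpowers z₁) ∧
          Q ≠ (Cfsg.pCore 2 ↥(Subgroup.centralizer ({z} : Set G))).map
            (Subgroup.centralizer ({z} : Set G)).subtype) := by
  haveI : Fact (Nat.Prime 2) := ⟨Nat.prime_two⟩
  set M := Subgroup.normalClosure ({z} : Set G) with hM
  haveI hMn : M.Normal := Subgroup.normalClosure_normal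
  have hzM : z ∈ M := Subgroup.subset_normalClosure (Set.mem_singleton z)
  have hMle : ∀ N : Subgroup G, N.Normal → N ≠ ⊥ → M ≤ N := fun N hN hne =>
    haveI := hN
    Subgroup.normalClosure_le_normal (Set.singleton_subset_iff.mpr (h.mem_of_normal hL hne))
  -- the Fitting subgroup is trivial
  have hF : Cfsg.fittingSubgroup G = ⊥ := by
    by_contra hne
    haveI hnil : Group.IsNilpotent (Cfsg.fittingSubgroup G) := CfsgLib.Solvable.fittingSubgroup_isNilpotent
    have hMF := hMle _ CfsgLib.Solvable.fittingSubgroup_normal hne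
    haveI : Nontrivial M := ⟨⟨⟨z, hzM⟩, 1, fun e => h.ne_one (congrArg Subtype.val e)⟩⟩
    haveI : Group.IsNilpotent M := by
      have := Subgroup.isNilpotent ((M.subgroupOf (Cfsg.fittingSubgroup G)))
      exact Group.nilpotent_of_mulEquiv (Subgroup.subgroupOfEquivOfLe hMF)
    have hZn : ((Subgroup.center M).map M.subtype).Normal := inferInstance
    have hZne : (Subgroup.center M).map M.subtype ≠ ⊥ := by
      rw [Ne, Subgroup.map_eq_bot_iff_of_injective _ M.subtype_injective]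
      exact Group.IsNilpotent.center_ne_bot M
    have hMZ := hMle _ hZn hZne
    refine hnab ⟨⟨fun a b => ?_⟩⟩
    obtain ⟨c, hc, hca⟩ := hMZ a.2
    rw [show a = c from Subtype.ext hca.symm]
    exact (Subgroup.mem_center_iff.mp hc b).symm
  have hFS : Cfsg.generalizedFittingSubgroup G = Cfsg.layer G := by
    rw [Cfsg.generalizedFittingSubgroup, hF, sup_bot_eq]
  have hcen : ∀ K : Subgroup G, Cfsg.IsComponent K → Subgroup.center K = ⊥ := by
    intro K hK
    have hsn : ((Subgroup.center ↥K).map K.subtype).IsSubnormal :=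
      Subgroup.IsSubnormal.trans' (Subgroup.Normal.isSubnormal inferInstance) hK.1
    have hnil : Group.IsNilpotent ↥((Subgroup.center ↥K).map K.subtype) :=
      haveI : Group.IsNilpotent ↥(Subgroup.center ↥K) := ⟨1, Subgroup.upperCentralSeries_one_eq_top_iff.mpr ⟨⟨fun a b => Subtype.ext ((Subgroup.mem_center_iff.mp b.2) a.1)⟩⟩⟩
      Group.nilpotent_of_mulEquiv ((Subgroup.center ↥K).equivMapOfInjective _ K.subtype_injective)
    have h' := Cfsg.Agent.S3743.le_fitting hsn hnil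
    rwa [hF, le_bot_iff, Subgroup.map_eq_bot_iff_of_injective _ K.subtype_injective] at h'
  have hsimple : ∀ K : Subgroup G, Cfsg.IsComponent K → IsSimpleGroup K ∧ ¬ IsMulCommutative K := by
    intro K hK
    refine ⟨?_, CfsgLib.Components.IsQuasisimple.not_isMulCommutative hK.2⟩
    haveI := hK.2.2
    exact MulEquiv.isSimpleGroup
      (QuotientGroup.quotientBot.symm.trans (QuotientGroup.quotientMulEquivOfEq (hcen K hK).symm))
  have hKM : ∀ K : Subgroup G, Cfsg.IsComponent K → K ≤ M := by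
    intro K hK
    obtain ⟨h1, h2⟩ := Cfsg.Agent.S3747.minimal_normal K hK (hcen K hK)
    rcases h2 M hMn (hMle _ Subgroup.normalClosure_normal h1) with e | e
    · exact absurd (e ▸ hzM : z ∈ (⊥ : Subgroup G)) (fun e' => h.ne_one (Subgroup.mem_bot.mp e'))
    · exact e ▸ Subgroup.le_normalClosure
  obtain ⟨L, hLc⟩ : ∃ L : Subgroup G, Cfsg.IsComponent L := by
    by_contra! hno
    have hl := (CfsgLib.Components.layer_eq_bot_iff (G := G)).mpr hno
    have hc := CfsgLib.Components.centralizer_generalizedFitting_le (G := G)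
    rw [hF, hFS, hl] at hc
    apply h.ne_one
    refine Subgroup.mem_bot.mp (hc (Subgroup.mem_centralizer_iff.mpr fun x hx => ?_))
    rw [show x = 1 from Subgroup.mem_bot.mp hx, one_mul, mul_one]
  have hlayer : Cfsg.layer G = M := le_antisymm (sSup_le fun K hK => hKM K hK)
    (hMle _ (CfsgLib.Classification.layer_normal' G) fun e =>
      (CfsgLib.Components.layer_eq_bot_iff (G := G)).mp e L hLc)
  refine ⟨by rw [hFS, hlayer], ?_⟩
  have hzlayer : z ∈ Cfsg.layer G := hlayer.symm ▸ hzM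
  -- no component centralizes `z`
  have hA : ∀ K : Subgroup G, Cfsg.IsComponent K → z ∉ Subgroup.centralizer (K : Set G) :=
    fun K hK => h.not_mem_centralizer_component hK
  have hconjC : ∀ q : G, ∀ K : Subgroup G, Cfsg.IsComponent K →
      Cfsg.IsComponent (K.map (MulAut.conj q).toMonoidHom) := fun q K hK =>
    CfsgLib.Components.IsComponent.conj hK q
  by_cases hone : ∀ K : Subgroup G, Cfsg.IsComponent K → K = L
  · left
    have hML : M = L := le_antisymm (hlayer ▸ sSup_le fun K hK => (hone K hK).le) (hKM L hLc)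
    rw [hML]
    exact (hsimple L hLc).1
  right
  push Not at hone
  obtain ⟨K₀, hK₀, hK₀L⟩ := hone
  obtain ⟨z₁, hz₁, w, hw, hzw⟩ := exists_decomposition hLc hzlayer
  have hwz₁ : z₁ * w = w * z₁ := Subgroup.mem_centralizer_iff.mp hw z₁ hz₁
  have hz₁z : z₁ * z = z * z₁ := by
    rw [← hzw]
    calc z₁ * (z₁ * w) = z₁ * (w * z₁) := by rw [hwz₁]
      _ = z₁ * w * z₁ := by group
  have hz₁1 : z₁ ≠ 1 := fun e => hA L hLc (by rw [← hzw, e, one_mul]; exact hw)
  have hz₁ne : z₁ ≠ z := fun e => hA K₀ hK₀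
    (component_le_centralizer hLc hK₀ (Ne.symm hK₀L) (e ▸ hz₁))
  -- some element of `Q` moves `L`
  obtain ⟨u, hu, huL⟩ : ∃ u ∈ Q, L.map (MulAut.conj u).toMonoidHom ≠ L := by
    by_contra! hall
    have : ∀ q ∈ Q, q * z₁ = z₁ * q := by
      intro q hq
      have hqz : q * z * q⁻¹ = z := mul_inv_eq_iff_eq_mul.mpr (h.z_comm hq)
      have hqa : q * z₁ * q⁻¹ ∈ L := (hall q hq).le ⟨z₁, hz₁, rfl⟩
      have hqb : q * w * q⁻¹ ∈ Subgroup.centralizer (L : Set G) := by
        have := mem_centralizer_conj hw q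
        rwa [hall q hq] at this
      refine mul_inv_eq_iff_eq_mul.mp (left_eq_of_mul_eq (hcen L hLc) hqa hz₁ hqb hw ?_)
      rw [hzw]
      calc q * z₁ * q⁻¹ * (q * w * q⁻¹) = q * (z₁ * w) * q⁻¹ := by group
        _ = z := by rw [hzw, hqz]
    rcases h.mem_of_commutes this with e | e
    · exact hz₁1 e
    · exact hz₁ne e
  set L₂ := L.map (MulAut.conj u).toMonoidHom with hL₂
  have hL₂c : Cfsg.IsComponent L₂ := hconjC u L hLc
  have hLL₂ : L ≤ Subgroup.centralizer (L₂ : Set G) := component_le_centralizer hLc hL₂c (Ne.symm huL)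
  have hL₂L : L₂ ≤ Subgroup.centralizer (L : Set G) := component_le_centralizer hL₂c hLc huL
  set C₁ := L ⊓ Subgroup.centralizer ({z} : Set G) with hC₁
  have hmemL₂ : ∀ x ∈ L, u * x * u⁻¹ ∈ L₂ := fun x hx => ⟨x, hx, rfl⟩
  have haQ : ∀ x ∈ C₁, x⁻¹ * (u * x * u⁻¹) ∈ Q := by
    intro x hx
    have hxc := Subgroup.mem_centralizer_singleton_iff.mp hx.2
    have e : x⁻¹ * (u * x * u⁻¹) = (x⁻¹ * u * x) * u⁻¹ := by group
    rw [e]
    refine Q.mul_mem ?_ (Q.inv_mem hu)
    have := h.conj_mem (c := x⁻¹) (Commute.inv_left hxc).eq hu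
    simpa using this
  -- small centralizers are impossible
  have hbig : ¬ ∀ x ∈ C₁, x = 1 ∨ x = z₁ := by
    intro hsmall
    obtain ⟨hLs, hLn⟩ := hsimple L hLc
    haveI := hLs
    have hz₁2 : z₁ * z₁ = 1 := by
      rcases hsmall _ (mul_mem (show z₁ ∈ C₁ from ⟨hz₁,
          Subgroup.mem_centralizer_singleton_iff.mpr hz₁z⟩) ⟨hz₁,
          Subgroup.mem_centralizer_singleton_iff.mpr hz₁z⟩) with e | e
      · exact e
      · exact absurd (mul_eq_left.mp e) hz₁1
    have hord : orderOf (⟨z₁, hz₁⟩ : L) = 2 := orderOf_eq_prime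
      (Subtype.ext (by simp [sq, hz₁2])) (fun e => hz₁1 (congrArg Subtype.val e))
    have hcomm : ∀ y : L, y * ⟨z₁, hz₁⟩ = ⟨z₁, hz₁⟩ * y →
        y ∈ Subgroup.zpowers (⟨z₁, hz₁⟩ : L) := by
      intro y hy
      have hy' : (y : G) * z₁ = z₁ * y := congrArg Subtype.val hy
      have : (y : G) ∈ C₁ := ⟨y.2, Subgroup.mem_centralizer_singleton_iff.mpr (by
        rw [← hzw]
        calc (y : G) * (z₁ * w) = z₁ * ((y : G) * w) := by rw [← mul_assoc, hy', mul_assoc]
          _ = z₁ * (w * y) := by rw [Subgroup.mem_centralizer_iff.mp hw y y.2]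
          _ = z₁ * w * y := by group)⟩
      rcases hsmall _ this with e | e
      · rw [show y = 1 from Subtype.ext e]; exact one_mem _
      · rw [show y = ⟨z₁, hz₁⟩ from Subtype.ext e]; exact Subgroup.mem_zpowers _
    have h2 : 2 ∣ Nat.card L := hord ▸ orderOf_dvd_natCard (⟨z₁, hz₁⟩ : L)
    have h4 := CfsgLib.Small.four_dvd_card_of_simple hLn h2
    obtain ⟨T, hT⟩ := (IsPGroup.of_card (p := 2) (n := 1)
      (by rw [Nat.card_zpowers, hord, pow_one] :
        Nat.card (Subgroup.zpowers (⟨z₁, hz₁⟩ : L)) = 2 ^ 1)).exists_le_sylow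
    have h4T : 2 ^ 2 ∣ Nat.card T := by
      exact T.pow_dvd_card_of_pow_dvd_card h4
    haveI : Group.IsNilpotent T := T.2.isNilpotent
    have hlt : (Subgroup.zpowers (⟨z₁, hz₁⟩ : L)).subgroupOf T < ⊤ := by
      refine lt_top_iff_ne_top.mpr fun e => ?_
      have := Subgroup.card_le_of_le (Subgroup.subgroupOf_eq_top.mp e)
      rw [Nat.card_zpowers, hord] at this
      have h4' := Nat.le_of_dvd Nat.card_pos h4T
      omega
    obtain ⟨y, hy, hyn⟩ := SetLike.exists_of_lt
      (Group.normalizerCondition_of_isNilpotent (G := T) _ hlt)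
    rw [← Subgroup.subgroupOf_normalizer_eq hT, Subgroup.mem_subgroupOf] at hy
    refine hyn (hcomm y ?_)
    have hm := (Subgroup.mem_normalizer_iff.mp hy ⟨z₁, hz₁⟩).mp (Subgroup.mem_zpowers _)
    rcases mem_zpowers_two hord hm with e | e
    · exact absurd (conj_eq_one_iff.mp e) (fun e' => hz₁1 (congrArg Subtype.val e'))
    · exact mul_inv_eq_iff_eq_mul.mp e
  -- only two components
  have htwo : ∀ K : Subgroup G, Cfsg.IsComponent K → K = L ∨ K = L₂ := by
    intro K hK
    by_contra hno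
    push Not at hno
    obtain ⟨hKL, hKL₂⟩ := hno
    apply hbig
    intro x hx
    by_cases hx1 : x = 1
    · exact Or.inl hx1
    refine Or.inr ?_
    have hxL := hx.1
    have hy := hmemL₂ x hxL
    have ha := haQ x hx
    set a := x⁻¹ * (u * x * u⁻¹) with hadef
    have hca : a ∈ Subgroup.centralizer (K : Set G) :=
      mul_mem (inv_mem (component_le_centralizer hLc hK (Ne.symm hKL) hxL))
        (component_le_centralizer hL₂c hK (Ne.symm hKL₂) hy)
    have haz : a ≠ z := fun e => hA K hK (e ▸ hca)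
    have ha1 : a ≠ 1 := fun e => by
      have exy : x = u * x * u⁻¹ := inv_mul_eq_one.mp e
      have hxC : x ∈ Subgroup.centralizer (L : Set G) := by
        have := hL₂L hy; rwa [← exy] at this
      refine hx1 (left_eq_of_mul_eq (hcen L hLc) hxL (one_mem _) (one_mem _) hxC ?_)
      rw [mul_one, one_mul]
    obtain ⟨p, hp, hpa⟩ := h.exists_not_commute ha1 haz
    have hpe := h.conj_of_not_commute hp ha hpa
    obtain ⟨c, hc, d, hd, hcd⟩ := exists_decomposition hK hzlayer
    have hc1 : c ≠ 1 := fun e => hA K hK (by rw [← hcd, e, one_mul]; exact hd)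
    have hr : z * a = c * (d * a) := by rw [← hcd, mul_assoc]
    have hX : p * x * p⁻¹ ∈ L.map (MulAut.conj p).toMonoidHom := ⟨x, hxL, rfl⟩
    have hY : (p * u) * x * (p * u)⁻¹ ∈ L.map (MulAut.conj (p * u)).toMonoidHom := ⟨x, hxL, rfl⟩
    have hl : p * a * p⁻¹ = (p * x * p⁻¹)⁻¹ * ((p * u) * x * (p * u)⁻¹) := by rw [hadef]; group
    rw [hl, hr] at hpe
    have hpz : p * z * p⁻¹ = z := mul_inv_eq_iff_eq_mul.mpr (h.z_comm hp)
    have huz : (p * u) * z * (p * u)⁻¹ = z :=
      mul_inv_eq_iff_eq_mul.mpr (h.z_comm (Q.mul_mem hp hu))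
    have hcomp : ∀ q : G, q * z * q⁻¹ = z → L.map (MulAut.conj q).toMonoidHom = K →
        c = q * z₁ * q⁻¹ := by
      intro q hq hqK
      refine left_eq_of_mul_eq (hcen K hK) hc (hqK ▸ ⟨z₁, hz₁, rfl⟩) hd
        (hqK ▸ mem_centralizer_conj hw q) ?_
      rw [hcd]
      calc z = q * (z₁ * w) * q⁻¹ := by rw [hzw, hq]
        _ = q * z₁ * q⁻¹ * (q * w * q⁻¹) := by group
    have hz₁2 : z₁⁻¹ = z₁ := by
      refine inv_eq_of_mul_eq_one_right (left_eq_of_mul_eq (hcen L hLc) (mul_mem hz₁ hz₁) (one_mem _)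
        (mul_mem hw hw) (one_mem _) ?_)
      calc z₁ * z₁ * (w * w) = z₁ * (z₁ * w) * w := by group
        _ = z₁ * (w * z₁) * w := by rw [hwz₁]
        _ = (z₁ * w) * (z₁ * w) := by group
        _ = 1 * 1 := by rw [hzw, h.mul_self, one_mul]
    have hcl := hconjC p L hLc
    have hcl' := hconjC (p * u) L hLc
    by_cases e1 : L.map (MulAut.conj p).toMonoidHom = K
    · have e2 : L.map (MulAut.conj (p * u)).toMonoidHom ≠ K := by
        intro e2
        apply huL
        apply Subgroup.map_injective (f := (MulAut.conj p).toMonoidHom) (MulAut.conj p).injective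
        rw [Subgroup.map_map, e1, ← e2]
        congr 1
        ext y
        simp [mul_assoc]
      have := left_eq_of_mul_eq (hcen K hK) (K.inv_mem (e1 ▸ hX)) hc
        (component_le_centralizer hcl' hK e2 hY) (mul_mem hd hca) hpe
      rw [hcomp p hpz e1] at this
      have e3 : x⁻¹ = z₁ := by
        have := congrArg (fun t => p⁻¹ * t * p) this
        simpa [mul_assoc] using this
      rw [← inv_inv x, e3, hz₁2]
    · by_cases e2 : L.map (MulAut.conj (p * u)).toMonoidHom = K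
      · have hcom : (p * x * p⁻¹)⁻¹ * ((p * u) * x * (p * u)⁻¹) =
            ((p * u) * x * (p * u)⁻¹) * (p * x * p⁻¹)⁻¹ :=
          (Subgroup.mem_centralizer_iff.mp (inv_mem (component_le_centralizer hcl hK e1 hX)) _
            (e2 ▸ hY)).symm
        rw [hcom] at hpe
        have := left_eq_of_mul_eq (hcen K hK) (e2 ▸ hY) hc
          (inv_mem (component_le_centralizer hcl hK e1 hX)) (mul_mem hd hca) hpe
        rw [hcomp (p * u) huz e2] at this
        exact mul_left_cancel (mul_right_cancel this)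
      · exfalso
        have hlc := mul_mem (inv_mem (component_le_centralizer hcl hK e1 hX))
          (component_le_centralizer hcl' hK e2 hY)
        exact hc1 (left_eq_of_mul_eq (hcen K hK) (one_mem K) hc hlc (mul_mem hd hca)
          ((one_mul _).trans hpe)).symm
  have hsup : L ⊔ L₂ = M := by
    refine le_antisymm (sup_le (hKM L hLc) (hKM L₂ hL₂c)) (hlayer ▸ sSup_le fun K hK => ?_)
    rcases htwo K hK with rfl | rfl
    · exact le_sup_left
    · exact le_sup_right
  have hdec : ∀ m ∈ M, ∃ a ∈ L, ∃ b ∈ L₂, a * b = m := fun m hm => by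
    rw [← hsup] at hm
    exact CfsgLib.Coprime.exists_mul_of_mem_sup
      (hL₂L.trans (fun b hb => by
        refine Subgroup.mem_normalizer_iff.mpr fun x => ?_
        have key : ∀ y ∈ L, b * y * b⁻¹ = y := fun y hy => by
          rw [← Subgroup.mem_centralizer_iff.mp hb y hy]; group
        refine ⟨fun hx => (key x hx).symm ▸ hx, fun hx => ?_⟩
        have e := key _ hx
        have : b * x * b⁻¹ = x := mul_left_cancel (mul_right_cancel e)
        rwa [this] at hx)) hm
  have huz : u * z * u⁻¹ = z := mul_inv_eq_iff_eq_mul.mpr (h.z_comm hu)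
  have hz12 : z = z₁ * (u * z₁ * u⁻¹) := by
    obtain ⟨a, ha, b, hb, hab⟩ := hdec z hzM
    have e1 := left_eq_of_mul_eq (hcen L hLc) ha hz₁ (hL₂L hb) hw (hab.trans hzw.symm)
    have e2 : b = u * z₁ * u⁻¹ := left_eq_of_mul_eq (hcen L₂ hL₂c) hb (hmemL₂ z₁ hz₁) (hLL₂ ha)
      (mem_centralizer_conj hw u) (by
        calc b * a = a * b := (Subgroup.mem_centralizer_iff.mp (hL₂L hb) a ha).symm
          _ = u * (z₁ * w) * u⁻¹ := by rw [hab, hzw, huz]
          _ = u * z₁ * u⁻¹ * (u * w * u⁻¹) := by group)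
    rw [← e2, ← e1, hab]
  obtain ⟨hLs, hLn⟩ := hsimple L hLc
  have hinf : L ⊓ L₂ = ⊥ := (Subgroup.eq_bot_iff_forall _).mpr fun x hx =>
    left_eq_of_mul_eq (hcen L hLc) hx.1 (one_mem _) (one_mem _) (hL₂L hx.2)
      (by rw [mul_one, one_mul])
  have hz₁C : ∀ x ∈ L, (x * z₁ = z₁ * x ↔ x ∈ C₁) := by
    intro x hx
    refine ⟨fun e => ⟨hx, Subgroup.mem_centralizer_singleton_iff.mpr ?_⟩, fun hxC => ?_⟩
    · rw [← hzw]
      calc x * (z₁ * w) = z₁ * (x * w) := by rw [← mul_assoc, e, mul_assoc]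
        _ = z₁ * (w * x) := by rw [Subgroup.mem_centralizer_iff.mp hw x hx]
        _ = z₁ * w * x := by group
    · have hxz := Subgroup.mem_centralizer_singleton_iff.mp hxC.2
      refine mul_inv_eq_iff_eq_mul.mp (left_eq_of_mul_eq (hcen L hLc)
        (L.mul_mem (L.mul_mem hx hz₁) (L.inv_mem hx)) hz₁ hw hw ?_)
      calc x * z₁ * x⁻¹ * w = x * z₁ * (x⁻¹ * w) := by group
        _ = x * z₁ * (w * x⁻¹) := by rw [Subgroup.mem_centralizer_iff.mp hw x⁻¹ (L.inv_mem hx)]
        _ = (x * (z₁ * w)) * x⁻¹ := by group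
        _ = z₁ * w := by rw [hzw, hxz]; group
  -- properties of `C₁`
  have haeq : ∀ x ∈ C₁, ∀ y ∈ C₁,
      (x⁻¹ * (u * x * u⁻¹)) * (y⁻¹ * (u * y * u⁻¹)) = (x⁻¹ * y⁻¹) * (u * (x * y) * u⁻¹) := by
    intro x hx y hy
    have e : y⁻¹ * (u * x * u⁻¹) = (u * x * u⁻¹) * y⁻¹ :=
      Subgroup.mem_centralizer_iff.mp (hL₂L (hmemL₂ x hx.1)) y⁻¹ (L.inv_mem hy.1)
    calc (x⁻¹ * (u * x * u⁻¹)) * (y⁻¹ * (u * y * u⁻¹))
        = x⁻¹ * ((u * x * u⁻¹) * y⁻¹) * (u * y * u⁻¹) := by group
      _ = x⁻¹ * (y⁻¹ * (u * x * u⁻¹)) * (u * y * u⁻¹) := by rw [e]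
      _ = (x⁻¹ * y⁻¹) * (u * (x * y) * u⁻¹) := by group
  have hC2 : ∀ x ∈ C₁, ∃ k : ℕ, x ^ 2 ^ k = 1 := by
    intro x hx
    obtain ⟨k, hk⟩ := h.extra.1.1 ⟨_, haQ x hx⟩
    refine ⟨k, ?_⟩
    have hk' : (x⁻¹ * (u * x * u⁻¹)) ^ 2 ^ k = 1 := by simpa using congrArg Subtype.val hk
    have hcm : Commute x⁻¹ (u * x * u⁻¹) :=
      Subgroup.mem_centralizer_iff.mp (hL₂L (hmemL₂ x hx.1)) x⁻¹ (L.inv_mem hx.1)
    rw [hcm.mul_pow] at hk'
    have := left_eq_of_mul_eq (hcen L hLc) (pow_mem (L.inv_mem hx.1) _) (one_mem _)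
      (pow_mem (hL₂L (hmemL₂ x hx.1)) _) (one_mem _) (hk'.trans (one_mul 1).symm)
    rwa [inv_pow, inv_eq_one] at this
  have hz₁2 : z₁ * z₁ = 1 := left_eq_of_mul_eq (hcen L hLc) (mul_mem hz₁ hz₁) (one_mem _)
    (mul_mem hw hw) (one_mem _) (by
      calc z₁ * z₁ * (w * w) = z₁ * (z₁ * w) * w := by group
        _ = z₁ * (w * z₁) * w := by rw [hwz₁]
        _ = (z₁ * w) * (z₁ * w) := by group
        _ = 1 * 1 := by rw [hzw, h.mul_self, one_mul])
  have hz₁ord : orderOf z₁ = 2 := orderOf_eq_prime (by rw [sq, hz₁2]) hz₁1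
  have hval : ∀ l ∈ L, ∀ m ∈ Subgroup.centralizer (L : Set G), l * m ∈ Q →
      (l * m = 1 ∨ l * m = z) → l = 1 ∨ l = z₁ := by
    intro l hl m hm _ hlm
    rcases hlm with e | e
    · exact Or.inl (left_eq_of_mul_eq (hcen L hLc) hl (one_mem _) hm (one_mem _)
        (e.trans (one_mul 1).symm))
    · exact Or.inr (left_eq_of_mul_eq (hcen L hLc) hl hz₁ hm hw (e.trans hzw.symm))
  have hsq : ∀ x ∈ C₁, x * x ∈ Subgroup.zpowers z₁ := by
    intro x hx
    have hb : u * (x * x) * u⁻¹ ∈ Subgroup.centralizer (L : Set G) :=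
      hL₂L (hmemL₂ _ (L.mul_mem hx.1 hx.1))
    have e := h.sq_eq (haQ x hx)
    rw [haeq x hx x hx] at e
    rcases hval _ (L.mul_mem (L.inv_mem hx.1) (L.inv_mem hx.1)) _ hb
      (haeq x hx x hx ▸ Q.mul_mem (haQ x hx) (haQ x hx)) e with r | r
    · rw [← mul_inv_rev, inv_eq_one] at r; rw [r]; exact one_mem _
    · rw [← mul_inv_rev, inv_eq_iff_eq_inv, inv_eq_self_of_two hz₁ord] at r
      rw [r]; exact Subgroup.mem_zpowers _
  have hcm : ∀ x ∈ C₁, ∀ y ∈ C₁, x * y * x⁻¹ * y⁻¹ ∈ Subgroup.zpowers z₁ := by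
    intro x hx y hy
    have hX : x⁻¹ * (u * x⁻¹⁻¹ * u⁻¹) ∈ Q := by simpa using haQ x hx
    have e := h.comm_eq (haQ x⁻¹ (inv_mem hx)) (haQ y⁻¹ (inv_mem hy))
    have hb : u * (x⁻¹ * y⁻¹ * x * y) * u⁻¹ ∈ Subgroup.centralizer (L : Set G) :=
      hL₂L (hmemL₂ _ (L.mul_mem (L.mul_mem (L.mul_mem (L.inv_mem hx.1) (L.inv_mem hy.1)) hx.1) hy.1))
    have key : x⁻¹⁻¹ * (u * x⁻¹ * u⁻¹) * (y⁻¹⁻¹ * (u * y⁻¹ * u⁻¹)) *
        (x⁻¹⁻¹ * (u * x⁻¹ * u⁻¹))⁻¹ * (y⁻¹⁻¹ * (u * y⁻¹ * u⁻¹))⁻¹ =
        (x * y * x⁻¹ * y⁻¹) * (u * (x⁻¹ * y⁻¹ * x * y) * u⁻¹) := by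
      have hxC : ∀ l ∈ L, Commute l (u * x⁻¹ * u⁻¹) := fun l hl =>
        Subgroup.mem_centralizer_iff.mp (hL₂L (hmemL₂ _ (L.inv_mem hx.1))) l hl
      have hyC : ∀ l ∈ L, Commute l (u * y⁻¹ * u⁻¹) := fun l hl =>
        Subgroup.mem_centralizer_iff.mp (hL₂L (hmemL₂ _ (L.inv_mem hy.1))) l hl
      set X := u * x⁻¹ * u⁻¹ with hXd
      set Y := u * y⁻¹ * u⁻¹ with hYd
      rw [inv_inv, inv_inv, show u * (x⁻¹ * y⁻¹ * x * y) * u⁻¹ = X * Y * X⁻¹ * Y⁻¹ from by
        rw [hXd, hYd]; group]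
      have c1 := (hxC y hy.1).eq
      have c2 : Commute (x * y * x⁻¹) (X * Y * X⁻¹) :=
        ((hxC _ (L.mul_mem (L.mul_mem hx.1 hy.1) (L.inv_mem hx.1))).mul_right
          (hyC _ (L.mul_mem (L.mul_mem hx.1 hy.1) (L.inv_mem hx.1)))).mul_right
          (hxC _ (L.mul_mem (L.mul_mem hx.1 hy.1) (L.inv_mem hx.1))).inv_right
      calc x * X * (y * Y) * (x * X)⁻¹ * (y * Y)⁻¹
          = x * (X * y) * Y * X⁻¹ * x⁻¹ * Y⁻¹ * y⁻¹ := by group
        _ = x * (y * X) * Y * X⁻¹ * x⁻¹ * Y⁻¹ * y⁻¹ := by rw [c1]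
        _ = x * y * ((X * Y * X⁻¹) * x⁻¹) * Y⁻¹ * y⁻¹ := by group
        _ = x * y * (x⁻¹ * (X * Y * X⁻¹)) * Y⁻¹ * y⁻¹ := by
          rw [(((hxC _ (L.inv_mem hx.1)).mul_right (hyC _ (L.inv_mem hx.1))).mul_right
            (hxC _ (L.inv_mem hx.1)).inv_right).eq]
        _ = (x * y * x⁻¹) * ((X * Y * X⁻¹ * Y⁻¹) * y⁻¹) := by group
        _ = (x * y * x⁻¹) * (y⁻¹ * (X * Y * X⁻¹ * Y⁻¹)) := by
          rw [((((hxC _ (L.inv_mem hy.1)).mul_right (hyC _ (L.inv_mem hy.1))).mul_right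
            (hxC _ (L.inv_mem hy.1)).inv_right).mul_right (hyC _ (L.inv_mem hy.1)).inv_right).eq]
        _ = (x * y * x⁻¹ * y⁻¹) * (X * Y * X⁻¹ * Y⁻¹) := by group
    rw [key] at e
    have hl : x * y * x⁻¹ * y⁻¹ ∈ L :=
      L.mul_mem (L.mul_mem (L.mul_mem hx.1 hy.1) (L.inv_mem hx.1)) (L.inv_mem hy.1)
    have hmemQ : (x * y * x⁻¹ * y⁻¹) * (u * (x⁻¹ * y⁻¹ * x * y) * u⁻¹) ∈ Q := by
      rcases e with e' | e' <;> rw [e']
      · exact one_mem _
      · exact h.z_mem
    rcases hval _ hl _ hb hmemQ e with r | r <;> rw [r]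
    · exact one_mem _
    · exact Subgroup.mem_zpowers _
  -- `C₁` is a Sylow subgroup of `L`
  obtain ⟨S, hQS, hSH, -⟩ := h.exists_sylow
  have hML : M ≤ Subgroup.normalizer (L : Set G) :=
    hlayer ▸ CfsgLib.Components.IsComponent.normalized_by_layer hLc
  set C₁' := (Subgroup.centralizer ({z₁} : Set G)).subgroupOf L with hC₁'
  have hC₁'mem : ∀ x : L, x ∈ C₁' ↔ (x : G) ∈ C₁ := fun x => by
    rw [hC₁', Subgroup.mem_subgroupOf, Subgroup.mem_centralizer_singleton_iff]
    exact hz₁C x x.2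
  have hC₁'p : IsPGroup 2 C₁' := fun x => by
    obtain ⟨k, hk⟩ := hC2 _ ((hC₁'mem x.1).mp x.2)
    exact ⟨k, Subtype.ext (Subtype.ext (by simpa using hk))⟩
  have hodd : ¬ 2 ∣ C₁'.index := by
    have h1 := CfsgLib.Transfer.not_dvd_relIndex_of_normal S M
    obtain ⟨T, hT⟩ := (S.2.comap_subtype (K := M)).exists_le_sylow
    have hTeq : (T : Subgroup M) = (S : Subgroup G).subgroupOf M := by
      refine le_antisymm ?_ hT
      have hd : ((S : Subgroup G).subgroupOf M).relIndex (T : Subgroup M) ∣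
          ((S : Subgroup G).subgroupOf M).index :=
        ⟨(T : Subgroup M).index, (Subgroup.relIndex_mul_index hT).symm⟩
      obtain ⟨k, hk⟩ := T.2.index (((S : Subgroup G).subgroupOf M).subgroupOf (T : Subgroup M))
      rcases Nat.eq_zero_or_pos k with rfl | hk0
      · rw [pow_zero] at hk
        exact Subgroup.relIndex_eq_one.mp hk
      · exfalso
        apply h1
        refine Dvd.dvd.trans ?_ hd
        change 2 ∣ (((S : Subgroup G).subgroupOf M).subgroupOf (T : Subgroup M)).index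
        rw [hk]
        exact dvd_pow_self 2 hk0.ne'
    haveI : (L.subgroupOf M).Normal :=
      (Subgroup.normal_subgroupOf_iff_le_normalizer (hKM L hLc)).mpr hML
    have h2 := CfsgLib.Transfer.not_dvd_relIndex_of_normal T (L.subgroupOf M)
    rw [hTeq, Subgroup.relIndex_subgroupOf (hKM L hLc)] at h2
    intro hd
    apply h2
    refine hd.trans ?_
    have hle : (S : Subgroup G).subgroupOf L ≤ C₁' := fun x hx => (hC₁'mem x).mpr ⟨x.2, hSH hx⟩
    exact Subgroup.index_dvd_of_le hle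
  let R : Sylow 2 L := hC₁'p.toSylow hodd
  have hRcoe : (R : Subgroup L) = C₁' := IsPGroup.toSylow_coe _ _
  refine ⟨L, u, hu, hLs, hLn, hinf, fun x hx y hy => (Subgroup.mem_centralizer_iff.mp (hL₂L hy) x hx),
    hsup, z₁, hz₁, hz12, ⟨R, hRcoe, ?_⟩, ?_⟩
  · have hR2 : IsPGroup 2 (R : Subgroup L) := R.2
    have hmemR : ∀ x : (R : Subgroup L), ((x : L) : G) ∈ C₁ := fun x =>
      (hC₁'mem _).mp (hRcoe ▸ x.2)
    set N := ((Subgroup.zpowers z₁).comap ((L.subtype).comp (R : Subgroup ↥L).subtype)) with hN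
    have hfr : frattini ↥(R : Subgroup ↥L) ≤ N := by
      refine CfsgLib.Solvable.frattini_le_of_elementary (p := 2) ?_ fun x => ?_
      · rw [commutator_def, Subgroup.commutator_le]
        intro a _ b _
        rw [hN, Subgroup.mem_comap]
        simpa [commutatorElement_def] using hcm _ (hmemR a) _ (hmemR b)
      · rw [hN, Subgroup.mem_comap]
        simpa [sq] using hsq _ (hmemR x)
    exact Subgroup.map_le_iff_le_comap.mpr hfr
  · intro hQO
    apply hbig
    intro x hx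
    haveI := pCore_normal' 2 ↥(Subgroup.centralizer ({z} : Set G))
    have hWn : (M.subgroupOf (Subgroup.centralizer ({z} : Set G))).Normal := hMn.comap _
    have hWp : IsPGroup 2 (M.subgroupOf (Subgroup.centralizer ({z} : Set G))) := by
      intro m
      obtain ⟨a, ha, b, hb, hab⟩ := hdec _ m.2
      have hmz : ((m : ↥(Subgroup.centralizer ({z} : Set G))) : G) * z =
          z * ((m : ↥(Subgroup.centralizer ({z} : Set G))) : G) :=
        Subgroup.mem_centralizer_singleton_iff.mp (m : ↥(Subgroup.centralizer ({z} : Set G))).2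
      rw [Subgroup.coe_subtype] at hab
      rw [← hab] at hmz
      have hbz₁ : b * z₁ = z₁ * b := (Subgroup.mem_centralizer_iff.mp (hL₂L hb) z₁ hz₁).symm
      have haz : a * z₁ = z₁ * a := by
        refine mul_inv_eq_iff_eq_mul.mp (left_eq_of_mul_eq (hcen L hLc)
          (L.mul_mem (L.mul_mem ha hz₁) (L.inv_mem ha)) hz₁
          (b := a * (b * w * b⁻¹) * a⁻¹) ?_ hw ?_)
        · rw [show a * (b * w * b⁻¹) * a⁻¹ = b * w * b⁻¹ from by
            rw [Subgroup.mem_centralizer_iff.mp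
              (mul_mem (mul_mem (hL₂L hb) hw) (inv_mem (hL₂L hb))) a ha]
            group]
          exact mul_mem (mul_mem (hL₂L hb) hw) (inv_mem (hL₂L hb))
        · calc a * z₁ * a⁻¹ * (a * (b * w * b⁻¹) * a⁻¹) = a * (z₁ * b) * w * b⁻¹ * a⁻¹ := by group
            _ = a * (b * z₁) * w * b⁻¹ * a⁻¹ := by rw [hbz₁]
            _ = (a * b) * (z₁ * w) * (a * b)⁻¹ := by group
            _ = z₁ * w := by rw [hzw, mul_inv_eq_iff_eq_mul.mpr hmz]
      have haC : a ∈ C₁ := (hz₁C a ha).mp haz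
      have hbz : b * z = z * b := by
        have haz' := Subgroup.mem_centralizer_singleton_iff.mp haC.2
        apply mul_left_cancel (a := a)
        rw [← mul_assoc, hmz, ← mul_assoc a z b, haz', mul_assoc]
      obtain ⟨c, hc, rfl⟩ := hb
      have hcC : c ∈ C₁ := by
        refine ⟨hc, Subgroup.mem_centralizer_singleton_iff.mpr ?_⟩
        have hzu : z = u * z * u⁻¹ := huz.symm
        rw [hzu] at hbz
        have := congrArg (fun t => u⁻¹ * t * u) hbz
        simpa [mul_assoc] using this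
      obtain ⟨k, hk⟩ := hC2 a haC
      obtain ⟨l, hl⟩ := hC2 c hcC
      refine ⟨k + l, Subtype.ext (Subtype.ext ?_)⟩
      rw [Subgroup.coe_pow, Subgroup.coe_pow, ← hab]
      have hab' : Commute a ((MulAut.conj u).toMonoidHom c) :=
        Subgroup.mem_centralizer_iff.mp (hL₂L ⟨c, hc, rfl⟩) a ha
      rw [hab'.mul_pow, ← map_pow, pow_add, pow_mul, hk, one_pow, mul_comm (2 ^ k) (2 ^ l),
        pow_mul, hl, one_pow, map_one, mul_one]
      rfl
    have hxM : x ∈ M := hKM L hLc hx.1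
    have hxQ : x ∈ Q := hQO ▸ ⟨⟨x, hx.2⟩, (le_sSup (show M.subgroupOf
      (Subgroup.centralizer ({z} : Set G)) ∈ {N : Subgroup ↥(Subgroup.centralizer ({z} : Set G)) |
        N.Normal ∧ IsPGroup 2 N} from ⟨hWn, hWp⟩) : _ ≤ Cfsg.pCore 2 _) hxM, rfl⟩
    rcases h.conj_eq hu hxQ with e | e
    · left
      have : x ∈ L ⊓ L₂ := ⟨hx.1, e ▸ hmemL₂ x hx.1⟩
      rwa [hinf, Subgroup.mem_bot] at this
    · right
      have : (1 : G) = z₁ * x := by
        refine left_eq_of_mul_eq (hcen L hLc) (one_mem _) (L.mul_mem hz₁ hx.1)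
          (hL₂L (hmemL₂ x hx.1)) hw ?_
        rw [one_mul, e, ← hzw, mul_assoc, ← Subgroup.mem_centralizer_iff.mp hw x hx.1, mul_assoc]
      rw [eq_comm, mul_eq_one_iff_inv_eq, inv_eq_self_of_two hz₁ord] at this
      exact this.symm

/-- The structure of the normal closure of the centre involution. -/
theorem normalClosure_cases {Q : Subgroup G} (hQ : Cfsg.IsLargeExtraspecial Q) {z : G}
    (hz : ((Subgroup.center ↥Q).map Q.subtype) = Subgroup.zpowers z)
    {M : Subgroup G} (hM : M = Subgroup.normalClosure ({z} : Set G)) :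
    Q.Normal ∨ (IsMulCommutative ↥M ∧ Cfsg.generalizedFittingSubgroup G = Cfsg.pCore 2 G) ∨
      (M = Cfsg.generalizedFittingSubgroup G ∧ IsSimpleGroup ↥M ∧ ¬ IsMulCommutative ↥M) ∨
      (M = Cfsg.generalizedFittingSubgroup G ∧ ∃ (L : Subgroup G) (u : G), u ∈ Q ∧
        IsSimpleGroup ↥L ∧ ¬ IsMulCommutative ↥L ∧ L ⊓ (L).map (MulAut.conj u).toMonoidHom = ⊥ ∧
        (∀ x ∈ L, ∀ y ∈ (L).map (MulAut.conj u).toMonoidHom, x * y = y * x) ∧
        L ⊔ (L).map (MulAut.conj u).toMonoidHom = M ∧ ∃ z₁ ∈ L, z = z₁ * (u * z₁ * u⁻¹) ∧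
          (∃ R : Sylow 2 ↥L, (R : Subgroup ↥L) = (Subgroup.centralizer ({z₁} : Set G)).subgroupOf L ∧
            (frattini ↥(R : Subgroup ↥L)).map ((L.subtype).comp (R : Subgroup ↥L).subtype) ≤
              Subgroup.zpowers z₁) ∧
          Q ≠ (Cfsg.pCore 2 ↥(Subgroup.centralizer ({z} : Set G))).map
            (Subgroup.centralizer ({z} : Set G)).subtype) := by
  haveI : Fact (Nat.Prime 2) := ⟨Nat.prime_two⟩
  obtain ⟨y, hy2, hy⟩ := exists_center_gen hQ.1.2
  have hz2 : orderOf z = 2 := by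
    rw [← Nat.card_zpowers, ← hz, hy, Nat.card_zpowers, hy2]
  have h : IsZSub Q z := isZSub_of_large hQ hz hz2
  by_cases hab : IsMulCommutative ↥M
  · refine Or.inr (Or.inl ⟨hab, ?_⟩)
    subst hM
    set M := Subgroup.normalClosure ({z} : Set G) with hMdef
    haveI hMn : M.Normal := Subgroup.normalClosure_normal
    have hzM : z ∈ M := Subgroup.subset_normalClosure (Set.mem_singleton z)
    have hMsol : Group.IsSolvable M :=
      Group.isSolvable_of_comm fun a b => mul_comm' a b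
    refine CfsgLib.Components.generalizedFitting_eq_pCore 2
      ((CfsgLib.Components.layer_eq_bot_iff (G := G)).mpr fun K hK => ?_) fun N hN hcop => ?_
    · have e := CfsgLib.Components.IsComponent.commutator_eq_bot_of_isSolvable hK (H := M) hMsol
        Subgroup.le_normalizer_of_normal
      rw [Subgroup.commutator_comm, Subgroup.commutator_eq_bot_iff_le_centralizer] at e
      exact h.not_mem_centralizer_component hK (e hzM)
    · refine hQ.2.2.2 N (Nat.coprime_two_right.mp hcop) fun q _ => ?_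
      rw [Subgroup.normalizer_eq_top_iff.mpr hN]
      exact Subgroup.mem_top q
  · obtain ⟨h1, h2⟩ := h.normalClosure_structure hQ (hM ▸ hab)
    subst hM
    rcases h2 with h2 | h2
    · exact Or.inr (Or.inr (Or.inl ⟨h1, h2, hab⟩))
    · exact Or.inr (Or.inr (Or.inr ⟨h1, h2⟩))

end CfsgLib.LargeExtraspecial
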