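import Cfsg.Agent.LargeExtraspecial.Pair

/-!
# The subgroup generated by a pair `Q`, `g Q g⁻¹` and its action on `⟨z, g z g⁻¹⟩`
-/

set_option autoImplicit false

namespace CfsgLib.LargeExtraspecial

variable {G : Type*} [Group G]

/-- A group generated by two involutions satisfying the braid relation has at most six elements. -/
theorem card_le_six_of_braid {K : Type*} [Group K] {a b : K} (ha : a * a = 1) (hb : b * b = 1)
    (hab : a * b * a = b * a * b) (hgen : Subgroup.closure ({a, b} : Set K) = ⊤) :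
    Nat.card K ≤ 6 := by
  classical
  have hai : a⁻¹ = a := inv_eq_of_mul_eq_one_right ha
  have hbi : b⁻¹ = b := inv_eq_of_mul_eq_one_right hb
  have aa : ∀ x, a * (a * x) = x := fun x => by rw [← mul_assoc, ha, one_mul]
  have bb : ∀ x, b * (b * x) = x := fun x => by rw [← mul_assoc, hb, one_mul]
  have hab' : a * (b * a) = b * (a * b) := by simpa [mul_assoc] using hab
  let S : Finset K := {1, a, b, a * b, b * a, a * (b * a)}
  have hA : ∀ x ∈ S, a * x ∈ S := by
    intro x hx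
    simp only [S, Finset.mem_insert, Finset.mem_singleton] at hx ⊢
    rcases hx with rfl | rfl | rfl | rfl | rfl | rfl <;>
      simp only [mul_one, ha, aa, true_or, or_true]
  have hB : ∀ x ∈ S, b * x ∈ S := by
    intro x hx
    simp only [S, Finset.mem_insert, Finset.mem_singleton] at hx ⊢
    rcases hx with rfl | rfl | rfl | rfl | rfl | rfl
    · simp only [mul_one, true_or, or_true]
    · simp only [true_or, or_true]
    · simp only [hb, true_or, or_true]
    · rw [← hab']; simp only [true_or, or_true]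
    · simp only [bb, true_or, or_true]
    · rw [hab', bb]; simp only [true_or, or_true]
  have hall : ∀ x : K, x ∈ S := by
    intro x
    have hx : x ∈ Subgroup.closure ({a, b} : Set K) := hgen ▸ Subgroup.mem_top x
    induction hx using Subgroup.closure_induction_left with
    | one => simp [S]
    | mul_left y hy x _ ih =>
      rcases hy with rfl | rfl
      · exact hA x ih
      · exact hB x ih
    | inv_mul_cancel y hy x _ ih =>
      rcases hy with rfl | rfl
      · rw [hai]; exact hA x ih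
      · rw [hbi]; exact hB x ih
  calc Nat.card K ≤ Nat.card S :=
        Nat.card_le_card_of_injective (fun x => (⟨x, hall x⟩ : S)) fun x y e => congrArg Subtype.val e
    _ = S.card := Nat.card_eq_finsetCard S
    _ ≤ 6 := Finset.card_le_six

theorem perm3_two_subgroup : ∀ x : Equiv.Perm (Fin 3), x * x = 1 →
    (∀ y : Equiv.Perm (Fin 3), (y * x * y⁻¹ * x) * (y * x * y⁻¹ * x) = 1) → x = 1 := by decide +kernel

theorem perm3_surj : ∀ π : Equiv.Perm (Fin 3),
    π = 1 ∨ π = Equiv.swap 1 2 ∨ π = Equiv.swap 0 2 ∨ π = Equiv.swap 1 2 * Equiv.swap 0 2 ∨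
      π = Equiv.swap 0 2 * Equiv.swap 1 2 ∨
        π = Equiv.swap 1 2 * Equiv.swap 0 2 * Equiv.swap 1 2 := by decide

/-- The data: `P` is the conjugate of `Q` attached to the conjugate `s ≠ z` of `z`, with `s ∈ Q` and
`z ∈ P`. It is symmetric in `(Q, z)` and `(P, s)`. -/
structure PairData (Q P : Subgroup G) (z s : G) : Prop where
  sub : IsZSub Q z
  subP : IsZSub P s
  mem : s ∈ Q
  z_mem : z ∈ P
  ne : s ≠ z
  conj : ∃ g, g * z * g⁻¹ = s ∧ Q.map (MulAut.conj g).toMonoidHom = P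

/-- The data from a conjugate of `z` in `Q`. -/
theorem pairData_of_mem [Finite G] {Q : Subgroup G} {z g : G} (h : IsZSub Q z)
    (hcard : 9 ≤ Nat.card Q) (hs : g * z * g⁻¹ ∈ Q) (hne : g * z * g⁻¹ ≠ z) :
    PairData Q (Q.map (MulAut.conj g).toMonoidHom) z (g * z * g⁻¹) :=
  ⟨h, h.conj g, hs, h.mem_of_conj_mem hcard hs hne, hne, g, rfl, rfl⟩

namespace PairData

variable {Q P : Subgroup G} {z s : G}

/-- The subgroup `R = C_P(z) C_Q(s)`. -/
def R (_ : PairData Q P z s) : Subgroup G :=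
  (P ⊓ Subgroup.centralizer ({z} : Set G)) ⊔ (Q ⊓ Subgroup.centralizer ({s} : Set G))

theorem comm (d : PairData Q P z s) : s * z = z * s := d.sub.z_comm d.mem

theorem swap (d : PairData Q P z s) : PairData P Q s z := by
  refine ⟨d.subP, d.sub, d.z_mem, d.mem, d.ne.symm, ?_⟩
  obtain ⟨g, hg, hgP⟩ := d.conj
  refine ⟨g⁻¹, by rw [← hg]; group, ?_⟩
  rw [← hgP]
  ext x
  simp [Subgroup.mem_map, mul_assoc]

theorem swap_R (d : PairData Q P z s) : d.swap.R = d.R := sup_comm _ _

theorem R_le_C (d : PairData Q P z s) : d.R ≤ Subgroup.centralizer ({z, s} : Set G) := by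
  refine sup_le ?_ ?_ <;> rintro x ⟨hx, hxc⟩ <;> simp only [Subgroup.mem_toSubmonoid, SetLike.mem_coe] at hx hxc <;>
    rw [Subgroup.mem_centralizer_singleton_iff] at hxc <;> rw [Subgroup.mem_centralizer_iff] <;>
    rintro y (rfl | rfl)
  · exact hxc.symm
  · exact (d.subP.z_comm hx).symm
  · exact (d.sub.z_comm hx).symm
  · exact hxc.symm

theorem conj_mem_R (d : PairData Q P z s) {q x : G} (hq : q ∈ Q) (hx : x ∈ d.R) :
    q * x * q⁻¹ ∈ d.R := by
  have hle : d.R ≤ d.R.comap (MulAut.conj q).toMonoidHom := by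
    refine sup_le ?_ ?_ <;> rintro x ⟨hx, hxc⟩ <;> simp only [Subgroup.mem_toSubmonoid, SetLike.mem_coe] at hx hxc <;>
      rw [Subgroup.mem_centralizer_singleton_iff] at hxc <;>
      simp only [Subgroup.mem_comap, MulEquiv.coe_toMonoidHom, MulAut.conj_apply]
    · have hm : q * x * q⁻¹ * x⁻¹ ∈ Q ⊓ Subgroup.centralizer ({s} : Set G) := by
        refine ⟨?_, Subgroup.mem_centralizer_singleton_iff.mpr ?_⟩
        · have := Q.mul_mem hq (d.sub.conj_mem hxc (Q.inv_mem hq))
          simpa [mul_assoc] using this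
        · have hxs : Commute x s := d.subP.z_comm hx
          have h1 : Commute (q * x * q⁻¹) (q * s * q⁻¹) := (Commute.conj_iff q).mpr hxs
          have h2 : Commute (q * x * q⁻¹) z := by
            have := (Commute.conj_iff q).mpr (show Commute x z from hxc)
            rwa [mul_inv_eq_iff_eq_mul.mpr (d.sub.z_comm hq)] at this
          have h3 : Commute (q * x * q⁻¹) s := by
            rcases d.sub.conj_eq hq d.mem with e | e
            · rwa [e] at h1
            · rw [e] at h1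
              have := h2.mul_right h1
              rwa [← mul_assoc, d.sub.mul_self, one_mul] at this
          exact (h3.mul_left hxs.inv_left).eq
      have h2 : x ∈ d.R := Subgroup.mem_sup_left ⟨hx, Subgroup.mem_centralizer_singleton_iff.mpr hxc⟩
      have := mul_mem (show q * x * q⁻¹ * x⁻¹ ∈ d.R from Subgroup.mem_sup_right hm) h2
      rwa [inv_mul_cancel_right] at this
    · refine Subgroup.mem_sup_right ⟨Q.mul_mem (Q.mul_mem hq hx) (Q.inv_mem hq),
        Subgroup.mem_centralizer_singleton_iff.mpr ?_⟩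
      rcases d.sub.conj_eq hq hx with e | e <;> rw [e]
      · exact hxc
      · exact ((show Commute z s from d.comm.symm).mul_left hxc).eq
  exact hle hx

theorem conj_mem_R' (d : PairData Q P z s) {p x : G} (hp : p ∈ P) (hx : x ∈ d.R) :
    p * x * p⁻¹ ∈ d.R :=
  d.swap_R ▸ d.swap.conj_mem_R hp (d.swap_R.symm ▸ hx)

theorem X_le_normalizer_R (d : PairData Q P z s) :
    Q ⊔ P ≤ Subgroup.normalizer (d.R : Set G) := by
  refine sup_le ?_ ?_ <;> intro q hq <;> rw [Subgroup.mem_normalizer_iff] <;> intro x <;>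
    refine ⟨fun hx => ?_, fun hx => ?_⟩
  · exact d.conj_mem_R hq hx
  · have := d.conj_mem_R (Q.inv_mem hq) hx
    simpa [mul_assoc] using this
  · exact d.conj_mem_R' hq hx
  · have := d.conj_mem_R' (inv_mem hq) hx
    simpa [mul_assoc] using this

theorem z_mem_R (d : PairData Q P z s) : z ∈ d.R :=
  Subgroup.mem_sup_left ⟨d.z_mem, Subgroup.mem_centralizer_singleton_iff.mpr rfl⟩

theorem s_mem_R (d : PairData Q P z s) : s ∈ d.R :=
  Subgroup.mem_sup_right ⟨d.mem, Subgroup.mem_centralizer_singleton_iff.mpr rfl⟩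

theorem sq_mem_R (d : PairData Q P z s) {q : G} (hq : q ∈ Q) : q * q ∈ d.R := by
  rcases d.sub.sq_eq hq with e | e <;> rw [e]
  · exact one_mem _
  · exact d.z_mem_R

theorem sq_mem_R' (d : PairData Q P z s) {p : G} (hp : p ∈ P) : p * p ∈ d.R :=
  d.swap_R ▸ d.swap.sq_mem_R hp

/-- The three involutions of `⟨z, s⟩`. -/
def v (_ : PairData Q P z s) : Fin 3 → G := ![z, s, z * s]

theorem v_injective (d : PairData Q P z s) : Function.Injective d.v := by
  have h1 := d.sub.ne_one
  have h2 := d.subP.ne_one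
  intro i j hij
  fin_cases i <;> fin_cases j <;>
    simp only [Nat.reduceAdd, Fin.zero_eta, Fin.mk_one, Fin.reduceFinMk, v, Matrix.cons_val_zero,
      Matrix.cons_val_one, Matrix.cons_val, Fin.isValue] at hij ⊢
  · exact absurd hij.symm d.ne
  · exact absurd (mul_eq_left.mp hij.symm) h2
  · exact absurd hij d.ne
  · exact absurd (mul_eq_right.mp hij.symm) h1
  · exact absurd (mul_eq_left.mp hij) h2
  · exact absurd (mul_eq_right.mp hij) h1

theorem mem_V (d : PairData Q P z s) {x : G} :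
    x ∈ Subgroup.closure ({z, s} : Set G) ↔ x = 1 ∨ ∃ i, d.v i = x := by
  have hz2 := d.sub.mul_self
  have hs2 := d.subP.mul_self
  have hc : s * z = z * s := d.comm
  constructor
  · intro hx
    have hS : ∀ i, d.v i * z = 1 ∨ ∃ j, d.v j = d.v i * z := by
      intro i; fin_cases i
      · left; simpa [v] using hz2
      · exact Or.inr ⟨2, by simp [v, hc]⟩
      · exact Or.inr ⟨1, by simp only [v]; simp [mul_assoc, hc]; rw [← mul_assoc, hz2, one_mul]⟩
    have hT : ∀ i, d.v i * s = 1 ∨ ∃ j, d.v j = d.v i * s := by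
      intro i; fin_cases i
      · exact Or.inr ⟨2, by simp [v]⟩
      · left; simpa [v] using hs2
      · exact Or.inr ⟨0, by simp [v]; rw [mul_assoc, hs2, mul_one]⟩
    induction hx using Subgroup.closure_induction_right with
    | one => left; rfl
    | mul_right x _ y hy ih =>
      rcases hy with rfl | rfl <;> rcases ih with rfl | ⟨i, rfl⟩
      · exact Or.inr ⟨0, by simp [v]⟩
      · exact hS i
      · exact Or.inr ⟨1, by simp [v]⟩
      · exact hT i
    | mul_inv_cancel x _ y hy ih =>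
      rcases hy with rfl | rfl <;> rcases ih with rfl | ⟨i, rfl⟩
      · exact Or.inr ⟨0, by simp [v, inv_eq_self_of_two d.sub.two]⟩
      · rw [inv_eq_self_of_two d.sub.two]; exact hS i
      · exact Or.inr ⟨1, by rw [one_mul, inv_eq_self_of_two d.subP.two]; rfl⟩
      · rw [inv_eq_self_of_two d.subP.two]; exact hT i
  · have m1 : z ∈ Subgroup.closure ({z, s} : Set G) := Subgroup.subset_closure (by simp)
    have m2 : s ∈ Subgroup.closure ({z, s} : Set G) := Subgroup.subset_closure (by simp)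
    rintro (rfl | ⟨i, rfl⟩)
    · exact one_mem _
    · fin_cases i <;> simp [v, m1, m2, mul_mem m1 m2]

/-- The action of `N(V)` on the three involutions. -/
theorem exists_hom (d : PairData Q P z s) :
    ∃ φ : ↥(Subgroup.normalizer ((Subgroup.closure ({z, s} : Set G) : Subgroup G) : Set G)) →*
      Equiv.Perm (Fin 3), ∀ a i, d.v (φ a i) = (a : G) * d.v i * (a : G)⁻¹ := by
  set N := Subgroup.normalizer ((Subgroup.closure ({z, s} : Set G) : Subgroup G) : Set G)
  have hex : ∀ (a : N) i, ∃ j, d.v j = (a : G) * d.v i * (a : G)⁻¹ := by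
    intro a i
    have hm := (Subgroup.mem_normalizer_iff.mp a.2 (d.v i)).mp (d.mem_V.mpr (Or.inr ⟨i, rfl⟩))
    refine (d.mem_V.mp hm).resolve_left fun e => ?_
    rw [conj_eq_one_iff] at e
    fin_cases i
    · exact d.sub.ne_one (by simpa [v] using e)
    · exact d.subP.ne_one (by simpa [v] using e)
    · have e' : z * s = 1 := by simpa [v] using e
      exact d.ne (inv_eq_of_mul_eq_one_right e' ▸ inv_eq_self_of_two d.sub.two)
  choose f hf using hex
  have hmul : ∀ a b i, f (a * b) i = f a (f b i) := by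
    intro a b i
    apply d.v_injective
    rw [hf, hf, hf, Subgroup.coe_mul]; group
  have hone : ∀ i, f 1 i = i := fun i => d.v_injective (by rw [hf]; simp)
  exact ⟨{ toFun := fun a => ⟨f a, f a⁻¹, fun i => by rw [← hmul, inv_mul_cancel, hone],
              fun i => by rw [← hmul, mul_inv_cancel, hone]⟩
           map_one' := Equiv.ext hone
           map_mul' := fun a b => Equiv.ext (hmul a b) }, hf⟩

theorem mem_normalizer_V (d : PairData Q P z s) {a : G}
    (h : ∀ i, ∃ j, d.v j = a * d.v i * a⁻¹) :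
    a ∈ Subgroup.normalizer ((Subgroup.closure ({z, s} : Set G) : Subgroup G) : Set G) := by
  choose f hf using h
  have hinj : Function.Injective f := fun i j e => d.v_injective (by
    have := (hf i).symm.trans (e ▸ hf j)
    exact mul_left_cancel (mul_right_cancel this))
  have hsurj : Function.Surjective f := Finite.injective_iff_surjective.mp hinj
  rw [Subgroup.mem_normalizer_iff]
  intro x
  rw [d.mem_V, d.mem_V]
  constructor
  · rintro (rfl | ⟨i, rfl⟩)
    · left; simp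
    · exact Or.inr ⟨f i, hf i⟩
  · rintro (h | ⟨j, hj⟩)
    · exact Or.inl (conj_eq_one_iff.mp h)
    · obtain ⟨i, rfl⟩ := hsurj j
      exact Or.inr ⟨i, mul_left_cancel (mul_right_cancel ((hf i).symm.trans hj))⟩

theorem C_le_normalizer_V (d : PairData Q P z s) :
    Subgroup.centralizer ({z, s} : Set G) ≤
      Subgroup.normalizer ((Subgroup.closure ({z, s} : Set G) : Subgroup G) : Set G) := by
  rw [← Subgroup.centralizer_closure]
  exact Subgroup.centralizer_le_normalizer _

theorem Q_le_normalizer_V (d : PairData Q P z s) :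
    Q ≤ Subgroup.normalizer ((Subgroup.closure ({z, s} : Set G) : Subgroup G) : Set G) := by
  intro q hq
  refine d.mem_normalizer_V fun i => ?_
  have e0 : q * z * q⁻¹ = z := mul_inv_eq_iff_eq_mul.mpr (d.sub.z_comm hq)
  have e2 : q * (z * s) * q⁻¹ = z * (q * s * q⁻¹) := by
    rw [show q * (z * s) * q⁻¹ = (q * z * q⁻¹) * (q * s * q⁻¹) from by group, e0]
  rcases d.sub.conj_eq hq d.mem with e | e
  · rw [e] at e2
    fin_cases i
    exacts [⟨0, e0.symm⟩, ⟨1, e.symm⟩, ⟨2, e2.symm⟩]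
  · rw [e, ← mul_assoc z z s, d.sub.mul_self, one_mul] at e2
    fin_cases i
    exacts [⟨0, e0.symm⟩, ⟨2, e.symm⟩, ⟨1, e2.symm⟩]

theorem P_le_normalizer_V (d : PairData Q P z s) :
    P ≤ Subgroup.normalizer ((Subgroup.closure ({z, s} : Set G) : Subgroup G) : Set G) := by
  have := d.swap.Q_le_normalizer_V
  rwa [Set.pair_comm] at this

/-- Two elements generating `X` modulo `R`, with their actions. -/
theorem generators (d : PairData Q P z s) :
    ∃ q p : G, q ∈ Q ∧ p ∈ P ∧ q * s * q⁻¹ = z * s ∧ p * z * p⁻¹ = z * s ∧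
      (∀ x ∈ Q, x ∈ d.R ∨ q⁻¹ * x ∈ d.R) ∧ ∀ x ∈ P, x ∈ d.R ∨ p⁻¹ * x ∈ d.R := by
  obtain ⟨q, hq, hqs⟩ := d.sub.exists_not_commute d.subP.ne_one d.ne
  obtain ⟨p, hp, hpz⟩ := d.subP.exists_not_commute d.sub.ne_one d.ne.symm
  refine ⟨q, p, hq, hp, d.sub.conj_of_not_commute hq d.mem hqs,
    (d.subP.conj_of_not_commute hp d.z_mem hpz).trans d.comm, fun x hx => ?_, fun x hx => ?_⟩
  · by_cases hxs : x * s = s * x
    · exact Or.inl (Subgroup.mem_sup_right ⟨hx, Subgroup.mem_centralizer_singleton_iff.mpr hxs⟩)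
    · exact Or.inr (Subgroup.mem_sup_right ⟨Q.mul_mem (Q.inv_mem hq) hx,
        Subgroup.mem_centralizer_singleton_iff.mpr (d.sub.inv_mul_commute hx hq d.mem hxs hqs)⟩)
  · by_cases hxz : x * z = z * x
    · exact Or.inl (Subgroup.mem_sup_left ⟨hx, Subgroup.mem_centralizer_singleton_iff.mpr hxz⟩)
    · exact Or.inr (Subgroup.mem_sup_left ⟨P.mul_mem (P.inv_mem hp) hx,
        Subgroup.mem_centralizer_singleton_iff.mpr (d.subP.inv_mul_commute hx hp d.z_mem hxz hpz)⟩)

/-- The braid relation modulo `R`. -/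
theorem braid (d : PairData Q P z s) {q p : G} (hq : q ∈ Q) (hp : p ∈ P)
    (hqs : q * s * q⁻¹ = z * s) (hpz : p * z * p⁻¹ = z * s) :
    (q * p * q⁻¹)⁻¹ * (p * q * p⁻¹) ∈ d.R := by
  obtain ⟨g, hg, hgP⟩ := d.conj
  have hmap : Q.map (MulAut.conj p).toMonoidHom = Q.map (MulAut.conj (q * g)).toMonoidHom :=
    d.sub.map_conj_eq (by rw [hpz, ← hqs, ← hg]; group)
  obtain ⟨a, ha⟩ : ∃ a, a = q⁻¹ * (p * q * p⁻¹) * q := ⟨_, rfl⟩
  have haP : a ∈ P := by
    have h1 : p * q * p⁻¹ ∈ Q.map (MulAut.conj (q * g)).toMonoidHom := hmap ▸ ⟨q, hq, by simp⟩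
    obtain ⟨u, hu, hu'⟩ := h1
    rw [← hgP]
    refine ⟨u, hu, ?_⟩
    rw [ha, ← hu']
    simp only [MulEquiv.coe_toMonoidHom, MulAut.conj_apply]
    group
  have hqz : q * z * q⁻¹ = z := mul_inv_eq_iff_eq_mul.mpr (d.sub.z_comm hq)
  have hz2 := d.sub.mul_self
  have hs2 := d.subP.mul_self
  have hps : p * s * p⁻¹ = s := mul_inv_eq_iff_eq_mul.mpr (d.subP.z_comm hp)
  -- `a` moves `z`
  have haz : a * z ≠ z * a := by
    intro hh
    have h1 : a * z * a⁻¹ = z := mul_inv_eq_iff_eq_mul.mpr hh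
    have h2 : (p * q * p⁻¹) * z * (p * q * p⁻¹)⁻¹ = z := by
      calc (p * q * p⁻¹) * z * (p * q * p⁻¹)⁻¹
          = (p * q * p⁻¹) * (q * z * q⁻¹) * (p * q * p⁻¹)⁻¹ := by rw [hqz]
        _ = q * (a * z * a⁻¹) * q⁻¹ := by rw [ha]; group
        _ = z := by rw [h1, hqz]
    have hpi : p⁻¹ * z * p = z * s := by
      calc p⁻¹ * z * p = p⁻¹ * ((z * s) * s) * p := by rw [mul_assoc z, hs2, mul_one]
        _ = p⁻¹ * ((p * z * p⁻¹) * (p * s * p⁻¹)) * p := by rw [hpz, hps]
        _ = z * s := by group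
    have h3 : (p * q * p⁻¹) * z * (p * q * p⁻¹)⁻¹ = s := by
      calc (p * q * p⁻¹) * z * (p * q * p⁻¹)⁻¹ = p * (q * (p⁻¹ * z * p) * q⁻¹) * p⁻¹ := by group
        _ = p * ((q * z * q⁻¹) * (q * s * q⁻¹)) * p⁻¹ := by rw [hpi]; group
        _ = p * s * p⁻¹ := by rw [hqz, hqs, ← mul_assoc z z s, hz2, one_mul]
        _ = s := hps
    exact d.ne (h3.symm.trans h2)
  have hpz' : p * z ≠ z * p := by
    intro hh
    rw [mul_inv_eq_iff_eq_mul.mpr hh] at hpz
    exact d.subP.ne_one (mul_eq_left.mp hpz.symm)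
  have hm : p⁻¹ * a ∈ d.R := Subgroup.mem_sup_left ⟨P.mul_mem (P.inv_mem hp) haP,
    Subgroup.mem_centralizer_singleton_iff.mpr (d.subP.inv_mul_commute haP hp d.z_mem haz hpz')⟩
  have := d.conj_mem_R hq hm
  rwa [show q * (p⁻¹ * a) * q⁻¹ = (q * p * q⁻¹)⁻¹ * (p * q * p⁻¹) from by rw [ha]; group] at this

theorem R_le_X (d : PairData Q P z s) : d.R ≤ Q ⊔ P :=
  sup_le (inf_le_left.trans le_sup_right) (inf_le_left.trans le_sup_left)

theorem X_le_normalizer_V (d : PairData Q P z s) :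
    Q ⊔ P ≤ Subgroup.normalizer ((Subgroup.closure ({z, s} : Set G) : Subgroup G) : Set G) :=
  sup_le d.Q_le_normalizer_V d.P_le_normalizer_V

theorem hom_ker (d : PairData Q P z s)
    (φ : ↥(Subgroup.normalizer ((Subgroup.closure ({z, s} : Set G) : Subgroup G) : Set G)) →*
      Equiv.Perm (Fin 3)) (hφ : ∀ a i, d.v (φ a i) = (a : G) * d.v i * (a : G)⁻¹) :
    ∀ a, φ a = 1 ↔ (a : G) ∈ Subgroup.centralizer ({z, s} : Set G) := by
  intro a
  constructor
  · intro h
    have hz : ∀ i, (a : G) * d.v i = d.v i * a := fun i => by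
      have := hφ a i
      rw [h, Equiv.Perm.one_apply] at this
      exact mul_inv_eq_iff_eq_mul.mp this.symm
    rw [Subgroup.mem_centralizer_iff]
    rintro y (rfl | rfl)
    · exact (hz 0).symm
    · exact (hz 1).symm
  · intro h
    rw [Subgroup.mem_centralizer_iff] at h
    have h0 : Commute (a : G) z := (h z (by simp)).symm
    have h1 : Commute (a : G) s := (h s (by simp)).symm
    refine Equiv.ext fun i => d.v_injective ?_
    rw [hφ, Equiv.Perm.one_apply]
    fin_cases i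
    exacts [mul_inv_eq_iff_eq_mul.mpr h0, mul_inv_eq_iff_eq_mul.mpr h1,
      mul_inv_eq_iff_eq_mul.mpr (h0.mul_right h1)]

/-- The restriction of the action to `X` induces an isomorphism `X / R ≃ S₃`. -/
theorem main [Finite G] (d : PairData Q P z s) :
    d.R = (Q ⊔ P) ⊓ Subgroup.centralizer ({z, s} : Set G) ∧
    (∃ _ : (d.R.subgroupOf (Q ⊔ P)).Normal,
      Nonempty (↥(Q ⊔ P) ⧸ d.R.subgroupOf (Q ⊔ P) ≃* Equiv.Perm (Fin 3))) ∧
    ∃ φ : ↥(Subgroup.normalizer ((Subgroup.closure ({z, s} : Set G) : Subgroup G) : Set G)) →*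
      Equiv.Perm (Fin 3), (∀ a i, d.v (φ a i) = (a : G) * d.v i * (a : G)⁻¹) ∧
      ∀ π, ∃ a : ↥(Subgroup.normalizer ((Subgroup.closure ({z, s} : Set G) : Subgroup G) : Set G)),
        (a : G) ∈ Q ⊔ P ∧ φ a = π := by
  obtain ⟨φ, hφ⟩ := d.exists_hom
  obtain ⟨q, p, hq, hp, hqs, hpz, hQgen, hPgen⟩ := d.generators
  set X := Q ⊔ P
  have hXN := d.X_le_normalizer_V
  set ψ : ↥X →* Equiv.Perm (Fin 3) := φ.comp (Subgroup.inclusion hXN) with hψ
  have hqX : q ∈ X := Subgroup.mem_sup_left hq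
  have hpX : p ∈ X := Subgroup.mem_sup_right hp
  have hqz : q * z * q⁻¹ = z := mul_inv_eq_iff_eq_mul.mpr (d.sub.z_comm hq)
  have hps : p * s * p⁻¹ = s := mul_inv_eq_iff_eq_mul.mpr (d.subP.z_comm hp)
  have hv : ∀ (x : ↥X) i, d.v (ψ x i) = (x : G) * d.v i * (x : G)⁻¹ := fun x i => hφ _ i
  have hψq : ψ ⟨q, hqX⟩ = Equiv.swap 1 2 := by
    refine Equiv.ext fun i => d.v_injective ?_
    rw [hv]
    fin_cases i
    · show q * z * q⁻¹ = d.v (Equiv.swap 1 2 0)
      rw [hqz]; rfl
    · show q * s * q⁻¹ = d.v (Equiv.swap 1 2 1)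
      rw [hqs]; rfl
    · show q * (z * s) * q⁻¹ = d.v (Equiv.swap 1 2 2)
      rw [show q * (z * s) * q⁻¹ = (q * z * q⁻¹) * (q * s * q⁻¹) from by group, hqz, hqs,
        ← mul_assoc z z s, d.sub.mul_self, one_mul]; rfl
  have hψp : ψ ⟨p, hpX⟩ = Equiv.swap 0 2 := by
    refine Equiv.ext fun i => d.v_injective ?_
    rw [hv]
    fin_cases i
    · show p * z * p⁻¹ = d.v (Equiv.swap 0 2 0)
      rw [hpz]; rfl
    · show p * s * p⁻¹ = d.v (Equiv.swap 0 2 1)
      rw [hps]; rfl
    · show p * (z * s) * p⁻¹ = d.v (Equiv.swap 0 2 2)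
      rw [show p * (z * s) * p⁻¹ = (p * z * p⁻¹) * (p * s * p⁻¹) from by group, hpz, hps,
        mul_assoc, d.subP.mul_self, mul_one]; rfl
  have hsurj : Function.Surjective ψ := by
    intro π
    rcases perm3_surj π with e | e | e | e | e | e <;> subst e
    · exact ⟨1, map_one ψ⟩
    · exact ⟨_, hψq⟩
    · exact ⟨_, hψp⟩
    · exact ⟨⟨q, hqX⟩ * ⟨p, hpX⟩, by rw [map_mul, hψq, hψp]⟩
    · exact ⟨⟨p, hpX⟩ * ⟨q, hqX⟩, by rw [map_mul, hψq, hψp]⟩
    · exact ⟨⟨q, hqX⟩ * ⟨p, hpX⟩ * ⟨q, hqX⟩, by rw [map_mul, map_mul, hψq, hψp]⟩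
  set R' := d.R.subgroupOf X with hR'
  have hN : R'.Normal :=
    (Subgroup.normal_subgroupOf_iff_le_normalizer d.R_le_X).mpr d.X_le_normalizer_R
  have hle : R' ≤ ψ.ker := by
    intro x hx
    rw [MonoidHom.mem_ker]
    exact (d.hom_ker φ hφ _).mpr (d.R_le_C hx)
  set ψ' := QuotientGroup.lift R' ψ hle with hψ'
  have hsurj' : Function.Surjective ψ' := fun π => by
    obtain ⟨x, hx⟩ := hsurj π
    exact ⟨QuotientGroup.mk x, hx⟩
  set A : ↥X ⧸ R' := QuotientGroup.mk ⟨q, hqX⟩ with hA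
  set B : ↥X ⧸ R' := QuotientGroup.mk ⟨p, hpX⟩ with hB
  have hAA : A * A = 1 := by
    rw [hA, ← QuotientGroup.mk_mul, QuotientGroup.eq_one_iff]
    exact d.sq_mem_R hq
  have hBB : B * B = 1 := by
    rw [hB, ← QuotientGroup.mk_mul, QuotientGroup.eq_one_iff]
    exact d.sq_mem_R' hp
  have hbr : A * B * A = B * A * B := by
    have h1 : (A * B * A⁻¹) = B * A * B⁻¹ := by
      rw [hA, hB, ← QuotientGroup.mk_inv, ← QuotientGroup.mk_inv, ← QuotientGroup.mk_mul,
        ← QuotientGroup.mk_mul, ← QuotientGroup.mk_mul, ← QuotientGroup.mk_mul, QuotientGroup.eq]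
      exact d.braid hq hp hqs hpz
    rwa [inv_eq_of_mul_eq_one_right hAA, inv_eq_of_mul_eq_one_right hBB] at h1
  have hgen : Subgroup.closure ({A, B} : Set (↥X ⧸ R')) = ⊤ := by
    set K := Subgroup.closure ({A, B} : Set (↥X ⧸ R')) with hK
    have key : X ≤ (K.comap (QuotientGroup.mk' R')).map X.subtype := by
      have hq' : ∀ x, ∀ hx : x ∈ X, (x ∈ d.R ∨ q⁻¹ * x ∈ d.R) →
          (QuotientGroup.mk' R' ⟨x, hx⟩) ∈ K := by
        intro x hx h
        rcases h with h | h
        · rw [show QuotientGroup.mk' R' ⟨x, hx⟩ = 1 from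
            (QuotientGroup.eq_one_iff _).mpr (by simpa [hR', Subgroup.mem_subgroupOf] using h)]
          exact one_mem _
        · rw [show QuotientGroup.mk' R' ⟨x, hx⟩ = A from
            ((QuotientGroup.eq (s := R') (a := (⟨q, hqX⟩ : ↥X)) (b := ⟨x, hx⟩)).mpr h).symm]
          exact Subgroup.subset_closure (by simp)
      have hp' : ∀ x, ∀ hx : x ∈ X, (x ∈ d.R ∨ p⁻¹ * x ∈ d.R) →
          (QuotientGroup.mk' R' ⟨x, hx⟩) ∈ K := by
        intro x hx h
        rcases h with h | h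
        · rw [show QuotientGroup.mk' R' ⟨x, hx⟩ = 1 from
            (QuotientGroup.eq_one_iff _).mpr (by simpa [hR', Subgroup.mem_subgroupOf] using h)]
          exact one_mem _
        · rw [show QuotientGroup.mk' R' ⟨x, hx⟩ = B from
            ((QuotientGroup.eq (s := R') (a := (⟨p, hpX⟩ : ↥X)) (b := ⟨x, hx⟩)).mpr h).symm]
          exact Subgroup.subset_closure (by simp)
      refine sup_le (fun x hx => ⟨⟨x, Subgroup.mem_sup_left hx⟩, ?_, rfl⟩)
        (fun x hx => ⟨⟨x, Subgroup.mem_sup_right hx⟩, ?_, rfl⟩)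
      · exact hq' x _ (hQgen x hx)
      · exact hp' x _ (hPgen x hx)
    rw [eq_top_iff]
    intro w _
    induction w using QuotientGroup.induction_on with
    | H x =>
      obtain ⟨y, hy, hyx⟩ := key x.2
      rw [show x = y from Subtype.ext hyx.symm]
      exact hy
  have hcard : Nat.card (↥X ⧸ R') ≤ 6 := card_le_six_of_braid hAA hBB hbr hgen
  have hbij : Function.Bijective ψ' := by
    refine (Nat.bijective_iff_surjective_and_card _).mpr ⟨hsurj', ?_⟩
    have h6 : Nat.card (Equiv.Perm (Fin 3)) = 6 := by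
      rw [Nat.card_eq_fintype_card, Fintype.card_perm]; rfl
    rw [h6]
    have := Nat.card_le_card_of_surjective ψ' hsurj'
    omega
  refine ⟨le_antisymm (le_inf d.R_le_X d.R_le_C) ?_, ⟨hN, ⟨MulEquiv.ofBijective ψ' hbij⟩⟩,
    φ, hφ, fun π => ?_⟩
  · rintro x ⟨hxX, hxC⟩
    have h1 : ψ' (QuotientGroup.mk ⟨x, hxX⟩) = 1 := (d.hom_ker φ hφ _).mpr hxC
    rw [← map_one ψ'] at h1
    exact (QuotientGroup.eq_one_iff (⟨x, hxX⟩ : ↥X)).mp (hbij.injective h1)
  · obtain ⟨x, hx⟩ := hsurj π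
    exact ⟨_, x.2, hx⟩

theorem isPGroup_R (d : PairData Q P z s) : IsPGroup 2 d.R := by
  refine IsPGroup.to_sup_of_normal_right' (d.subP.extra.1.1.to_le inf_le_left)
    (d.sub.extra.1.1.to_le inf_le_left) ?_
  intro x hx
  obtain ⟨hx1, hx2⟩ := hx
  simp only [Subgroup.mem_toSubmonoid, SetLike.mem_coe] at hx1 hx2
  rw [Subgroup.mem_centralizer_singleton_iff] at hx2
  have hxs : Commute x s := d.subP.z_comm hx1
  have key : ∀ y : G, Commute y z → Commute y s → ∀ u ∈ Q ⊓ Subgroup.centralizer ({s} : Set G),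
      y * u * y⁻¹ ∈ Q ⊓ Subgroup.centralizer ({s} : Set G) := by
    rintro y hy1 hy2 u ⟨hu1, hu2⟩
    simp only [Subgroup.mem_toSubmonoid, SetLike.mem_coe] at hu1 hu2
    rw [Subgroup.mem_centralizer_singleton_iff] at hu2
    refine ⟨d.sub.conj_mem hy1 hu1, Subgroup.mem_centralizer_singleton_iff.mpr ?_⟩
    exact ((hy2.mul_left hu2).mul_left hy2.inv_left).eq
  rw [Subgroup.mem_normalizer_iff]
  refine fun u => ⟨key x hx2 hxs u, fun hu => ?_⟩
  have := key x⁻¹ (show Commute x z from hx2).inv_left hxs.inv_left _ hu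
  simpa [mul_assoc] using this

theorem R_eq_pCore [Finite G] (d : PairData Q P z s) :
    d.R = (Cfsg.pCore 2 ↥(Q ⊔ P)).map (Q ⊔ P).subtype := by
  obtain ⟨hRC, ⟨hN, ⟨e⟩⟩, -⟩ := d.main
  apply le_antisymm
  · intro x hx
    refine ⟨⟨x, d.R_le_X hx⟩, ?_, rfl⟩
    have hmem : d.R.subgroupOf (Q ⊔ P) ∈
        {N : Subgroup ↥(Q ⊔ P) | N.Normal ∧ IsPGroup 2 N} :=
      ⟨hN, d.isPGroup_R.of_equiv (Subgroup.subgroupOfEquivOfLe d.R_le_X).symm⟩
    exact le_sSup hmem hx
  · rintro _ ⟨x, hx, rfl⟩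
    haveI := pCore_normal' 2 ↥(Q ⊔ P)
    set f : ↥(Q ⊔ P) →* Equiv.Perm (Fin 3) :=
      e.toMonoidHom.comp (QuotientGroup.mk' (d.R.subgroupOf (Q ⊔ P))) with hf
    have hfsurj : Function.Surjective f := e.surjective.comp (QuotientGroup.mk'_surjective _)
    have hsq : ∀ y ∈ Cfsg.pCore 2 ↥(Q ⊔ P), f y * f y = 1 := by
      intro y hy
      obtain ⟨k, hk⟩ := isPGroup_pCore 2 ↥(Q ⊔ P) ⟨y, hy⟩
      have h1 : (f y) ^ (2 ^ k) = 1 := by
        rw [← map_pow]
        have := congrArg (fun t : ↥(Cfsg.pCore 2 ↥(Q ⊔ P)) => f (t : ↥(Q ⊔ P))) hk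
        simpa using this
      have hd : orderOf (f y) ∣ 2 := by
        have h2 : orderOf (f y) ∣ 2 * 3 := by
          have := orderOf_dvd_card (x := f y)
          rwa [Fintype.card_perm, Fintype.card_fin] at this
        have hc : (orderOf (f y)).Coprime 3 :=
          Nat.Coprime.coprime_dvd_left (orderOf_dvd_of_pow_eq_one h1) (Nat.Coprime.pow_left k (by norm_num))
        exact hc.dvd_of_dvd_mul_right h2
      rw [← sq]
      exact orderOf_dvd_iff_pow_eq_one.mp hd
    have h1 : f x = 1 := by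
      refine perm3_two_subgroup _ (hsq x hx) fun w => ?_
      obtain ⟨y, rfl⟩ := hfsurj w
      rw [← map_inv, ← map_mul, ← map_mul, ← map_mul]
      exact hsq _ (mul_mem (Subgroup.Normal.conj_mem inferInstance x hx y) hx)
    rw [hf, MonoidHom.comp_apply] at h1
    exact (QuotientGroup.eq_one_iff x).mp (e.injective (h1.trans (map_one e).symm))

end PairData

end CfsgLib.LargeExtraspecial
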