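import Cfsg.Prelude.Def_Solvable
import Cfsg.Prelude.Def_Transfer

/-! Large extraspecial 2-subgroups of involution centralisers: the properties used in the
elementary lemmas on singular subgroups. -/

set_option autoImplicit false

namespace CfsgLib.Singular

variable {G : Type*} [Group G]

/-- What is used of `Q u` for an involution `u`. -/
structure Large (Q : G → Subgroup G) (u : G) : Prop where
  ne : u ≠ 1
  sq : u * u = 1
  self_mem : u ∈ Q u
  cent : ∀ g : G, (∀ q ∈ Q u, g * q = q * g) → g = 1 ∨ g = u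
  comm : ∀ a ∈ Q u, ∀ b ∈ Q u, a * b = b * a ∨ a * b = u * (b * a)
  central : ∀ q ∈ Q u, q * u = u * q
  norm : ∀ c : G, c * u = u * c → ∀ q ∈ Q u, c * q * c⁻¹ ∈ Q u

variable {Q : G → Subgroup G} {u : G}

namespace Large

theorem inv_eq (h : Large Q u) : u⁻¹ = u := inv_eq_of_mul_eq_one_right h.sq

theorem comm_inv (h : Large Q u) {a b : G} (ha : a ∈ Q u) (hb : b ∈ Q u)
    (hab : a * b ≠ b * a) : a * b * a⁻¹ = b * u := by
  rw [(h.comm a ha b hb).resolve_left hab, h.central b hb, mul_assoc, mul_assoc, mul_inv_cancel,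
    mul_one]

theorem sq_mem (h : Large Q u) {a : G} (ha : a ∈ Q u) : a * a = 1 ∨ a * a = u := by
  refine h.cent _ fun b hb => ?_
  rcases h.comm a ha b hb with hab | hab
  · rw [mul_assoc, hab, ← mul_assoc, hab, mul_assoc]
  · calc a * a * b = a * (u * (b * a)) := by rw [mul_assoc, hab]
      _ = u * (a * b) * a := by rw [← mul_assoc, h.central a ha]; simp only [mul_assoc]
      _ = b * (a * a) := by rw [hab, ← mul_assoc u u, h.sq, one_mul, mul_assoc]

/-- Extension lemma: some element of `Q u` centralises `K` and moves `a` to `a u`. -/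
theorem exists_separate [Finite G] (h : Large Q u) :
    ∀ (K : Subgroup G), u ∈ K → K ≤ Q u → ∀ a ∈ Q u, a ∉ K →
      ∃ w ∈ Q u, (∀ k ∈ K, w * k = k * w) ∧ w * a ≠ a * w := by
  intro K
  induction hn : Nat.card K using Nat.strong_induction_on generalizing K with
  | _ n ih =>
    intro huK hKQ a ha haK
    by_cases hK : K ≤ Subgroup.zpowers u
    · by_contra hcon
      push Not at hcon
      have hcomm : ∀ w ∈ Q u, a * w = w * a := fun w hw => (hcon w hw fun k hk => by
        obtain ⟨i, rfl⟩ := Subgroup.mem_zpowers_iff.mp (hK hk)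
        exact (Commute.zpow_right (h.central w hw) i).eq).symm
      rcases h.cent a hcomm with rfl | rfl
      · exact haK K.one_mem
      · exact haK huK
    · obtain ⟨K0, hK0, hmax⟩ := (Set.toFinite {L : Subgroup G | u ∈ L ∧ L < K}).exists_maximal
        ⟨Subgroup.zpowers u, Subgroup.mem_zpowers u,
          lt_of_le_not_ge (Subgroup.zpowers_le.mpr huK) hK⟩
      obtain ⟨huK0, hlt⟩ := hK0
      obtain ⟨b, hbK, hbK0⟩ := SetLike.exists_of_lt hlt
      have hsup : K0 ⊔ Subgroup.zpowers b = K := by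
        rcases eq_or_lt_of_le (sup_le hlt.le (Subgroup.zpowers_le.mpr hbK)) with he | hl
        · exact he
        · exact absurd (hmax ⟨Subgroup.mem_sup_left huK0, hl⟩ le_sup_left
            (Subgroup.mem_sup_right (Subgroup.mem_zpowers b))) hbK0
      have hcard : Nat.card K0 < n := by
        rw [← hn]
        exact lt_of_le_of_ne (Subgroup.card_le_of_le hlt.le)
          fun e => hlt.ne (Subgroup.eq_of_le_of_card_ge hlt.le e.ge)
      have hfin : ∀ w, (∀ k ∈ K0, w * k = k * w) → w * b = b * w → ∀ k ∈ K, w * k = k * w := by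
        intro w h0 hb k hk
        have hle : K ≤ Subgroup.centralizer ({w} : Set G) := by
          rw [← hsup]
          exact sup_le (fun k hk => Subgroup.mem_centralizer_singleton_iff.mpr (h0 k hk).symm)
            (Subgroup.zpowers_le.mpr (Subgroup.mem_centralizer_singleton_iff.mpr hb.symm))
        exact (Subgroup.mem_centralizer_singleton_iff.mp (hle hk)).symm
      have hbQ := hKQ hbK
      obtain ⟨w1, hw1, hw10, hw1a⟩ := ih _ hcard K0 rfl huK0 (hlt.le.trans hKQ) a ha
        (fun hh => haK (hlt.le hh))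
      by_cases hw1b : w1 * b = b * w1
      · exact ⟨w1, hw1, hfin w1 hw10 hw1b, hw1a⟩
      have hab : a * b ∉ K0 := fun hh => haK (by simpa using K.mul_mem (hlt.le hh) (K.inv_mem hbK))
      obtain ⟨w2, hw2, hw20, hw2ab⟩ := ih _ hcard K0 rfl huK0 (hlt.le.trans hKQ) (a * b)
        ((Q u).mul_mem ha hbQ) hab
      by_cases hw2b : w2 * b = b * w2
      · refine ⟨w2, hw2, hfin w2 hw20 hw2b, fun e => hw2ab ?_⟩
        rw [← mul_assoc, e, mul_assoc, hw2b, mul_assoc]
      have e1b := (h.comm w1 hw1 b hbQ).resolve_left hw1b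
      have e2b := (h.comm w2 hw2 b hbQ).resolve_left hw2b
      have hw2a : w2 * a = a * w2 := by
        by_contra hne
        refine hw2ab ?_
        rw [← mul_assoc, (h.comm w2 hw2 a ha).resolve_left hne, mul_assoc u, mul_assoc a, e2b,
          ← mul_assoc a u, h.central a ha, mul_assoc u a, ← mul_assoc u u, h.sq, one_mul,
          mul_assoc]
      refine ⟨w1 * w2, (Q u).mul_mem hw1 hw2, hfin _ (fun k hk => ?_) ?_, fun e => hw1a ?_⟩
      · rw [mul_assoc, hw20 k hk, ← mul_assoc, hw10 k hk, mul_assoc]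
      · rw [mul_assoc, e2b, ← mul_assoc w1, h.central w1 hw1, mul_assoc u, ← mul_assoc w1 b, e1b,
          mul_assoc u (b * w1), ← mul_assoc u u, h.sq, one_mul, mul_assoc]
      · apply mul_right_cancel (b := w2)
        rw [mul_assoc w1 a, ← hw2a, ← mul_assoc, e, mul_assoc]

/-- An element inducing an inner-looking automorphism of `Q u` lies in `Q u`. -/
theorem mem_of_comm [Finite G] (h : Large Q u) {z : G} (hzu : z * u = u * z)
    (hz : ∀ q ∈ Q u, z * q = q * z ∨ z * q = u * (q * z)) : z ∈ Q u := by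
  by_cases hall : ∀ q ∈ Q u, z * q = q * z
  · rcases h.cent z hall with rfl | rfl
    · exact (Q u).one_mem
    · exact h.self_mem
  push Not at hall
  obtain ⟨a, ha, hza⟩ := hall
  let K : Subgroup G := Q u ⊓ Subgroup.centralizer ({z} : Set G)
  have hK : ∀ {k : G}, k ∈ K ↔ k ∈ Q u ∧ k * z = z * k := fun {k} => by
    simp only [K, Subgroup.mem_inf, Subgroup.mem_centralizer_singleton_iff]
  obtain ⟨w, hw, hwK, hwa⟩ := h.exists_separate K (hK.mpr ⟨h.self_mem, hzu.symm⟩) inf_le_left a ha
    (fun hh => hza (hK.mp hh).2.symm)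
  have ea := (hz a ha).resolve_left hza
  have ewa := (h.comm w hw a ha).resolve_left hwa
  have hall : ∀ q ∈ Q u, (w⁻¹ * z) * q = q * (w⁻¹ * z) := by
    have hbase : ∀ k ∈ K, (w⁻¹ * z) * k = k * (w⁻¹ * z) := by
      intro k hk
      rw [mul_assoc, ← (hK.mp hk).2, ← mul_assoc, ← mul_assoc,
        (Commute.inv_left (show Commute w k from hwK k hk)).eq]
    have haa : (w⁻¹ * z) * a = a * (w⁻¹ * z) := by
      rw [mul_assoc, ea, ← mul_assoc u, ← mul_assoc]
      have : w⁻¹ * (u * a) = a * w⁻¹ := by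
        rw [inv_mul_eq_iff_eq_mul, ← mul_assoc, ewa, mul_assoc u (a * w),
          mul_assoc a, mul_inv_cancel, mul_one]
      rw [this, mul_assoc]
    intro q hq
    rcases hz q hq with e | e
    · exact hbase q (hK.mpr ⟨hq, e.symm⟩)
    · have hk : a⁻¹ * q ∈ K := by
        refine hK.mpr ⟨(Q u).mul_mem ((Q u).inv_mem ha) hq, ?_⟩
        have ea' : z * a⁻¹ = u * (a⁻¹ * z) := by
          apply mul_right_cancel (b := a)
          rw [inv_mul_cancel_right, mul_assoc u, mul_assoc a⁻¹, ea,
            ← mul_assoc a⁻¹ u, h.central a⁻¹ ((Q u).inv_mem ha), mul_assoc u a⁻¹,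
            ← mul_assoc a⁻¹, inv_mul_cancel, one_mul, ← mul_assoc u u, h.sq, one_mul]
        rw [← mul_assoc z, ea', mul_assoc u, mul_assoc a⁻¹ z, e, ← mul_assoc a⁻¹ u,
          h.central a⁻¹ ((Q u).inv_mem ha), mul_assoc u a⁻¹, ← mul_assoc u u, h.sq, one_mul,
          mul_assoc a⁻¹]
      have := hbase _ hk
      calc (w⁻¹ * z) * q = ((w⁻¹ * z) * a) * (a⁻¹ * q) := by simp [mul_assoc]
        _ = a * ((w⁻¹ * z) * (a⁻¹ * q)) := by rw [haa, mul_assoc]
        _ = q * (w⁻¹ * z) := by rw [this, ← mul_assoc, mul_inv_cancel_left]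
  rcases h.cent _ hall with e | e
  · rw [inv_mul_eq_one] at e; exact e ▸ hw
  · rw [inv_mul_eq_iff_eq_mul] at e; exact e ▸ (Q u).mul_mem hw h.self_mem

end Large

/-- Transport to conjugates and verification from the hypotheses of the statements. -/
theorem map_pCore_le {H K : Type*} [Group H] [Group K] (p : ℕ) (f : H →* K)
    (hf : Function.Surjective f) : (Cfsg.pCore p H).map f ≤ Cfsg.pCore p K := by
  rw [Subgroup.map_le_iff_le_comap]
  refine sSup_le fun N hN => ?_
  rw [← Subgroup.map_le_iff_le_comap]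
  exact le_sSup ⟨Subgroup.Normal.map hN.1 f hf, hN.2.map f⟩

section

variable (Q)
variable (hQ : ∀ x : G,
  Q x = (Cfsg.pCore 2 ↥(Subgroup.centralizer ({x} : Set G))).map
    (Subgroup.centralizer ({x} : Set G)).subtype)

include hQ

theorem conj_mem (x g : G) {q : G} (hq : q ∈ Q x) : g * q * g⁻¹ ∈ Q (g * x * g⁻¹) := by
  rw [hQ] at hq ⊢
  obtain ⟨⟨q, hqC⟩, hq, rfl⟩ := hq
  let f : ↥(Subgroup.centralizer ({x} : Set G)) →* ↥(Subgroup.centralizer ({g * x * g⁻¹} : Set G)) :=
    ((MulAut.conj g).toMonoidHom.comp (Subgroup.centralizer ({x} : Set G)).subtype).codRestrict _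
      fun c => Subgroup.mem_centralizer_singleton_iff.mpr (by
        have hc : (c : G) * x = x * c := Subgroup.mem_centralizer_singleton_iff.mp c.2
        simp only [MonoidHom.coe_comp, Function.comp_apply, MulEquiv.toMonoidHom_eq_coe,
          MonoidHom.coe_coe, MulAut.conj_apply, Subgroup.coe_subtype, mul_assoc,
          inv_mul_cancel_left]
        rw [← mul_assoc (c : G), hc, mul_assoc])
  have hf : Function.Surjective f := by
    rintro ⟨y, hy⟩
    have hy' := Subgroup.mem_centralizer_singleton_iff.mp hy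
    refine ⟨⟨g⁻¹ * y * g, Subgroup.mem_centralizer_singleton_iff.mpr ?_⟩, ?_⟩
    · calc g⁻¹ * y * g * x = g⁻¹ * (y * (g * x * g⁻¹)) * g := by group
        _ = x * (g⁻¹ * y * g) := by rw [hy']; group
    · apply Subtype.ext
      show g * (g⁻¹ * y * g) * g⁻¹ = y
      group
  exact ⟨f ⟨q, hqC⟩, map_pCore_le 2 f hf ⟨_, hq, rfl⟩, rfl⟩

theorem le_centralizer (x : G) {q : G} (hq : q ∈ Q x) : q * x = x * q := by
  rw [hQ] at hq
  obtain ⟨⟨q, hqC⟩, -, rfl⟩ := hq
  exact Subgroup.mem_centralizer_singleton_iff.mp hqC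

theorem norm_mem (x c : G) (hc : c * x = x * c) {q : G} (hq : q ∈ Q x) : c * q * c⁻¹ ∈ Q x := by
  have := conj_mem Q hQ x c hq
  rwa [show c * x * c⁻¹ = x by rw [hc, mul_inv_cancel_right]] at this

theorem large_base {z : G} (hz : orderOf z = 2) (hE : Cfsg.IsExtraspecial 2 ↥(Q z))
    (hC : Subgroup.centralizer ((Q z : Subgroup G) : Set G) ≤ Q z) : Large Q z := by
  have hsq : z * z = 1 := by rw [← pow_two, ← hz, pow_orderOf_eq_one]
  have hne : z ≠ 1 := fun e => by simp [e] at hz
  have hzC : z ∈ Subgroup.centralizer ((Q z : Subgroup G) : Set G) :=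
    Subgroup.mem_centralizer_iff.mpr fun q hq => le_centralizer Q hQ z hq
  have hzQ : z ∈ Q z := hC hzC
  have hcard : Nat.card (Subgroup.center ↥(Q z)) = 2 := hE.2
  have hzc : (⟨z, hzQ⟩ : ↥(Q z)) ∈ Subgroup.center ↥(Q z) :=
    Subgroup.mem_center_iff.mpr fun q => Subtype.ext (le_centralizer Q hQ z q.2)
  have hcenter : ∀ c ∈ Subgroup.center ↥(Q z), (c : G) = 1 ∨ (c : G) = z := by
    intro c hc
    obtain ⟨a, b, hab, huniv⟩ := Nat.card_eq_two_iff.mp hcard
    have key : ∀ y : Subgroup.center ↥(Q z), y = 1 ∨ y = ⟨_, hzc⟩ := by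
      intro y
      have h1 : (1 : Subgroup.center ↥(Q z)) ∈ ({a, b} : Set _) := huniv ▸ Set.mem_univ _
      have h2 : (⟨_, hzc⟩ : Subgroup.center ↥(Q z)) ∈ ({a, b} : Set _) := huniv ▸ Set.mem_univ _
      have h3 : y ∈ ({a, b} : Set _) := huniv ▸ Set.mem_univ _
      have hne' : (1 : Subgroup.center ↥(Q z)) ≠ ⟨_, hzc⟩ := fun e =>
        hne (by simpa using (congrArg (fun t => (t.1 : G)) e).symm)
      simp only [Set.mem_insert_iff, Set.mem_singleton_iff] at h1 h2 h3
      grind
    rcases key ⟨c, hc⟩ with e | e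
    · exact Or.inl (by simpa using congrArg (fun t => (t.1 : G)) e)
    · exact Or.inr (congrArg (fun t => (t.1 : G)) e)
  refine ⟨hne, hsq, hzQ, ?_, ?_, fun q hq => le_centralizer Q hQ z hq,
    fun c hc q hq => norm_mem Q hQ z c hc hq⟩
  · intro g hg
    have hgQ : g ∈ Q z := hC (Subgroup.mem_centralizer_iff.mpr fun q hq => (hg q hq).symm)
    exact hcenter ⟨g, hgQ⟩ (Subgroup.mem_center_iff.mpr fun q => Subtype.ext (hg q q.2).symm)
  · intro a ha b hb
    have hmem : (⟨a, ha⟩ : ↥(Q z)) * ⟨b, hb⟩ * ⟨a, ha⟩⁻¹ * ⟨b, hb⟩⁻¹ ∈ Subgroup.center ↥(Q z) := by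
      rw [← hE.1.2.2, commutator_def]
      exact Subgroup.commutator_mem_commutator (Subgroup.mem_top _) (Subgroup.mem_top _)
    rcases hcenter _ hmem with e | e <;> simp only [Subgroup.coe_mul, Subgroup.coe_inv] at e
    · left
      rwa [mul_inv_eq_one, mul_inv_eq_iff_eq_mul] at e
    · right
      rwa [mul_inv_eq_iff_eq_mul, mul_inv_eq_iff_eq_mul, mul_assoc] at e

theorem large_conj {z : G} (h : Large Q z) (g : G) : Large Q (g * z * g⁻¹) := by
  have hback : ∀ q ∈ Q (g * z * g⁻¹), g⁻¹ * q * g ∈ Q z := by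
    intro q hq
    have := conj_mem Q hQ _ g⁻¹ hq
    rwa [inv_inv, show g⁻¹ * (g * z * g⁻¹) * g = z by group] at this
  refine ⟨fun e => h.ne ?_, ?_, conj_mem Q hQ z g h.self_mem, ?_, ?_,
    fun q hq => le_centralizer Q hQ _ hq, fun c hc q hq => norm_mem Q hQ _ c hc hq⟩
  · rwa [mul_inv_eq_one, mul_eq_left] at e
  · rw [show g * z * g⁻¹ * (g * z * g⁻¹) = g * (z * z) * g⁻¹ by group, h.sq]; group
  · intro y hy
    have hh : ∀ q ∈ Q z, (g⁻¹ * y * g) * q = q * (g⁻¹ * y * g) := by
      intro q hq
      calc g⁻¹ * y * g * q = g⁻¹ * (y * (g * q * g⁻¹)) * g := by group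
        _ = g⁻¹ * ((g * q * g⁻¹) * y) * g := by rw [hy _ (conj_mem Q hQ z g hq)]
        _ = q * (g⁻¹ * y * g) := by group
    rcases h.cent _ hh with e | e
    · left
      calc y = g * (g⁻¹ * y * g) * g⁻¹ := by group
        _ = 1 := by rw [e]; group
    · right
      calc y = g * (g⁻¹ * y * g) * g⁻¹ := by group
        _ = g * z * g⁻¹ := by rw [e]
  · intro a ha b hb
    rcases h.comm _ (hback a ha) _ (hback b hb) with e | e
    · left
      calc a * b = g * ((g⁻¹ * a * g) * (g⁻¹ * b * g)) * g⁻¹ := by group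
        _ = b * a := by rw [e]; group
    · right
      calc a * b = g * ((g⁻¹ * a * g) * (g⁻¹ * b * g)) * g⁻¹ := by group
        _ = g * z * g⁻¹ * (b * a) := by rw [e]; group

end

end CfsgLib.Singular

namespace CfsgLib.Singular

variable {G : Type*} [Group G] {Q : G → Subgroup G}

/-- `a ∈ Q u` carries `Q u ∩ Q v` into `Q (a v a⁻¹)`, when `u ∈ Q v`. -/
theorem inter_le (hQ : ∀ x : G,
    Q x = (Cfsg.pCore 2 ↥(Subgroup.centralizer ({x} : Set G))).map
      (Subgroup.centralizer ({x} : Set G)).subtype)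
    {u v a q : G} (hu : Large Q u) (huv : u ∈ Q v) (ha : a ∈ Q u) (hqu : q ∈ Q u) (hqv : q ∈ Q v) :
    q ∈ Q (a * v * a⁻¹) := by
  have h1 : a⁻¹ * q * a ∈ Q v := by
    by_cases h : a⁻¹ * q = q * a⁻¹
    · rwa [h, inv_mul_cancel_right]
    · have := hu.comm_inv ((Q u).inv_mem ha) hqu h
      rw [inv_inv] at this
      rw [this]; exact (Q v).mul_mem hqv huv
  have := conj_mem Q hQ v a h1
  rwa [show a * (a⁻¹ * q * a) * a⁻¹ = q by group] at this

/-- Symmetry of orthogonality of singular involutions. -/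
theorem symm_mem [Finite G] (hQ : ∀ x : G,
    Q x = (Cfsg.pCore 2 ↥(Subgroup.centralizer ({x} : Set G))).map
      (Subgroup.centralizer ({x} : Set G)).subtype)
    {z x : G} (hz : Large Q z) (hxL : Large Q x) (hconj : ∃ g, g * z * g⁻¹ = x)
    (hxz : x ∈ Q z) : z ∈ Q x := by
  by_cases hxeq : x = z
  · rw [hxeq]; exact hz.self_mem
  by_contra hzx
  have hzC : z * x = x * z := (hz.central x hxz).symm
  have hswap : ∀ q ∈ Q x, q * z * q⁻¹ ≠ z * x := by
    intro q hq he
    have hnc : ∃ t ∈ Q z, t * x ≠ x * t := by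
      by_contra h
      push Not at h
      rcases hz.cent x (fun t ht => (h t ht).symm) with e | e
      · exact hxL.ne e
      · exact hxeq e
    obtain ⟨t, ht, htx⟩ := hnc
    have hzx' : z ∈ Q (z * x) := by
      have h1 : z * x ∈ Q z := (Q z).mul_mem hz.self_mem hxz
      have := conj_mem Q hQ z q h1
      rw [he, show q * (z * x) * q⁻¹ = (q * z * q⁻¹) * (q * x * q⁻¹) by group, he,
        hxL.central q hq, mul_inv_cancel_right, mul_assoc, hxL.sq, mul_one] at this
      exact this
    have := inter_le hQ hz hzx' ht hz.self_mem hzx'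
    rw [show t * (z * x) * t⁻¹ = (t * z) * x * t⁻¹ by group, hz.central t ht, mul_assoc z,
      mul_assoc z, hz.comm_inv ht hxz htx, ← mul_assoc, hzC, mul_assoc, hz.sq, mul_one] at this
    exact hzx this
  -- elements moved by at most `x` are centralised
  have hT : ∀ q ∈ Q x, (z * q = q * z ∨ z * q = x * (q * z)) → z * q = q * z := by
    intro q hq h
    refine h.resolve_right fun e => hswap q hq ?_
    rw [mul_inv_eq_iff_eq_mul, mul_assoc, ← mul_assoc z, hzC, mul_assoc x, e, ← mul_assoc x x,
      hxL.sq, one_mul]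
  have hD : ∀ d ∈ Q x, d ∈ Q z → d = 1 ∨ d = x := by
    intro d hdx hdz
    have hR : ∀ r ∈ Q z, r * x = x * r → r * d = d * r := by
      intro r hr hrx
      by_contra hne
      have e := hz.comm_inv hr hdz hne
      have h1 : r * d * r⁻¹ ∈ Q x := hxL.norm r hrx d hdx
      rw [e] at h1
      exact hzx (by simpa using (Q x).mul_mem ((Q x).inv_mem hdx) h1)
    obtain ⟨t, ht, htx⟩ : ∃ t ∈ Q z, t * x ≠ x * t := by
      by_contra h
      push Not at h
      rcases hz.cent x (fun t ht => (h t ht).symm) with e | e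
      · exact hxL.ne e
      · exact hxeq e
    have hsplit : ∀ r ∈ Q z, r * x = x * r ∨ (t⁻¹ * r) * x = x * (t⁻¹ * r) := by
      intro r hr
      by_cases h : r * x = x * r
      · exact Or.inl h
      · right
        have e1 := hz.comm_inv hr hxz h
        have e2 := hz.comm_inv ht hxz htx
        have : (t⁻¹ * r) * x * (t⁻¹ * r)⁻¹ = x := by
          calc (t⁻¹ * r) * x * (t⁻¹ * r)⁻¹ = t⁻¹ * (r * x * r⁻¹) * t := by group
            _ = x := by rw [e1, ← e2]; group
        rwa [mul_inv_eq_iff_eq_mul] at this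
    have hall : ∀ f ∈ Q z, (∀ r ∈ Q z, r * x = x * r → r * f = f * r) → t * f = f * t →
        ∀ r ∈ Q z, f * r = r * f := by
      intro f _ h1 h2 r hr
      rcases hsplit r hr with h | h
      · exact (h1 r hr h).symm
      · have h3 := h1 _ ((Q z).mul_mem ((Q z).inv_mem ht) hr) h
        calc f * r = f * t * (t⁻¹ * r) := by group
          _ = t * f * (t⁻¹ * r) := by rw [h2]
          _ = r * f := by rw [mul_assoc, ← h3, ← mul_assoc, mul_inv_cancel_left]
    by_cases htd : t * d = d * t
    · rcases hz.cent d (hall d hdz hR htd) with e | e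
      · exact Or.inl e
      · exact absurd (e ▸ hdx) hzx
    · have hdx' : t * (d * x) = d * x * t := by
        have e : t * (d * x) * t⁻¹ = d * x := by
          rw [show t * (d * x) * t⁻¹ = (t * d * t⁻¹) * (t * x * t⁻¹) by group,
            hz.comm_inv ht hdz htd, hz.comm_inv ht hxz htx, mul_assoc d, ← mul_assoc z x, hzC,
            mul_assoc x, hz.sq, mul_one]
        rwa [mul_inv_eq_iff_eq_mul] at e
      rcases hz.cent _ (hall (d * x) ((Q z).mul_mem hdz hxz)
        (fun r hr hrx => by rw [← mul_assoc, hR r hr hrx, mul_assoc, hrx, mul_assoc]) hdx') with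
        e | e
      · exact Or.inr (by rw [mul_eq_one_iff_eq_inv] at e; rwa [hxL.inv_eq] at e)
      · exact absurd (e ▸ (Q x).mul_mem hdx hxL.self_mem) hzx
  have hS : ∀ r ∈ Q z, r * x = x * r → ∀ s ∈ Q x, z * s = s * z →
      r * s = s * r ∨ r * s = x * (s * r) := by
    intro r hr hrx s hs hzs
    have h1 : r * s * r⁻¹ * s⁻¹ ∈ Q x := (Q x).mul_mem (hxL.norm r hrx s hs) ((Q x).inv_mem hs)
    have h2 : r * s * r⁻¹ * s⁻¹ ∈ Q z := by
      rw [show r * s * r⁻¹ * s⁻¹ = r * (s * r⁻¹ * s⁻¹) by group]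
      exact (Q z).mul_mem hr (hz.norm s hzs.symm r⁻¹ ((Q z).inv_mem hr))
    rcases hD _ h1 h2 with e | e
    · left; rwa [mul_inv_eq_one, mul_inv_eq_iff_eq_mul] at e
    · right; rwa [mul_inv_eq_iff_eq_mul, mul_inv_eq_iff_eq_mul, mul_assoc] at e
  have hz2 : z⁻¹ = z := hz.inv_eq
  -- `k = [z, q]` is centralised by `z`
  have hk : ∀ q ∈ Q x, z * (z * q * z⁻¹ * q⁻¹) = (z * q * z⁻¹ * q⁻¹) * z := by
    intro q hq
    have hkQ : z * q * z⁻¹ * q⁻¹ ∈ Q x :=
      (Q x).mul_mem (hxL.norm z hzC q hq) ((Q x).inv_mem hq)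
    refine hT _ hkQ ?_
    set k := z * q * z⁻¹ * q⁻¹
    have e1 : z * k = k⁻¹ * z := by
      calc z * k = (z * z) * q * z⁻¹ * q⁻¹ := by simp only [k, mul_assoc]
        _ = q * (z * (q⁻¹ * (z⁻¹ * z))) := by
            rw [hz.sq, hz2, hz.sq]; simp only [one_mul, mul_one, mul_assoc]
        _ = k⁻¹ * z := by
            simp only [k, mul_inv_rev, inv_inv, mul_assoc]
    rcases hxL.sq_mem hkQ with e | e
    · left; rw [e1, inv_eq_of_mul_eq_one_right e]
    · right
      have e2 : k⁻¹ = x * k := by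
        apply inv_eq_of_mul_eq_one_right
        rw [← mul_assoc, hxL.central k hkQ, mul_assoc, e, hxL.sq]
      rw [e1, e2, mul_assoc]
  -- every element of `Q x` would commute with `z`
  refine hzx ?_
  refine hxL.mem_of_comm hzC ?_
  by_cases hab : ∃ r1 ∈ Q z, ∃ r2 ∈ Q z, r1 * x = x * r1 ∧ r2 * x = x * r2 ∧ r1 * r2 ≠ r2 * r1
  · obtain ⟨r1, hr1, r2, hr2, h1x, h2x, hne⟩ := hab
    have hzr : r1 * r2 = z * (r2 * r1) := (hz.comm r1 hr1 r2 hr2).resolve_left hne
    have hrS : ∀ r ∈ Q z, r * x = x * r → ∀ q ∈ Q x,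
        z * (r * q * r⁻¹ * q⁻¹) = (r * q * r⁻¹ * q⁻¹) * z := by
      intro r hr hrx q hq
      set p := r * q * r⁻¹ * q⁻¹
      have hpQ : p ∈ Q x := (Q x).mul_mem (hxL.norm r hrx q hq) ((Q x).inv_mem hq)
      have hp : ∀ s ∈ Q x, z * s = s * z → p * s = s * p := by
        intro s hs hzs
        have hrz : r * z = z * r := hz.central r hr
        have hrs := hS r hr hrx s hs hzs
        have hxr : r * x * r⁻¹ = x := by rw [hrx, mul_inv_cancel_right]
        rcases hxL.comm q hq s hs with e | e <;> rcases hrs with f | f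
        · have : (r * q * r⁻¹) * s = s * (r * q * r⁻¹) := by
            calc (r * q * r⁻¹) * s = (r * q * r⁻¹) * (r * s * r⁻¹) := by rw [f, mul_inv_cancel_right]
              _ = r * (q * s) * r⁻¹ := by group
              _ = (r * s * r⁻¹) * (r * q * r⁻¹) := by rw [e]; group
              _ = s * (r * q * r⁻¹) := by rw [f, mul_inv_cancel_right]
          exact Commute.mul_left (show Commute (r * q * r⁻¹) s from this)
            (Commute.inv_left (show Commute q s from e))
        · have f' : r * s * r⁻¹ = x * s := by rw [f, ← mul_assoc, mul_inv_cancel_right]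
          have hx' : ∀ m ∈ Q x, m * (x * s) = x * (m * s) := fun m hm => by
            rw [← mul_assoc, hxL.central m hm, mul_assoc]
          have : (r * q * r⁻¹) * (x * s) = (x * s) * (r * q * r⁻¹) := by
            calc (r * q * r⁻¹) * (x * s) = (r * q * r⁻¹) * (r * s * r⁻¹) := by rw [f']
              _ = r * (q * s) * r⁻¹ := by group
              _ = (r * s * r⁻¹) * (r * q * r⁻¹) := by rw [e]; group
              _ = (x * s) * (r * q * r⁻¹) := by rw [f']
          rw [hx' _ (hxL.norm r hrx q hq), mul_assoc x] at this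
          exact Commute.mul_left (show Commute (r * q * r⁻¹) s from mul_left_cancel this)
            (Commute.inv_left (show Commute q s from e))
        · have hqi : q⁻¹ * s = x * (s * q⁻¹) := by
            rw [inv_mul_eq_iff_eq_mul, ← mul_assoc q x, hxL.central q hq, mul_assoc x, ← mul_assoc q,
              e, mul_assoc x (s * q), mul_inv_cancel_right, ← mul_assoc, hxL.sq, one_mul]
          have : (r * q * r⁻¹) * s = x * (s * (r * q * r⁻¹)) := by
            calc (r * q * r⁻¹) * s = (r * q * r⁻¹) * (r * s * r⁻¹) := by rw [f, mul_inv_cancel_right]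
              _ = r * (q * s) * r⁻¹ := by group
              _ = (r * x * r⁻¹) * ((r * s * r⁻¹) * (r * q * r⁻¹)) := by rw [e]; group
              _ = x * (s * (r * q * r⁻¹)) := by rw [hxr, f, mul_inv_cancel_right]
          show r * q * r⁻¹ * q⁻¹ * s = s * (r * q * r⁻¹ * q⁻¹)
          rw [mul_assoc, hqi, ← mul_assoc (r * q * r⁻¹) x, hxL.central _ (hxL.norm r hrx q hq),
            mul_assoc x, ← mul_assoc _ s, this, mul_assoc x, ← mul_assoc x x, hxL.sq, one_mul,
            mul_assoc s]
        · have f' : r * s * r⁻¹ = x * s := by rw [f, ← mul_assoc, mul_inv_cancel_right]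
          have hqi : q⁻¹ * s = x * (s * q⁻¹) := by
            rw [inv_mul_eq_iff_eq_mul, ← mul_assoc q x, hxL.central q hq, mul_assoc x, ← mul_assoc q,
              e, mul_assoc x (s * q), mul_inv_cancel_right, ← mul_assoc, hxL.sq, one_mul]
          have hrq := hxL.norm r hrx q hq
          have : (r * q * r⁻¹) * s = x * (s * (r * q * r⁻¹)) := by
            apply mul_left_cancel (a := x)
            rw [← mul_assoc x, ← hxL.central _ hrq, mul_assoc _ x]
            calc (r * q * r⁻¹) * (x * s) = (r * q * r⁻¹) * (r * s * r⁻¹) := by rw [f']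
              _ = r * (q * s) * r⁻¹ := by group
              _ = (r * x * r⁻¹) * ((r * s * r⁻¹) * (r * q * r⁻¹)) := by rw [e]; group
              _ = x * (x * (s * (r * q * r⁻¹))) := by rw [hxr, f', mul_assoc x s]
          show r * q * r⁻¹ * q⁻¹ * s = s * (r * q * r⁻¹ * q⁻¹)
          rw [mul_assoc, hqi, ← mul_assoc (r * q * r⁻¹) x, hxL.central _ hrq,
            mul_assoc x, ← mul_assoc _ s, this, mul_assoc x, ← mul_assoc x x, hxL.sq, one_mul,
            mul_assoc s]
      -- `p` centralises `[z, Q x]`, so it is moved by `z` at most by `x`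
      let W : Subgroup G := Subgroup.closure ({x} ∪ {k | ∃ y ∈ Q x, k = z * y * z⁻¹ * y⁻¹})
      have hWQ : W ≤ Q x := by
        refine (Subgroup.closure_le _).mpr ?_
        rintro k (rfl | ⟨y, hy, rfl⟩)
        · exact hxL.self_mem
        · exact (Q x).mul_mem (hxL.norm z hzC y hy) ((Q x).inv_mem hy)
      have hWz : W ≤ Subgroup.centralizer ({z} : Set G) := by
        refine (Subgroup.closure_le _).mpr ?_
        rintro k (rfl | ⟨y, hy, rfl⟩)
        · exact Subgroup.mem_centralizer_singleton_iff.mpr hzC.symm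
        · exact Subgroup.mem_centralizer_singleton_iff.mpr (hk y hy).symm
      suffices hpW : p ∈ W from (Subgroup.mem_centralizer_singleton_iff.mp (hWz hpW)).symm
      by_contra hpW
      obtain ⟨w, hw, hwW, hwp⟩ := hxL.exists_separate W
        (Subgroup.subset_closure (Or.inl rfl)) hWQ p hpQ hpW
      refine hwp (hp w hw (hT w hw ?_)).symm
      set w' := z * w * z⁻¹
      have hw' : w' ∈ Q x := hxL.norm z hzC w hw
      have hcen : ∀ y ∈ Q x, (w⁻¹ * w') * y = y * (w⁻¹ * w') := by
        intro y hy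
        set y' := z * y * z⁻¹ with hy'
        set k := z * y * z⁻¹ * y⁻¹ with hk'
        have hkW : w * k = k * w := hwW k (Subgroup.subset_closure (Or.inr ⟨y, hy, rfl⟩))
        have hyk : y' = k * y := by simp only [k, y', inv_mul_cancel_right]
        have hy'y : z * y' * z⁻¹ = y := by
          simp only [y', hz2, mul_assoc, hz.sq, mul_one]
          rw [← mul_assoc z z, hz.sq, one_mul]
        rcases hxL.comm w hw y hy with e | e
        · have e' : w * y' = y' * w := by
            rw [hyk, ← mul_assoc, hkW, mul_assoc, e]; exact (mul_assoc k y w).symm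
          have e'' : w' * y = y * w' := by
            calc w' * y = (z * w * z⁻¹) * (z * y' * z⁻¹) := by rw [hy'y]
              _ = z * (w * y') * z⁻¹ := by group
              _ = (z * y' * z⁻¹) * (z * w * z⁻¹) := by rw [e']; group
              _ = y * w' := by rw [hy'y]
          exact Commute.mul_left (Commute.inv_left (show Commute w y from e))
            (show Commute w' y from e'')
        · have hxk : ∀ m ∈ Q x, ∀ m', m * (x * m') = x * (m * m') := fun m hm m' => by
            rw [← mul_assoc, hxL.central m hm, mul_assoc]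
          have hkQ : k ∈ Q x := (Q x).mul_mem (hxL.norm z hzC y hy) ((Q x).inv_mem hy)
          have e' : w * y' = x * (y' * w) := by
            rw [hyk, ← mul_assoc, hkW, mul_assoc, e, hxk k hkQ]
            exact congrArg (x * ·) (mul_assoc k y w).symm
          have hzx2 : z * x * z⁻¹ = x := by rw [hzC, mul_inv_cancel_right]
          have e'' : w' * y = x * (y * w') := by
            calc w' * y = (z * w * z⁻¹) * (z * y' * z⁻¹) := by rw [hy'y]
              _ = z * (w * y') * z⁻¹ := by group
              _ = (z * x * z⁻¹) * ((z * y' * z⁻¹) * (z * w * z⁻¹)) := by rw [e']; group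
              _ = x * (y * w') := by rw [hy'y, hzx2]
          rw [mul_assoc, e'', hxk w⁻¹ ((Q x).inv_mem hw), ← mul_assoc w⁻¹]
          have e3 : w⁻¹ * y = x * (y * w⁻¹) := by
            rw [inv_mul_eq_iff_eq_mul, hxk w hw, ← mul_assoc w, e, mul_assoc x (y * w),
              mul_inv_cancel_right, ← mul_assoc, hxL.sq, one_mul]
          rw [e3, mul_assoc x, ← mul_assoc x x, hxL.sq, one_mul, mul_assoc]
      rcases hxL.cent _ hcen with e | e
      · left; rwa [inv_mul_eq_one, eq_comm, mul_inv_eq_iff_eq_mul] at e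
      · right
        rw [inv_mul_eq_iff_eq_mul, hxL.central w hw, mul_inv_eq_iff_eq_mul, mul_assoc] at e
        exact e
    have hmv : ∀ r ∈ Q z, r * x = x * r → ∀ q ∈ Q x,
        ∃ s ∈ Q x, z * s = s * z ∧ r * q = q * s * r := by
      intro r hr hrx q hq
      have hq' := hrS r hr hrx q hq
      refine ⟨q⁻¹ * (r * q * r⁻¹ * q⁻¹) * q, (Q x).mul_mem ((Q x).mul_mem ((Q x).inv_mem hq)
        ((Q x).mul_mem (hxL.norm r hrx q hq) ((Q x).inv_mem hq))) hq, ?_, by group⟩
      set p := r * q * r⁻¹ * q⁻¹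
      have hpQ : p ∈ Q x := (Q x).mul_mem (hxL.norm r hrx q hq) ((Q x).inv_mem hq)
      rcases hxL.comm q⁻¹ ((Q x).inv_mem hq) p hpQ with e | e
      · rw [e, inv_mul_cancel_right]; exact hq'
      · rw [e, mul_assoc x, inv_mul_cancel_right, ← mul_assoc z, hzC, mul_assoc, hq']
        exact (mul_assoc x p z).symm
    intro q hq
    obtain ⟨s1, hs1, hzs1, e1⟩ := hmv r1 hr1 h1x q hq
    obtain ⟨s2, hs2, hzs2, e2⟩ := hmv r2 hr2 h2x q hq
    -- work modulo the subgroup generated by `x`
    have hxc : ∀ m : G, m ∈ Q x ∨ m = z ∨ m = r1 ∨ m = r2 → m * x = x * m := by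
      rintro m (hm | rfl | rfl | rfl)
      exacts [hxL.central m hm, hzC, h1x, h2x]
    let Rel : G → G → Prop := fun a b => a = b ∨ a = x * b
    have rtrans : ∀ {a b c}, Rel a b → Rel b c → Rel a c := by
      rintro a b c (rfl | rfl) (rfl | rfl)
      · exact Or.inl rfl
      · exact Or.inr rfl
      · exact Or.inr rfl
      · left; rw [← mul_assoc, hxL.sq, one_mul]
    have rsymm : ∀ {a b}, Rel a b → Rel b a := by
      rintro a b (rfl | rfl)
      · exact Or.inl rfl
      · right; rw [← mul_assoc, hxL.sq, one_mul]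
    have rleft : ∀ m : G, m * x = x * m → ∀ {a b}, Rel a b → Rel (m * a) (m * b) := by
      rintro m hm a b (rfl | rfl)
      · exact Or.inl rfl
      · right; rw [← mul_assoc, hm, mul_assoc]
    have rright : ∀ m : G, ∀ {a b}, Rel a b → Rel (a * m) (b * m) := by
      rintro m a b (rfl | rfl)
      · exact Or.inl rfl
      · right; rw [mul_assoc]
    have hq1 := hxc q (Or.inl hq)
    have A : Rel (r1 * r2 * q) (q * s1 * s2 * (r1 * r2)) := by
      rw [mul_assoc r1, e2, ← mul_assoc r1, ← mul_assoc r1, e1]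
      have := hS r1 hr1 h1x s2 hs2 hzs2
      have h' := rright r2 (rleft (q * s1) (hxc _ (Or.inl ((Q x).mul_mem hq hs1))) this)
      simpa [mul_assoc] using h'
    have B : Rel (r2 * r1 * q) (q * s2 * s1 * (r2 * r1)) := by
      rw [mul_assoc r2, e1, ← mul_assoc r2, ← mul_assoc r2, e2]
      have := hS r2 hr2 h2x s1 hs1 hzs1
      have h' := rright r1 (rleft (q * s2) (hxc _ (Or.inl ((Q x).mul_mem hq hs2))) this)
      simpa [mul_assoc] using h'
    have C : Rel (q * s1 * s2) (q * s2 * s1) := by
      have := rleft q hq1 (show Rel (s1 * s2) (s2 * s1) from hxL.comm s1 hs1 s2 hs2)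
      simpa [mul_assoc] using this
    -- `z q (r2 r1) ~ q z (r2 r1)`
    have hz12 : z * (s2 * s1) = s2 * s1 * z := by
      rw [← mul_assoc, hzs2, mul_assoc, hzs1, mul_assoc]
    have D : Rel (z * (q * s2 * s1 * (r2 * r1))) (q * (s2 * s1) * z * (r2 * r1)) := by
      have h1 : Rel (z * (r2 * r1 * q)) (z * (q * s2 * s1 * (r2 * r1))) := rleft z hzC B
      refine rtrans (rsymm h1) ?_
      rw [← mul_assoc z, ← hzr]
      refine rtrans A ?_
      rw [hzr]
      have := rright (z * (r2 * r1)) C
      simpa [mul_assoc] using this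
    have E := rright (s2 * s1 * (r2 * r1))⁻¹ D
    have l1 : z * (q * s2 * s1 * (r2 * r1)) * (s2 * s1 * (r2 * r1))⁻¹ = z * q := by group
    have l2 : q * (s2 * s1) * z * (r2 * r1) * (s2 * s1 * (r2 * r1))⁻¹ = q * z := by
      rw [mul_assoc q (s2 * s1) z, ← hz12]; group
    rw [l1, l2] at E
    exact E
  · push Not at hab
    have hSsmall : ∀ s ∈ Q x, z * s = s * z → s = 1 ∨ s = x := by
      intro s hs hzs
      refine hD s hs (hz.mem_of_comm hzs.symm ?_)
      obtain ⟨hsx, hsz⟩ : s * x = x * s ∧ s * z = z * s := ⟨hxL.central s hs, hzs.symm⟩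
      -- the centraliser of `x` in `Q z` is small
      have hR : ∀ r ∈ Q z, r * x = x * r → r = 1 ∨ r = z ∨ r = x ∨ r = x * z := by
        intro r hr hrx
        obtain ⟨t, ht, htx⟩ : ∃ t ∈ Q z, t * x ≠ x * t := by
          by_contra h
          push Not at h
          rcases hz.cent x (fun t ht => (h t ht).symm) with e | e
          · exact hxL.ne e
          · exact hxeq e
        have hsplit : ∀ y ∈ Q z, ∀ f ∈ Q z, (∀ r ∈ Q z, r * x = x * r → r * f = f * r) →
            t * f = f * t → f * y = y * f := by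
          intro y hy f _ h1 h2
          by_cases h : y * x = x * y
          · exact (h1 y hy h).symm
          · have e1 := hz.comm_inv hy hxz h
            have e2 := hz.comm_inv ht hxz htx
            have h' : (t⁻¹ * y) * x * (t⁻¹ * y)⁻¹ = x := by
              calc (t⁻¹ * y) * x * (t⁻¹ * y)⁻¹ = t⁻¹ * (y * x * y⁻¹) * t := by group
                _ = x := by rw [e1, ← e2]; group
            rw [mul_inv_eq_iff_eq_mul] at h'
            have h3 := h1 _ ((Q z).mul_mem ((Q z).inv_mem ht) hy) h'
            calc f * y = f * t * (t⁻¹ * y) := by group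
              _ = t * f * (t⁻¹ * y) := by rw [h2]
              _ = y * f := by rw [mul_assoc, ← h3, ← mul_assoc, mul_inv_cancel_left]
        have hcomm : ∀ r' ∈ Q z, r' * x = x * r' → r' * r = r * r' :=
          fun r' hr' h' => hab r' hr' r hr h' hrx
        by_cases htr : t * r = r * t
        · rcases hz.cent r (fun y hy => hsplit y hy r hr hcomm htr) with e | e
          · exact Or.inl e
          · exact Or.inr (Or.inl e)
        · have hrx' : t * (r * x) = r * x * t := by
            have e : t * (r * x) * t⁻¹ = r * x := by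
              rw [show t * (r * x) * t⁻¹ = (t * r * t⁻¹) * (t * x * t⁻¹) by group,
                hz.comm_inv ht hr htr, hz.comm_inv ht hxz htx, mul_assoc r, ← mul_assoc z x, hzC,
                mul_assoc x, hz.sq, mul_one]
            rwa [mul_inv_eq_iff_eq_mul] at e
          rcases hz.cent (r * x) (fun y hy => hsplit y hy _ ((Q z).mul_mem hr hxz)
            (fun r' hr' h' => by rw [← mul_assoc, hcomm r' hr' h', mul_assoc, h', mul_assoc]) hrx')
            with e | e
          · right; right; left; rw [mul_eq_one_iff_eq_inv] at e; rwa [hxL.inv_eq] at e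
          · right; right; right
            rw [← hxL.inv_eq, eq_inv_mul_iff_mul_eq, ← e]; exact hrx.symm
      have hfix : ∀ r ∈ Q z, r * x = x * r → s * r = r * s := by
        intro r hr hrx
        rcases hR r hr hrx with rfl | rfl | rfl | rfl
        · rw [mul_one, one_mul]
        · exact hsz
        · exact hsx
        · exact Commute.mul_right (show Commute s x from hsx) (show Commute s z from hsz)
      intro y hy
      by_cases hyx : y * x = x * y
      · exact Or.inl (hfix y hy hyx)
      set y' := s * y * s⁻¹ with hy'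
      have hy'Q : y' ∈ Q z := hz.norm s hsz y hy
      have hey : y⁻¹ * y' * x = x * (y⁻¹ * y') := by
        have e1 := hz.comm_inv hy hxz hyx
        have hs1 : s⁻¹ * x * s = x := by rw [mul_assoc, ← hsx, inv_mul_cancel_left]
        have hs2 : s * (x * z) * s⁻¹ = x * z := by
          rw [← mul_assoc s, hsx, mul_assoc x s, hsz, ← mul_assoc x z, mul_inv_cancel_right]
        have e2 : y' * x * y'⁻¹ = x * z := by
          calc y' * x * y'⁻¹ = s * (y * (s⁻¹ * x * s) * y⁻¹) * s⁻¹ := by simp only [y']; group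
            _ = x * z := by rw [hs1, e1, hs2]
        have : (y⁻¹ * y') * x * (y⁻¹ * y')⁻¹ = x := by
          calc (y⁻¹ * y') * x * (y⁻¹ * y')⁻¹ = y⁻¹ * (y' * x * y'⁻¹) * y := by group
            _ = x := by rw [e2, ← e1]; group
        rwa [mul_inv_eq_iff_eq_mul] at this
      have hy2 : y' * y' = y * y := by
        have : s * (y * y) = y * y * s := by
          rcases hz.sq_mem hy with e | e <;> rw [e]
          · rw [mul_one, one_mul]
          · exact hsz
        calc y' * y' = s * (y * y) * s⁻¹ := by simp only [y']; group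
          _ = y * y := by rw [this, mul_inv_cancel_right]
      have hneq : ∀ c, c ∈ Q z → y * c ≠ c * y → c * c = 1 → y' ≠ y * c := by
        intro c hc hne hcc he
        have e := (hz.comm y hy c hc).resolve_left hne
        have : y * y = z * (y * y) := by
          calc y * y = (y * c) * (y * c) := by rw [← he, hy2]
            _ = y * (c * y) * c := by simp only [mul_assoc]
            _ = y * (z * (y * c)) * c := by rw [e, ← mul_assoc z z, hz.sq, one_mul]
            _ = z * (y * y) := by
              rw [← mul_assoc y z, hz.central y hy, mul_assoc z y, mul_assoc z, mul_assoc, mul_assoc y c,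
                hcc, mul_one]
        exact hz.ne (mul_eq_right.mp this.symm)
      have hyc : y' = y * (y⁻¹ * y') := (mul_inv_cancel_left y y').symm
      have hsy : s * y = y' * s := by simp only [y', inv_mul_cancel_right]
      rcases hR _ ((Q z).mul_mem ((Q z).inv_mem hy) hy'Q) hey with e | e | e | e
      · left; rw [hsy, hyc, e, mul_one]
      · right; rw [hsy, hyc, e, hz.central y hy, mul_assoc]
      · exact absurd (hyc.trans (by rw [e])) (hneq x hxz hyx hxL.sq)
      · refine absurd (hyc.trans (by rw [e])) (hneq _ ((Q z).mul_mem hxz hz.self_mem) (fun h => hyx ?_) ?_)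
        · rw [← mul_assoc, mul_assoc x z y, ← hz.central y hy, ← mul_assoc x y] at h
          exact mul_right_cancel h
        · rw [mul_assoc, ← mul_assoc z x, hzC, mul_assoc x z z, hz.sq, mul_one, hxL.sq]
    intro q hq
    have hkQ : z * q * z⁻¹ * q⁻¹ ∈ Q x :=
      (Q x).mul_mem (hxL.norm z hzC q hq) ((Q x).inv_mem hq)
    rcases hSsmall _ hkQ (hk q hq) with e | e
    · left; rwa [mul_inv_eq_one, mul_inv_eq_iff_eq_mul] at e
    · right; rwa [mul_inv_eq_iff_eq_mul, mul_inv_eq_iff_eq_mul, mul_assoc] at e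

/-- The data of the statements on singular subgroups. -/
theorem large_of_singular [Finite G] (hQ : ∀ x : G,
    Q x = (Cfsg.pCore 2 ↥(Subgroup.centralizer ({x} : Set G))).map
      (Subgroup.centralizer ({x} : Set G)).subtype)
    {z : G} (hz : orderOf z = 2) (hE : Cfsg.IsExtraspecial 2 ↥(Q z))
    (hC : Subgroup.centralizer ((Q z : Subgroup G) : Set G) ≤ Q z)
    {U : Subgroup G} (hS : ∀ u ∈ U, u ≠ 1 → ∃ g : G, g * z * g⁻¹ = u)
    {u : G} (hu : u ∈ U) (hne : u ≠ 1) : Large Q u := by
  obtain ⟨g, rfl⟩ := hS u hu hne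
  exact large_conj Q hQ (large_base Q hQ hz hE hC) g

/-- Extension lemma inside a singular subgroup. -/
theorem exists_transvection [Finite G] {u : G} (h : Large Q u) (H : Subgroup G) (huH : u ∈ H)
    (hH : H ≤ Q u) {a : G} (ha : a ∈ Q u) (haH : a ∉ H) :
    ∃ g ∈ Q u, (∀ k ∈ H, g * k = k * g) ∧ g * a * g⁻¹ = a * u := by
  obtain ⟨w, hw, hwH, hwa⟩ := h.exists_separate H huH hH a ha haH
  exact ⟨w, hw, hwH, h.comm_inv hw ha hwa⟩

end CfsgLib.Singular
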