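import Cfsg.Agent.LargeExtraspecial.TransvectionModel
import Mathlib.Algebra.Module.ZMod
import Mathlib.LinearAlgebra.Matrix.ToLin
import Mathlib.LinearAlgebra.Matrix.SchurComplement
import Mathlib.LinearAlgebra.FreeModule.Finite.Basic

/-!
# The centralizer of a point in the affine group over the field with two elements
-/

set_option autoImplicit false
set_option linter.style.haveILetI false

open Matrix

namespace CfsgLib.LargeExtraspecial.Transvection

/-- Coordinates in which a given non-zero vector is the first basis vector. -/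
theorem exists_coordinates {W : Type*} [AddCommGroup W] [Module F2 W] [Finite W] {v : W}
    (hv : v ≠ 0) {n : ℕ} (hcard : Nat.card W = 2 ^ (n + 1)) :
    ∃ e : W ≃ₗ[F2] (Option (Fin n) → F2), e v = Pi.single none 1 := by
  classical
  haveI : Fact (Nat.Prime 2) := ⟨Nat.prime_two⟩
  obtain ⟨e₀⟩ : Nonempty (W ≃ₗ[F2] (Option (Fin n) → F2)) := by
    refine FiniteDimensional.nonempty_linearEquiv_of_finrank_eq ?_
    rw [Module.finrank_pi]
    have h := Module.natCard_eq_pow_finrank (K := F2) (V := W)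
    rw [hcard, Nat.card_zmod] at h
    simp [← Nat.pow_right_injective le_rfl h]
  have hne : e₀ v ≠ 0 := fun e => hv (e₀.map_eq_zero_iff.mp e)
  obtain ⟨p, hp⟩ : ∃ p, e₀ v p ≠ 0 := Function.ne_iff.mp hne
  let σ : Option (Fin n) ≃ Option (Fin n) := Equiv.swap none p
  let e₁ := e₀.trans (LinearEquiv.funCongrLeft F2 F2 σ)
  have hw0 : e₁ v none = 1 := by
    refine f2_eq_one _ ?_
    show e₀ v (σ none) ≠ 0
    simpa [σ] using hp
  set w := e₁ v with hw
  let f : (Option (Fin n) → F2) →ₗ[F2] (Option (Fin n) → F2) :=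
    { toFun := fun u => u + u none • (w + (Pi.single none 1 : Option (Fin n) → F2))
      map_add' := fun u u' => by rw [Pi.add_apply, add_smul]; abel
      map_smul' := fun c u => by simp [smul_add, mul_smul] }
  have hf : ∀ u, f (f u) = u := by
    intro u
    have h0 : (w + (Pi.single none 1 : Option (Fin n) → F2)) none = (0 : F2) := by
      rw [Pi.add_apply, hw0, Pi.single_eq_same, f2_one_add_one]
    show f u + (f u) none • (w + (Pi.single none 1 : Option (Fin n) → F2)) = u
    have : f u none = u none := by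
      show u none + u none • (w + (Pi.single none 1 : Option (Fin n) → F2)) none = u none
      rw [h0]; simp
    rw [this]
    show u + u none • (w + (Pi.single none 1 : Option (Fin n) → F2)) + u none • (w + (Pi.single none 1 : Option (Fin n) → F2)) = u
    rw [add_assoc, ← add_smul, f2_add_self, zero_smul, add_zero]
  refine ⟨e₁.trans (LinearEquiv.ofInvolutive f hf), ?_⟩
  show w + w none • (w + (Pi.single none 1 : Option (Fin n) → F2)) = _
  rw [hw0, one_smul, ← add_assoc, show w + w = 0 from funext fun i => f2_add_self _, zero_add]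

/-- Index bijection putting the affine coordinate second. -/
def affIdx (n : ℕ) : Option (Fin n) ⊕ Unit ≃ Fin 2 ⊕ Fin n where
  toFun := Sum.elim (fun o => o.elim (Sum.inl 0) Sum.inr) (fun _ => Sum.inl 1)
  invFun := Sum.elim (fun i => if i = 0 then Sum.inl none else Sum.inr ()) (fun j => Sum.inl (some j))
  left_inv := by rintro ((_ | j) | u) <;> simp
  right_inv := by
    rintro (i | j)
    · fin_cases i <;> simp
    · simp

theorem conclusion_affine {G : Type*} [Group G] [Finite G] (n : ℕ) (hn : 1 ≤ n) (U M : Subgroup G)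
    [U.Normal] (hU : Cfsg.IsElementaryAbelian 2 U) (hUcard : Nat.card ↥U = 2 ^ (n + 1))
    (hUM : U ⊓ M = ⊥) (hUM' : U ⊔ M = ⊤)
    (hfaith : ∀ m ∈ M, (∀ u ∈ U, m * u * m⁻¹ = u) → m = 1)
    (hfull : ∀ φ : ↥U ≃* ↥U, ∃ m ∈ M, ∀ u : ↥U, ((φ u : ↥U) : G) = m * u * m⁻¹)
    (Z : Subgroup G) (hZU : Z ≤ U) (hZ : Nat.card ↥Z = 2) (Q : Subgroup G)
    (hQ : Q = (Cfsg.pCore 2 ↥(Subgroup.centralizer (Z : Set G))).map
      (Subgroup.centralizer (Z : Set G)).subtype) :
    Cfsg.IsExtraspecial 2 ↥Q ∧ Nat.card ↥Q = 2 ^ (2 * n + 1) ∧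
    (∃ E : Subgroup G, E ≤ Q ∧ Cfsg.IsElementaryAbelian 2 E ∧ Nat.card ↥E = 2 ^ (n + 1)) ∧
    Cfsg.IsLargeExtraspecial Q ∧
    ∃ K : Subgroup G, K ≤ Subgroup.centralizer (Z : Set G) ∧ Q ⊓ K = ⊥ ∧
      Q ⊔ K = Subgroup.centralizer (Z : Set G) ∧
      Nonempty (↥K ≃* Matrix.GeneralLinearGroup (Fin n) F2) := by
  classical
  haveI : Fact (Nat.Prime 2) := ⟨Nat.prime_two⟩
  haveI : IsCyclic Z := isCyclic_of_prime_card (p := 2) hZ
  obtain ⟨z, hzgen⟩ := Subgroup.isCyclic_iff_exists_zpowers_eq_top Z |>.mp inferInstance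
  subst hzgen
  rw [Nat.card_zpowers] at hZ
  rw [centralizer_zpowers] at hQ ⊢
  have hzU : z ∈ U := hZU (Subgroup.mem_zpowers z)
  letI : CommGroup U := { (inferInstance : Group U) with mul_comm := hU.1.1.comm }
  letI : Module F2 (Additive U) := AddCommGroup.zmodModule (fun x => by
    apply Additive.toMul.injective
    rw [toMul_nsmul, toMul_zero]
    exact Subtype.ext (by rw [Subgroup.coe_pow]; exact hU.2 _ x.toMul.2))
  have hv : Additive.ofMul (⟨z, hzU⟩ : U) ≠ 0 := fun e => by
    have e' : (⟨z, hzU⟩ : U) = 1 := congrArg Additive.toMul e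
    rw [show z = 1 from congrArg Subtype.val e', orderOf_one] at hZ
    omega
  obtain ⟨e, he⟩ := exists_coordinates (W := Additive U) hv (n := n)
    (by rw [← hUcard]; exact (Nat.card_congr Additive.toMul))
  -- the decomposition `g = u * m`
  have hdec : ∀ g : G, ∃ p : U × M, (p.1 : G) * p.2 = g := by
    intro g
    obtain ⟨u, hu, m, hm, h⟩ := CfsgLib.Coprime.exists_mul_of_mem_sup
      (Subgroup.le_normalizer_of_normal (K := M)) (hUM' ▸ Subgroup.mem_top g : g ∈ U ⊔ M)
    exact ⟨(⟨u, hu⟩, ⟨m, hm⟩), h⟩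
  have huniq : ∀ (u u' : U) (m m' : M), (u : G) * m = u' * m' → u = u' ∧ m = m' := by
    intro u u' m m' h
    have h1 : ((u' : G))⁻¹ * u = m' * (m : G)⁻¹ := by
      calc ((u' : G))⁻¹ * u = (u' : G)⁻¹ * (u * m) * (m : G)⁻¹ := by group
        _ = m' * (m : G)⁻¹ := by rw [h]; group
    have h2 : ((u' : G))⁻¹ * u ∈ U ⊓ M :=
      ⟨U.mul_mem (U.inv_mem u'.2) u.2, h1.symm ▸ M.mul_mem m'.2 (M.inv_mem m.2)⟩
    rw [hUM, Subgroup.mem_bot] at h2
    have h3 : u = u' := Subtype.ext (inv_mul_eq_one.mp h2).symm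
    exact ⟨h3, Subtype.ext (by rw [h3] at h; exact mul_left_cancel h)⟩
  choose d hd using hdec
  let A : G → Matrix (Option (Fin n)) (Option (Fin n)) F2 := fun g =>
    LinearMap.toMatrix' ((e.toLinearMap.comp
      ((MonoidHom.toAdditive (MulAut.conjNormal g : U ≃* U).toMonoidHom).toZModLinearMap 2)).comp
        e.symm.toLinearMap)
  have hA : ∀ g (u : U), (A g) *ᵥ e (Additive.ofMul u) = e (Additive.ofMul (MulAut.conjNormal g u)) := by
    intro g u
    show LinearMap.toMatrix' _ *ᵥ _ = _
    rw [LinearMap.toMatrix'_mulVec]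
    simp
  have hAext : ∀ (X : Matrix (Option (Fin n)) (Option (Fin n)) F2) g,
      (∀ u : U, X *ᵥ e (Additive.ofMul u) = e (Additive.ofMul (MulAut.conjNormal g u))) → X = A g := by
    intro X g h
    apply Matrix.toLin'.injective
    refine LinearMap.ext fun x => ?_
    obtain ⟨y, rfl⟩ := e.surjective x
    have := h y.toMul
    rw [← hA g y.toMul] at this
    simpa using this
  have hA1 : A 1 = 1 := (hAext 1 1 fun u => by simp).symm
  have hAm : ∀ g h, A (g * h) = A g * A h := fun g h => (hAext _ _ fun u => by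
    rw [← Matrix.mulVec_mulVec, hA, hA, map_mul]; rfl).symm
  let t : G → (Option (Fin n) → F2) := fun g => e (Additive.ofMul (d g).1)
  have ht : ∀ g h, t (g * h) = t g + A g *ᵥ t h := by
    intro g h
    have hcm : MulAut.conjNormal g (d h).1 = MulAut.conjNormal ((d g).2 : G) (d h).1 := by
      apply Subtype.ext
      rw [MulAut.conjNormal_apply, MulAut.conjNormal_apply]
      have hc : ∀ x ∈ U, ((d g).1 : G) * x * ((d g).1 : G)⁻¹ = x := fun x hx => by
        rw [show ((d g).1 : G) * x = x * (d g).1 from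
          congrArg Subtype.val (mul_comm' (M := U) (d g).1 ⟨x, hx⟩)]
        group
      have hmem : ((d g).2 : G) * (d h).1 * ((d g).2 : G)⁻¹ ∈ U :=
        (inferInstance : U.Normal).conj_mem _ (d h).1.2 _
      conv_lhs => rw [← hd g]
      calc ((d g).1 : G) * (d g).2 * (d h).1 * (((d g).1 : G) * (d g).2)⁻¹
          = ((d g).1 : G) * (((d g).2 : G) * (d h).1 * ((d g).2 : G)⁻¹) * ((d g).1 : G)⁻¹ := by group
        _ = _ := hc _ hmem
    have he1 : (d (g * h)).1 = (d g).1 * MulAut.conjNormal g (d h).1 := by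
      refine (huniq _ _ (d (g * h)).2 ((d g).2 * (d h).2) ?_).1
      rw [hd, hcm, Subgroup.coe_mul, Subgroup.coe_mul, MulAut.conjNormal_apply]
      conv_lhs => rw [← hd g, ← hd h]
      group
    show e _ = e _ + A g *ᵥ e _
    rw [hA, he1, ofMul_mul, map_add]
  have ht1 : t 1 = 0 := by
    have := ht 1 1
    rw [one_mul, hA1, Matrix.one_mulVec] at this
    exact left_eq_add.mp this
  let blk : G → Matrix (Option (Fin n) ⊕ Unit) (Option (Fin n) ⊕ Unit) F2 := fun g =>
    Matrix.fromBlocks (A g) (Matrix.of fun i _ => t g i) 0 1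
  have hblk : ∀ g h, blk (g * h) = blk g * blk h := by
    intro g h
    simp only [blk]
    rw [Matrix.fromBlocks_multiply]
    simp only [Matrix.mul_zero, Matrix.zero_mul, Matrix.mul_one, add_zero, zero_add]
    rw [hAm, ht]
    congr 1
    ext i u
    rw [Matrix.add_apply, Matrix.of_apply, Matrix.of_apply, Pi.add_apply, add_comm, Matrix.mul_apply]
    rfl
  have hblk1 : blk 1 = 1 := by
    simp only [blk, hA1, ht1]
    exact Matrix.fromBlocks_one
  let toM : G →* Matrix (Fin 2 ⊕ Fin n) (Fin 2 ⊕ Fin n) F2 :=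
    { toFun := fun g => Matrix.reindexAlgEquiv F2 F2 (affIdx n) (blk g)
      map_one' := by rw [hblk1, map_one]
      map_mul' := fun g h => by rw [hblk, map_mul] }
  let ψ := toM.toHomUnits
  have hψval : ∀ g, ((ψ g : Matrix.GeneralLinearGroup (Fin 2 ⊕ Fin n) F2) :
      Matrix (Fin 2 ⊕ Fin n) (Fin 2 ⊕ Fin n) F2) = Matrix.reindexAlgEquiv F2 F2 (affIdx n) (blk g) :=
    fun g => rfl
  have hU' : ∀ u : U, A u = 1 ∧ (d u).1 = u := by
    intro u
    refine ⟨(hAext 1 u fun x => ?_).symm, (huniq _ u (d u).2 1 (by rw [hd]; simp)).1⟩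
    rw [Matrix.one_mulVec, show MulAut.conjNormal (u : G) x = x from Subtype.ext (by
      rw [MulAut.conjNormal_apply, show (u : G) * x = x * u from
        congrArg Subtype.val (mul_comm' (M := U) u x)]
      group)]
  have hψinj : Function.Injective ψ := by
    rw [← MonoidHom.ker_eq_bot_iff, Subgroup.eq_bot_iff_forall]
    intro g hg
    have e1 : blk g = 1 := by
      have := congrArg Units.val (MonoidHom.mem_ker.mp hg)
      rw [hψval, Units.val_one, ← map_one (Matrix.reindexAlgEquiv F2 F2 (affIdx n))] at this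
      exact (Matrix.reindexAlgEquiv F2 F2 (affIdx n)).injective this
    rw [← Matrix.fromBlocks_one] at e1
    obtain ⟨hA', ht', -, -⟩ := Matrix.fromBlocks_inj.mp e1
    have hu1 : (d g).1 = 1 := by
      have ht0 : t g = 0 := funext fun i => congrFun (congrFun ht' i) ()
      have : Additive.ofMul (d g).1 = 0 := e.map_eq_zero_iff.mp ht0
      exact congrArg Additive.toMul this
    have hgm : g = ((d g).2 : G) := by
      conv_lhs => rw [← hd g, hu1]
      simp
    rw [hgm]
    refine hfaith _ (d g).2.2 fun u hu => ?_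
    have := hA g ⟨u, hu⟩
    rw [hA', Matrix.one_mulVec] at this
    have e2 := congrArg Subtype.val (Additive.ofMul.injective (e.injective this))
    rw [MulAut.conjNormal_apply, hgm] at e2
    exact e2.symm
  have hzψ : ((ψ z : Matrix.GeneralLinearGroup (Fin 2 ⊕ Fin n) F2) :
      Matrix (Fin 2 ⊕ Fin n) (Fin 2 ⊕ Fin n) F2) =
      Matrix.transvection (Sum.inl 0) (Sum.inl 1) 1 := by
    obtain ⟨h1, h2⟩ := hU' ⟨z, hzU⟩
    have htz : t z = Pi.single none 1 := by
      show e (Additive.ofMul (d z).1) = _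
      rw [h2, he]
    rw [hψval, transvection_eq_mat]
    ext i j
    simp only [Matrix.reindexAlgEquiv_apply, Matrix.reindex_apply, Matrix.submatrix_apply, blk,
      show A z = 1 from h1, htz]
    rcases i with i | i <;> rcases j with j | j
    · fin_cases i <;> fin_cases j <;> simp [affIdx, mat]
    · fin_cases i <;> simp [affIdx, mat]
    · fin_cases j <;> simp [affIdx, mat]
    · simp [affIdx, mat, Matrix.one_apply]
  have hrange : ∀ g : Matrix.GeneralLinearGroup (Fin 2 ⊕ Fin n) F2,
      (∃ c a b B, (g : Matrix (Fin 2 ⊕ Fin n) (Fin 2 ⊕ Fin n) F2) = mat c a b B) → g ∈ ψ.range := by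
    rintro g ⟨c, a, b, B, hg⟩
    set A₀ : Matrix (Option (Fin n)) (Option (Fin n)) F2 := Matrix.of fun i j =>
      mat c a b B (affIdx n (Sum.inl i)) (affIdx n (Sum.inl j)) with hA₀
    set t₀ : Option (Fin n) → F2 := fun i => mat c a b B (affIdx n (Sum.inl i)) (Sum.inl 1) with ht₀
    have hsub : (g : Matrix (Fin 2 ⊕ Fin n) (Fin 2 ⊕ Fin n) F2).submatrix (affIdx n) (affIdx n) =
        Matrix.fromBlocks A₀ (Matrix.of fun i _ => t₀ i) 0 1 := by
      rw [hg]
      ext i j
      rcases i with i | i <;> rcases j with j | j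
      · rfl
      · rfl
      · rcases j with _ | j <;> simp [affIdx, mat]
      · simp [affIdx, mat]
    have hdet : IsUnit A₀.det := by
      have h1 : IsUnit (g : Matrix (Fin 2 ⊕ Fin n) (Fin 2 ⊕ Fin n) F2).det :=
        (Matrix.isUnit_iff_isUnit_det _).mp g.isUnit
      rw [← Matrix.det_submatrix_equiv_self (affIdx n), hsub, Matrix.det_fromBlocks_zero₂₁,
        Matrix.det_one, mul_one] at h1
      exact h1
    haveI : Invertible A₀ := Matrix.invertibleOfIsUnitDet A₀ hdet
    let φ : U ≃* U :=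
      { toFun := fun u => (e.symm (A₀ *ᵥ e (Additive.ofMul u))).toMul
        invFun := fun u => (e.symm (A₀⁻¹ *ᵥ e (Additive.ofMul u))).toMul
        left_inv := fun u => by simp [Matrix.mulVec_mulVec]
        right_inv := fun u => by simp [Matrix.mulVec_mulVec]
        map_mul' := fun u v => by simp [Matrix.mulVec_add] }
    obtain ⟨m, hm, hφ⟩ := hfull φ
    set u : U := (e.symm t₀).toMul with hu
    refine ⟨(u : G) * m, Units.ext ?_⟩
    have hd' : (d ((u : G) * m)).1 = u := (huniq _ u (d ((u : G) * m)).2 ⟨m, hm⟩ (hd _)).1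
    have hAu : A ((u : G) * m) = A₀ := by
      rw [hAm, (hU' u).1, one_mul]
      refine (hAext A₀ m fun x => ?_).symm
      rw [show MulAut.conjNormal m x = φ x from Subtype.ext (by rw [MulAut.conjNormal_apply, hφ])]
      simp [φ]
    have htu : t ((u : G) * m) = t₀ := by
      show e (Additive.ofMul (d ((u : G) * m)).1) = _
      rw [hd', hu]; simp
    rw [hψval]
    simp only [blk, hAu, htu, ← hsub, Matrix.reindexAlgEquiv_apply, Matrix.reindex_apply,
      Matrix.submatrix_submatrix, Equiv.self_comp_symm, Matrix.submatrix_id_id]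
  obtain ⟨hZs, hcard, hE, -, hK⟩ := centralizer_structure ψ hψinj hn z hzψ hrange Q hQ
  refine ⟨hZs.extra, hcard, hE, isLarge_of_center_le_pCore hZs.extra hZs.centralizer_eq
    hZs.le_normalizer ?_, hK⟩
  rw [hZs.center_eq, Subgroup.zpowers_le]
  exact (le_sSup ⟨inferInstance, fun x => ⟨1, Subtype.ext (by
    rw [pow_one, Subgroup.coe_pow]; exact hU.2 _ x.2)⟩⟩ : U ≤ Cfsg.pCore 2 G) hzU

end CfsgLib.LargeExtraspecial.Transvection
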