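import Cfsg.Agent.LargeExtraspecial.Quotient
import Mathlib.LinearAlgebra.Matrix.GeneralLinearGroup.Defs
import Mathlib.LinearAlgebra.Matrix.Transvection

/-!
# The centralizer of a transvection over the field with two elements

Indices `Fin 2 ⊕ Fin n`; the transvection is `1 + E(inl 0, inl 1)`. Its centralizer consists of the
matrices `mat c a b B`; those with `B = 1` form the extraspecial radical.
-/

set_option autoImplicit false
set_option linter.style.haveILetI false

open Matrix
open scoped commutatorElement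

namespace CfsgLib.LargeExtraspecial.Transvection

abbrev F2 := ZMod 2

variable {n : ℕ}

theorem f2_add_self : ∀ x : F2, x + x = 0 := by decide
theorem f2_one_add_one : (1 : F2) + 1 = 0 := by decide
theorem f2_zero_ne_one : (0 : F2) ≠ 1 := by decide
theorem f2_eq_one : ∀ x : F2, x ≠ 0 → x = 1 := by decide
theorem f2_cases : ∀ x : F2, x = 0 ∨ x = 1 := by decide
theorem f2_of_mul : ∀ p q : F2, p * q = 1 → q = 1 := by decide
theorem f2_id₁ : ∀ p q : F2, p + (p + q) + q = 0 := by decide
theorem f2_id₂ : ∀ c p q : F2, 0 + c + p = c + 0 + q → q = p := by decide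
theorem f2_id₃ : ∀ c c' p q : F2, c + c' + p = p + q + (c' + c + q) := by decide
theorem f2_id₄ : ∀ c p : F2, c + c + p = p := by decide

theorem vec_add_self (u : Fin n → F2) : u + u = 0 := funext fun i => f2_add_self (u i)

/-- The general element of the centralizer. -/
def mat (c : F2) (a b : Fin n → F2) (B : Matrix (Fin n) (Fin n) F2) :
    Matrix (Fin 2 ⊕ Fin n) (Fin 2 ⊕ Fin n) F2 :=
  Matrix.of (Sum.elim
    (fun i => Sum.elim (fun j => if i = j then 1 else if i = 0 then c else 0)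
      (fun j => if i = 0 then a j else 0))
    (fun i => Sum.elim (fun j => if j = 1 then b i else 0) (fun j => B i j)))

theorem mat_mul (c c' : F2) (a a' b b' : Fin n → F2) (B B' : Matrix (Fin n) (Fin n) F2) :
    mat c a b B * mat c' a' b' B' =
      mat (c + c' + a ⬝ᵥ b') (a' + a ᵥ* B') (b + B *ᵥ b') (B * B') := by
  ext i j
  rw [Matrix.mul_apply, Fintype.sum_sum_type, Fin.sum_univ_two]
  rcases i with i | i <;> rcases j with j | j
  · fin_cases i <;> fin_cases j <;> simp [mat, dotProduct, add_comm c c']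
  · fin_cases i <;> simp [mat, Matrix.vecMul, dotProduct]
  · fin_cases j <;> simp [mat, Matrix.mulVec, dotProduct]
  · simp [mat, Matrix.mul_apply]

theorem mat_one : mat (0 : F2) (0 : Fin n → F2) 0 1 = 1 := by
  ext i j
  rcases i with i | i <;> rcases j with j | j
  · fin_cases i <;> fin_cases j <;> simp [mat]
  · fin_cases i <;> simp [mat]
  · fin_cases j <;> simp [mat]
  · simp [mat, Matrix.one_apply]

theorem mat_inj {c c' : F2} {a a' b b' : Fin n → F2} {B B' : Matrix (Fin n) (Fin n) F2}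
    (h : mat c a b B = mat c' a' b' B') : c = c' ∧ a = a' ∧ b = b' ∧ B = B' := by
  refine ⟨?_, funext fun j => ?_, funext fun i => ?_, Matrix.ext fun i j => ?_⟩
  · simpa [mat] using congrFun (congrFun h (Sum.inl 0)) (Sum.inl 1)
  · simpa [mat] using congrFun (congrFun h (Sum.inl 0)) (Sum.inr j)
  · simpa [mat] using congrFun (congrFun h (Sum.inr i)) (Sum.inl 1)
  · simpa [mat] using congrFun (congrFun h (Sum.inr i)) (Sum.inr j)

theorem dot_comm_zero (a : Fin n → F2) : a ⬝ᵥ (0 : Fin n → F2) = 0 := dotProduct_zero a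

/-- Commuting with an elementary transvection. -/
theorem entries_of_commute {ι : Type*} [Fintype ι] [DecidableEq ι] {M : Matrix ι ι F2} {p q : ι}
    (h : M * Matrix.transvection p q (1 : F2) = Matrix.transvection p q (1 : F2) * M) :
    (∀ i, i ≠ p → M i p = 0) ∧ (∀ j, j ≠ q → M q j = 0) ∧ M p p = M q q := by
  have key : ∀ i j, (if j = q then M i p else 0) = (if i = p then M q j else 0) := by
    intro i j
    have e := congrFun (congrFun h i) j
    rw [Matrix.transvection, mul_add, add_mul, mul_one, one_mul, Matrix.add_apply, Matrix.add_apply,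
      add_right_inj] at e
    simpa [Matrix.mul_apply, Matrix.single, Finset.sum_ite_eq, Finset.sum_ite_eq', eq_comm,
      ite_and] using e
  refine ⟨fun i hi => ?_, fun j hj => ?_, ?_⟩
  · simpa [hi] using key i q
  · simpa [hj] using (key p j).symm
  · simpa using key p q

theorem transvection_eq_mat :
    Matrix.transvection (Sum.inl 0 : Fin 2 ⊕ Fin n) (Sum.inl 1) (1 : F2) = mat 1 0 0 1 := by
  ext i j
  rcases i with i | i <;> rcases j with j | j
  · fin_cases i <;> fin_cases j <;> simp [mat, Matrix.transvection, Matrix.single]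
  · fin_cases i <;> simp [mat, Matrix.transvection, Matrix.single]
  · fin_cases j <;> simp [mat, Matrix.transvection, Matrix.single]
  · simp [mat, Matrix.transvection, Matrix.single, Matrix.one_apply]

theorem transvection_a_eq_mat (k : Fin n) :
    Matrix.transvection (Sum.inl 0 : Fin 2 ⊕ Fin n) (Sum.inr k) (1 : F2) =
      mat 0 (Pi.single k 1) 0 1 := by
  ext i j
  rcases i with i | i <;> rcases j with j | j
  · fin_cases i <;> fin_cases j <;> simp [mat, Matrix.transvection, Matrix.single]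
  · fin_cases i <;> simp [mat, Matrix.transvection, Matrix.single, Pi.single_apply, eq_comm]
  · fin_cases j <;> simp [mat, Matrix.transvection, Matrix.single]
  · simp [mat, Matrix.transvection, Matrix.single, Matrix.one_apply]

theorem transvection_b_eq_mat (k : Fin n) :
    Matrix.transvection (Sum.inr k : Fin 2 ⊕ Fin n) (Sum.inl 1) (1 : F2) =
      mat 0 0 (Pi.single k 1) 1 := by
  ext i j
  rcases i with i | i <;> rcases j with j | j
  · fin_cases i <;> fin_cases j <;> simp [mat, Matrix.transvection, Matrix.single]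
  · fin_cases i <;> simp [mat, Matrix.transvection, Matrix.single]
  · fin_cases j <;> simp [mat, Matrix.transvection, Matrix.single, Pi.single_apply, eq_comm]
  · simp [mat, Matrix.transvection, Matrix.single, Matrix.one_apply]

/-- A normal 2-subgroup of `GL(n,2)` is trivial. -/
theorem normal_two_subgroup_eq_bot {W : Subgroup (Matrix.GeneralLinearGroup (Fin n) F2)}
    [hW : W.Normal] (hW2 : IsPGroup 2 W) : W = ⊥ := by
  haveI : Fact (Nat.Prime 2) := ⟨Nat.prime_two⟩
  rcases Nat.eq_zero_or_pos n with rfl | hn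
  · exact Subgroup.eq_bot_iff_forall _ |>.mpr fun x _ => Subsingleton.elim _ _
  letI : MulAction W (Fin n → F2) :=
    { smul := fun w v => ((w : Matrix.GeneralLinearGroup (Fin n) F2) : Matrix (Fin n) (Fin n) F2) *ᵥ v
      one_smul := fun v => Matrix.one_mulVec v
      mul_smul := fun w w' v => (Matrix.mulVec_mulVec v _ _).symm }
  haveI : Fintype (MulAction.fixedPoints W (Fin n → F2)) := Fintype.ofFinite _
  have hdvd : 2 ∣ Nat.card (Fin n → F2) := by
    simp [hn.ne']
  have h0 : (0 : Fin n → F2) ∈ MulAction.fixedPoints W (Fin n → F2) := fun w =>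
    Matrix.mulVec_zero ((w : Matrix.GeneralLinearGroup (Fin n) F2) : Matrix (Fin n) (Fin n) F2)
  obtain ⟨v, hv, hv0⟩ := hW2.exists_fixed_point_of_prime_dvd_card_of_fixed_point _ hdvd h0
  have hfix : ∀ w ∈ W, (w : Matrix (Fin n) (Fin n) F2) *ᵥ v = v := fun w hw => hv ⟨w, hw⟩
  have hmove : ∀ g : Matrix.GeneralLinearGroup (Fin n) F2, ∀ u : Fin n → F2,
      (∀ w ∈ W, (w : Matrix (Fin n) (Fin n) F2) *ᵥ u = u) →
      ∀ w ∈ W, (w : Matrix (Fin n) (Fin n) F2) *ᵥ ((g : Matrix (Fin n) (Fin n) F2) *ᵥ u) =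
        (g : Matrix (Fin n) (Fin n) F2) *ᵥ u := by
    intro g u hu w hw
    have h1 := hu _ (hW.conj_mem w hw g⁻¹)
    rw [inv_inv, Units.val_mul, Units.val_mul, ← Matrix.mulVec_mulVec, ← Matrix.mulVec_mulVec] at h1
    calc (w : Matrix (Fin n) (Fin n) F2) *ᵥ ((g : Matrix (Fin n) (Fin n) F2) *ᵥ u)
        = ((g : Matrix (Fin n) (Fin n) F2) * ((g⁻¹ : Matrix.GeneralLinearGroup (Fin n) F2) :
            Matrix (Fin n) (Fin n) F2)) *ᵥ ((w : Matrix (Fin n) (Fin n) F2) *ᵥ
              ((g : Matrix (Fin n) (Fin n) F2) *ᵥ u)) := by rw [Units.mul_inv, Matrix.one_mulVec]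
      _ = (g : Matrix (Fin n) (Fin n) F2) *ᵥ u := by rw [← Matrix.mulVec_mulVec, h1]
  have hadd : ∀ u u' : Fin n → F2, (∀ w ∈ W, (w : Matrix (Fin n) (Fin n) F2) *ᵥ u = u) →
      (∀ w ∈ W, (w : Matrix (Fin n) (Fin n) F2) *ᵥ u' = u') →
      ∀ w ∈ W, (w : Matrix (Fin n) (Fin n) F2) *ᵥ (u + u') = u + u' := fun u u' h h' w hw => by
    rw [Matrix.mulVec_add, h w hw, h' w hw]
  let T : ∀ p q : Fin n, p ≠ q → Matrix.GeneralLinearGroup (Fin n) F2 := fun p q hpq =>
    ⟨Matrix.transvection p q 1, Matrix.transvection p q 1, by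
      rw [Matrix.transvection_mul_transvection_same _ _ hpq, f2_one_add_one,
        Matrix.transvection_zero], by
      rw [Matrix.transvection_mul_transvection_same _ _ hpq, f2_one_add_one,
        Matrix.transvection_zero]⟩
  have hT : ∀ p q (hpq : p ≠ q) (u : Fin n → F2),
      (T p q hpq : Matrix (Fin n) (Fin n) F2) *ᵥ u = u + Pi.single p (u q) := by
    intro p q hpq u
    show Matrix.transvection p q 1 *ᵥ u = _
    rw [Matrix.transvection, Matrix.add_mulVec, Matrix.one_mulVec, Matrix.single_mulVec]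
    congr 1
    ext i
    by_cases e : i = p
    · subst e; simp
    · simp [e]
  obtain ⟨p, hp⟩ : ∃ p, v p ≠ 0 := Function.ne_iff.mp hv0.symm
  have hp1 : v p = 1 := f2_eq_one _ hp
  have hneg : ∀ u : Fin n → F2, u + u = 0 := fun u => funext fun i =>
    f2_add_self (u i)
  have hq : ∀ q, q ≠ p → ∀ w ∈ W, (w : Matrix (Fin n) (Fin n) F2) *ᵥ Pi.single q (1 : F2) =
      Pi.single q 1 := by
    intro q hqp
    have h1 := hmove (T q p hqp) v hfix
    rw [hT _ _ hqp, hp1] at h1
    have h2 := hadd _ _ hfix h1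
    rwa [← add_assoc, hneg, zero_add] at h2
  have hbasis : ∀ q, ∀ w ∈ W, (w : Matrix (Fin n) (Fin n) F2) *ᵥ Pi.single q (1 : F2) =
      Pi.single q 1 := by
    intro q
    by_cases hqp : q = p
    · subst hqp
      by_cases hone : ∀ r, r = q
      · have : v = Pi.single q 1 := funext fun r => by rw [hone r, Pi.single_eq_same, hp1]
        exact this ▸ hfix
      · push Not at hone
        obtain ⟨r, hr⟩ := hone
        have h1 := hmove (T q r (Ne.symm hr)) _ (hq r hr)
        rw [hT _ _ (Ne.symm hr), Pi.single_eq_same] at h1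
        have h2 := hadd _ _ (hq r hr) h1
        rwa [← add_assoc, hneg, zero_add] at h2
    · exact hq q hqp
  refine (Subgroup.eq_bot_iff_forall _).mpr fun w hw => Units.ext (Matrix.ext fun i j => ?_)
  have := congrFun (hbasis j w hw) i
  simpa [Matrix.mulVec_single, Pi.single_apply, Matrix.one_apply] using this

/-- The structure of the centralizer of the standard transvection, for any group mapped injectively
into `GL` of dimension `n + 2` with image containing that centralizer. -/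
theorem centralizer_structure {H : Type*} [Group H] [Finite H]
    (ψ : H →* Matrix.GeneralLinearGroup (Fin 2 ⊕ Fin n) F2) (hψ : Function.Injective ψ) (hn : 1 ≤ n)
    (z : H) (hz : (ψ z : Matrix (Fin 2 ⊕ Fin n) (Fin 2 ⊕ Fin n) F2) =
      Matrix.transvection (Sum.inl 0) (Sum.inl 1) 1)
    (hrange : ∀ g : Matrix.GeneralLinearGroup (Fin 2 ⊕ Fin n) F2,
      (∃ c a b B, (g : Matrix (Fin 2 ⊕ Fin n) (Fin 2 ⊕ Fin n) F2) = mat c a b B) → g ∈ ψ.range)
    (Q : Subgroup H) (hQ : Q = (Cfsg.pCore 2 ↥(Subgroup.centralizer ({z} : Set H))).map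
      (Subgroup.centralizer ({z} : Set H)).subtype) :
    IsZSub Q z ∧ Nat.card Q = 2 ^ (2 * n + 1) ∧
    (∃ E : Subgroup H, E ≤ Q ∧ Cfsg.IsElementaryAbelian 2 E ∧ Nat.card ↥E = 2 ^ (n + 1)) ∧
    (∀ c a b, ∃ h ∈ Q, (ψ h : Matrix (Fin 2 ⊕ Fin n) (Fin 2 ⊕ Fin n) F2) = mat c a b 1) ∧
    ∃ K : Subgroup H, K ≤ Subgroup.centralizer ({z} : Set H) ∧ Q ⊓ K = ⊥ ∧
      Q ⊔ K = Subgroup.centralizer ({z} : Set H) ∧
      Nonempty (↥K ≃* Matrix.GeneralLinearGroup (Fin n) F2) := by
  haveI : Fact (Nat.Prime 2) := ⟨Nat.prime_two⟩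
  let val : H → Matrix (Fin 2 ⊕ Fin n) (Fin 2 ⊕ Fin n) F2 := fun h => (ψ h : Matrix _ _ F2)
  have vmul : ∀ x y, val (x * y) = val x * val y := fun x y => by simp [val]
  have vinj : Function.Injective val := fun x y e => hψ (Units.ext e)
  have vone : val 1 = mat 0 0 0 1 := by simp [val, mat_one]
  set C := Subgroup.centralizer ({z} : Set H) with hC
  have hvz : val z = mat 1 0 0 1 := hz.trans transvection_eq_mat
  -- elements of the centralizer have the form `mat`
  have hform : ∀ x ∈ C, ∃ c a b B, val x = mat c a b B := by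
    intro x hx
    have e : val x * val z = val z * val x := by
      rw [← vmul, ← vmul, Subgroup.mem_centralizer_singleton_iff.mp hx]
    have hvz' : val z = Matrix.transvection (Sum.inl 0) (Sum.inl 1) 1 := hz
    rw [hvz'] at e
    obtain ⟨h1, h2, h3⟩ := entries_of_commute e
    have h00 : val x (Sum.inl 0) (Sum.inl 0) = 1 := by
      have e1 := congrFun (congrFun (Units.inv_mul (ψ x)) (Sum.inl 0)) (Sum.inl 0)
      rw [Matrix.mul_apply, Finset.sum_eq_single (Sum.inl 0)] at e1
      · simp only [Matrix.one_apply_eq] at e1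
        refine f2_of_mul _ _ e1
      · intro k _ hk
        exact mul_eq_zero_of_right _ (h1 k hk)
      · simp
    refine ⟨val x (Sum.inl 0) (Sum.inl 1), fun j => val x (Sum.inl 0) (Sum.inr j),
      fun i => val x (Sum.inr i) (Sum.inl 1), fun i j => val x (Sum.inr i) (Sum.inr j), ?_⟩
    ext i j
    rcases i with i | i <;> rcases j with j | j
    · fin_cases i <;> fin_cases j
      · simpa [mat] using h00
      · simp [mat]
      · simpa [mat] using h1 (Sum.inl 1) (by simp)
      · simpa [mat] using h3.symm.trans h00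
    · fin_cases i
      · simp [mat]
      · simpa [mat] using h2 (Sum.inr j) (by simp)
    · fin_cases j
      · simpa [mat] using h1 (Sum.inr i) (by simp)
      · simp [mat]
    · simp [mat]
  have hmemC : ∀ x : H, (∃ c a b B, val x = mat c a b B) → x ∈ C := by
    rintro x ⟨c, a, b, B, hx⟩
    rw [hC, Subgroup.mem_centralizer_singleton_iff]
    apply vinj
    rw [vmul, vmul, hx, hvz, mat_mul, mat_mul]
    simp [add_comm]
  let lvl : H → Matrix (Fin n) (Fin n) F2 := fun x i j => val x (Sum.inr i) (Sum.inr j)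
  have hlvl : ∀ x c a b B, val x = mat c a b B → lvl x = B := fun x c a b B e => by
    ext i j; simp [lvl, e, mat]
  have hlmul : ∀ x ∈ C, ∀ y ∈ C, lvl (x * y) = lvl x * lvl y := by
    intro x hx y hy
    obtain ⟨c, a, b, B, ex⟩ := hform x hx
    obtain ⟨c', a', b', B', ey⟩ := hform y hy
    rw [hlvl x _ _ _ _ ex, hlvl y _ _ _ _ ey]
    exact hlvl _ _ _ _ _ (by rw [vmul, ex, ey, mat_mul])
  have hlone : lvl 1 = 1 := hlvl 1 0 0 0 1 vone
  let π : C →* Matrix.GeneralLinearGroup (Fin n) F2 :=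
    { toFun := fun x => ⟨lvl x, lvl (x⁻¹ : C),
        by rw [← hlmul _ x.2 _ (x⁻¹).2]; simp [hlone],
        by rw [← hlmul _ (x⁻¹).2 _ x.2]; simp [hlone]⟩
      map_one' := Units.ext hlone
      map_mul' := fun x y => Units.ext (hlmul _ x.2 _ y.2) }
  have hex : ∀ c a b (B : Matrix.GeneralLinearGroup (Fin n) F2), ∃ x : H,
      val x = mat c a b (B : Matrix (Fin n) (Fin n) F2) := by
    intro c a b B
    set Bi : Matrix (Fin n) (Fin n) F2 := (B⁻¹).val with hBi
    set a' := a ᵥ* Bi with ha'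
    set b' := Bi *ᵥ b with hb'
    have hBB : (B : Matrix (Fin n) (Fin n) F2) * Bi = 1 := B.mul_inv
    have hBB' : Bi * (B : Matrix (Fin n) (Fin n) F2) = 1 := B.inv_mul
    have hneg : ∀ u : Fin n → F2, u + u = 0 := fun u => funext fun i =>
      f2_add_self (u i)
    have e1 : mat c a b (B : Matrix (Fin n) (Fin n) F2) * mat (c + a ⬝ᵥ b') a' b' Bi = 1 := by
      rw [mat_mul, hBB, hb', Matrix.mulVec_mulVec, hBB, Matrix.one_mulVec, hneg, hneg,
        ← mat_one]
      congr 1
      exact f2_id₁ _ _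
    obtain ⟨x, hx⟩ := hrange ⟨mat c a b (B : Matrix (Fin n) (Fin n) F2), mat (c + a ⬝ᵥ b') a' b' Bi,
      e1, mul_eq_one_comm.mp e1⟩ ⟨_, _, _, _, rfl⟩
    exact ⟨x, congrArg Units.val hx⟩
  have hπsurj : Function.Surjective π := fun B => by
    obtain ⟨x, hx⟩ := hex 0 0 0 B
    exact ⟨⟨x, hmemC x ⟨_, _, _, _, hx⟩⟩, Units.ext (hlvl x _ _ _ _ hx)⟩
  have hker : ∀ x : C, x ∈ π.ker ↔ ∃ c a b, val x = mat c a b 1 := by
    intro x
    obtain ⟨c, a, b, B, ex⟩ := hform x x.2
    rw [MonoidHom.mem_ker, Units.ext_iff]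
    show lvl x = 1 ↔ _
    rw [hlvl _ _ _ _ _ ex]
    refine ⟨fun e => ⟨c, a, b, e ▸ ex⟩, ?_⟩
    rintro ⟨c', a', b', e⟩
    exact (mat_inj (ex.symm.trans e)).2.2.2
  let par : F2 × (Fin n → F2) × (Fin n → F2) → H := fun p => (hex p.1 p.2.1 p.2.2 1).choose
  have hpar : ∀ p, val (par p) = mat p.1 p.2.1 p.2.2 1 := fun p => by
    simpa using (hex p.1 p.2.1 p.2.2 1).choose_spec
  set Q' := π.ker.map C.subtype with hQ'
  have hQ'mem : ∀ x : H, x ∈ Q' ↔ ∃ c a b, val x = mat c a b 1 := by
    intro x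
    constructor
    · rintro ⟨y, hy, rfl⟩; exact (hker y).mp hy
    · rintro ⟨c, a, b, e⟩
      exact ⟨⟨x, hmemC x ⟨c, a, b, 1, e⟩⟩, (hker _).mpr ⟨c, a, b, e⟩, rfl⟩
  have hbij : Function.Bijective (fun p => (⟨par p, (hQ'mem _).mpr ⟨_, _, _, hpar p⟩⟩ : Q')) := by
    constructor
    · intro p q e
      have e' : val (par p) = val (par q) := congrArg (fun t : Q' => val t) e
      rw [hpar, hpar] at e'
      obtain ⟨h1, h2, h3, -⟩ := mat_inj e'
      exact Prod.ext h1 (Prod.ext h2 h3)
    · rintro ⟨x, hx⟩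
      obtain ⟨c, a, b, e⟩ := (hQ'mem x).mp hx
      exact ⟨(c, a, b), Subtype.ext (vinj ((hpar _).trans e.symm))⟩
  have hcardQ' : Nat.card Q' = 2 ^ (2 * n + 1) := by
    rw [← Nat.card_congr (Equiv.ofBijective _ hbij)]
    simp [Nat.card_prod]
    ring
  have hQ'p : IsPGroup 2 Q' := IsPGroup.of_card hcardQ'
  have hzv : ∀ ε : F2, ∃ h : H, (h = 1 ∨ h = z) ∧ val h = mat ε 0 0 1 := by
    intro ε
    rcases f2_cases ε with rfl | rfl
    · exact ⟨1, Or.inl rfl, vone⟩
    · exact ⟨z, Or.inr rfl, hvz⟩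
  have hzQ' : z ∈ Q' := (hQ'mem z).mpr ⟨_, _, _, hvz⟩
  have hz1 : z ≠ 1 := fun e => by
    rw [e, vone] at hvz
    exact absurd (mat_inj hvz).1 f2_zero_ne_one
  have hzz : z * z = 1 := vinj (by rw [vmul, hvz, vone, mat_mul]; simp [f2_one_add_one])
  have hz2 : orderOf z = 2 := orderOf_eq_prime (by rw [sq, hzz]) hz1
  -- `C(Q) = Z`
  have hcent : ∀ x : H, (∀ y ∈ Q', y * x = x * y) → x = 1 ∨ x = z := by
    intro x hx
    have hxC : x ∈ C := Subgroup.mem_centralizer_singleton_iff.mpr (hx z hzQ').symm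
    obtain ⟨c, a, b, B, e⟩ := hform x hxC
    have key : ∀ (a' b' : Fin n → F2), (a ⬝ᵥ b') = a' ⬝ᵥ b ∧ a' + a = a + a' ᵥ* B ∧ B *ᵥ b' = b' := by
      intro a' b'
      have h := congrArg val (hx (par (0, a', b')) ((hQ'mem _).mpr ⟨_, _, _, hpar _⟩))
      rw [vmul, vmul, hpar, e, mat_mul, mat_mul] at h
      obtain ⟨h1, h2, h3, -⟩ := mat_inj h
      rw [Matrix.vecMul_one] at h2
      rw [Matrix.one_mulVec, add_comm b' b] at h3
      refine ⟨?_, h2.symm.trans (by rw [add_comm]), (add_left_cancel h3).symm⟩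
      exact f2_id₂ _ _ _ h1
    have hB : B = 1 := Matrix.ext fun i j => by
      have := congrFun (key 0 (Pi.single j 1)).2.2 i
      simpa [Matrix.mulVec_single, Pi.single_apply, Matrix.one_apply] using this
    have ha : a = 0 := funext fun j => by
      simpa [dotProduct, Pi.single_apply] using (key 0 (Pi.single j 1)).1
    have hb : b = 0 := funext fun j => by
      simpa [dotProduct, Pi.single_apply] using (key (Pi.single j 1) 0).1.symm
    rw [ha, hb, hB] at e
    obtain ⟨h, hh, he⟩ := hzv c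
    rw [vinj (e.trans he.symm)]
    exact hh
  have hmulQ : ∀ x ∈ Q', ∀ y ∈ Q', ∃ h : H, (h = 1 ∨ h = z) ∧ x * y = h * (y * x) := by
    intro x hx y hy
    obtain ⟨c, a, b, ex⟩ := (hQ'mem x).mp hx
    obtain ⟨c', a', b', ey⟩ := (hQ'mem y).mp hy
    obtain ⟨h, hh, he⟩ := hzv (a ⬝ᵥ b' + a' ⬝ᵥ b)
    refine ⟨h, hh, vinj ?_⟩
    rw [vmul, vmul, vmul, ex, ey, he, mat_mul, mat_mul, mat_mul]
    simp only [Matrix.vecMul_one, Matrix.one_mulVec, Matrix.mul_one, zero_add, add_zero,
      zero_dotProduct]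
    rw [add_comm a' a, add_comm b b']
    congr 1
    exact f2_id₃ _ _ _ _
  have hcm : ∀ x ∈ Q', ∀ y ∈ Q', x * y * x⁻¹ * y⁻¹ = 1 ∨ x * y * x⁻¹ * y⁻¹ = z := by
    intro x hx y hy
    obtain ⟨h, hh, he⟩ := hmulQ x hx y hy
    rw [he, show h * (y * x) * x⁻¹ * y⁻¹ = h from by group]
    exact hh
  have hsq : ∀ x ∈ Q', x * x = 1 ∨ x * x = z := by
    intro x hx
    obtain ⟨c, a, b, ex⟩ := (hQ'mem x).mp hx
    obtain ⟨h, hh, he⟩ := hzv (a ⬝ᵥ b)
    have : x * x = h := by
      apply vinj
      rw [vmul, ex, he, mat_mul]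
      simp only [Matrix.vecMul_one, Matrix.one_mulVec, Matrix.mul_one]
      rw [show a + a = 0 from funext fun i => f2_add_self (a i),
        show b + b = 0 from funext fun i => f2_add_self (b i)]
      congr 1
      exact f2_id₄ _ _
    rw [this]; exact hh
  have hcommz : ∀ x ∈ Q', x * z = z * x := fun x hx => by
    obtain ⟨y, -, rfl⟩ := hx
    exact Subgroup.mem_centralizer_singleton_iff.mp y.2
  obtain ⟨hE, hcz⟩ := isExtraspecial_of_props hQ'p hz2 hzQ' hcommz hsq hcm
    (fun x _ hx => hcent x hx) (by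
      let k : Fin n := ⟨0, hn⟩
      refine ⟨par (0, Pi.single k 1, 0), (hQ'mem _).mpr ⟨_, _, _, hpar _⟩, par (0, 0, Pi.single k 1),
        (hQ'mem _).mpr ⟨_, _, _, hpar _⟩, fun e => ?_⟩
      have := congrArg val e
      rw [vmul, vmul, hpar, hpar, mat_mul, mat_mul] at this
      have h1 := (mat_inj this).1
      simp [dotProduct, Pi.single_apply] at h1)
  have hQQ' : Q = Q' := by
    rw [hQ, hQ']
    congr 1
    refine le_antisymm ?_ ?_
    · haveI := pCore_normal' 2 C
      intro x hx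
      haveI : ((Cfsg.pCore 2 C).map π).Normal := Subgroup.Normal.map inferInstance π hπsurj
      have := normal_two_subgroup_eq_bot (W := (Cfsg.pCore 2 C).map π) ((isPGroup_pCore 2 C).map π)
      rw [MonoidHom.mem_ker, ← Subgroup.mem_bot, ← this]
      exact ⟨x, hx, rfl⟩
    · exact le_sSup ⟨inferInstance, hQ'p.of_equiv
        (π.ker.equivMapOfInjective _ C.subtype_injective).symm⟩
  have hzsub : IsZSub Q' z := by
    refine ⟨hE, ?_, ?_, hcz, hz2⟩
    · rw [hcz]
      refine le_antisymm (fun x hx => ?_) (Subgroup.zpowers_le.mpr ?_)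
      · rcases hcent x (Subgroup.mem_centralizer_iff.mp hx) with e | e <;> rw [e]
        · exact one_mem _
        · exact Subgroup.mem_zpowers z
      · exact Subgroup.mem_centralizer_iff.mpr hcommz
    · rw [hcz, centralizer_zpowers]
      intro c hc
      have key : ∀ d ∈ C, ∀ q ∈ Q', d * q * d⁻¹ ∈ Q' := by
        rintro d hd _ ⟨q, hq, rfl⟩
        exact ⟨_, π.normal_ker.conj_mem q hq ⟨d, hd⟩, rfl⟩
      refine Subgroup.mem_normalizer_iff.mpr fun q => ⟨key c hc q, fun hq => ?_⟩
      simpa [mul_assoc] using key c⁻¹ (inv_mem hc) _ hq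
  rw [hQQ']
  refine ⟨hzsub, hcardQ', ?_, fun c a b => ⟨par (c, a, b), (hQ'mem _).mpr ⟨_, _, _, hpar _⟩, hpar _⟩, ?_⟩
  · -- the elementary abelian subgroup
    let E : Subgroup H :=
      { carrier := {x | ∃ c b, val x = mat c 0 b 1}
        one_mem' := ⟨0, 0, vone⟩
        mul_mem' := by
          rintro x y ⟨c, b, ex⟩ ⟨c', b', ey⟩
          exact ⟨c + c', b + b', by rw [vmul, ex, ey, mat_mul]; simp⟩
        inv_mem' := by
          rintro x ⟨c, b, ex⟩
          have : x * x = 1 := vinj (by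
            rw [vmul, ex, mat_mul, vone]
            simp only [Matrix.vecMul_one, Matrix.one_mulVec, Matrix.mul_one, zero_dotProduct,
              add_zero]
            rw [show b + b = 0 from funext fun i => f2_add_self (b i),
              f2_add_self c])
          exact ⟨c, b, by rw [inv_eq_of_mul_eq_one_right this]; exact ex⟩ }
    have hEmem : ∀ x, x ∈ E ↔ ∃ c b, val x = mat c 0 b 1 := fun x => Iff.rfl
    refine ⟨E, fun x hx => ?_, ⟨⟨⟨fun x y => ?_⟩⟩, fun x hx => ?_⟩, ?_⟩
    · obtain ⟨c, b, e⟩ := (hEmem x).mp hx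
      exact (hQ'mem x).mpr ⟨c, 0, b, e⟩
    · obtain ⟨c, b, ex⟩ := (hEmem _).mp x.2
      obtain ⟨c', b', ey⟩ := (hEmem _).mp y.2
      apply Subtype.ext
      apply vinj
      simp only [Subgroup.coe_mul]
      rw [vmul, vmul, ex, ey, mat_mul, mat_mul]
      simp [add_comm]
    · obtain ⟨c, b, ex⟩ := (hEmem _).mp hx
      apply vinj
      rw [sq, vmul, ex, mat_mul, vone]
      simp only [Matrix.vecMul_one, Matrix.one_mulVec, Matrix.mul_one, zero_dotProduct, add_zero]
      rw [show b + b = 0 from funext fun i => f2_add_self (b i),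
        f2_add_self c]
    · have hb : Function.Bijective (fun p : F2 × (Fin n → F2) =>
          (⟨par (p.1, 0, p.2), (hEmem _).mpr ⟨_, _, hpar _⟩⟩ : E)) := by
        constructor
        · intro p q e
          have e' : val (par (p.1, 0, p.2)) = val (par (q.1, 0, q.2)) :=
            congrArg (fun t : E => val t) e
          rw [hpar, hpar] at e'
          obtain ⟨h1, -, h3, -⟩ := mat_inj e'
          exact Prod.ext h1 h3
        · rintro ⟨x, hx⟩
          obtain ⟨c, b, e⟩ := (hEmem x).mp hx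
          exact ⟨(c, b), Subtype.ext (vinj ((hpar _).trans e.symm))⟩
      rw [← Nat.card_congr (Equiv.ofBijective _ hb)]
      simp [Nat.card_prod]
      ring
  · -- the complement
    let K : Subgroup H :=
      { carrier := {x | ∃ B, val x = mat 0 0 0 B}
        one_mem' := ⟨1, vone⟩
        mul_mem' := by
          rintro x y ⟨B, ex⟩ ⟨B', ey⟩
          exact ⟨B * B', by rw [vmul, ex, ey, mat_mul]; simp⟩
        inv_mem' := by
          rintro x ⟨B, ex⟩
          obtain ⟨c, a, b, B', ey⟩ := hform x⁻¹ (inv_mem (hmemC x ⟨_, _, _, _, ex⟩))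
          have h := congrArg val (inv_mul_cancel x)
          have h' := congrArg val (mul_inv_cancel x)
          rw [vmul, ey, ex, mat_mul, vone] at h
          rw [vmul, ex, ey, mat_mul, vone] at h'
          simp only [dotProduct_zero, zero_dotProduct, Matrix.mulVec_zero, Matrix.zero_vecMul,
            add_zero, zero_add] at h h'
          obtain ⟨hc, -, hb, -⟩ := mat_inj h
          obtain ⟨-, ha, -, -⟩ := mat_inj h'
          exact ⟨B', by rw [ey, hc, ha, hb]⟩ }
    have hKmem : ∀ x, x ∈ K ↔ ∃ B, val x = mat 0 0 0 B := fun x => Iff.rfl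
    have hKC : K ≤ C := fun x hx => by
      obtain ⟨B, e⟩ := (hKmem x).mp hx
      exact hmemC x ⟨_, _, _, _, e⟩
    refine ⟨K, hKC, ?_, ?_, ?_⟩
    · refine (Subgroup.eq_bot_iff_forall _).mpr fun x hx => ?_
      obtain ⟨c, a, b, e⟩ := (hQ'mem x).mp hx.1
      obtain ⟨B, e'⟩ := (hKmem x).mp hx.2
      obtain ⟨h1, h2, h3, h4⟩ := mat_inj (e'.symm.trans e)
      exact vinj (by rw [vone, e', h4])
    · refine le_antisymm (sup_le (Subgroup.map_subtype_le _) hKC) fun x hx => ?_
      obtain ⟨k, hk⟩ := hex 0 0 0 (π ⟨x, hx⟩)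
      have hkC : k ∈ C := hmemC k ⟨_, _, _, _, hk⟩
      have hπk : π ⟨k, hkC⟩ = π ⟨x, hx⟩ := Units.ext (hlvl k _ _ _ _ hk)
      have hq : x * k⁻¹ ∈ Q' := ⟨⟨x, hx⟩ * ⟨k, hkC⟩⁻¹, by
        rw [SetLike.mem_coe, MonoidHom.mem_ker, map_mul, map_inv, hπk, mul_inv_cancel], rfl⟩
      have := Subgroup.mul_mem_sup hq ((hKmem k).mpr ⟨_, hk⟩ : k ∈ K)
      rwa [inv_mul_cancel_right] at this
    · refine ⟨MulEquiv.ofBijective (π.comp (Subgroup.inclusion hKC)) ⟨?_, ?_⟩⟩
      · rw [← MonoidHom.ker_eq_bot_iff, Subgroup.eq_bot_iff_forall]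
        intro x hx
        obtain ⟨B, e⟩ := (hKmem _).mp x.2
        have hB : B = 1 := by
          rw [← hlvl x _ _ _ _ e]
          exact congrArg Units.val (MonoidHom.mem_ker.mp hx)
        exact Subtype.ext (vinj (by rw [e, hB, Subgroup.coe_one, vone]))
      · intro B
        obtain ⟨x, hx⟩ := hex 0 0 0 B
        exact ⟨⟨x, (hKmem x).mpr ⟨_, hx⟩⟩, Units.ext (hlvl x _ _ _ _ hx)⟩

end CfsgLib.LargeExtraspecial.Transvection
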